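import Groth.Agent.SiteMod.Injective
import Groth.Agent.SiteCoh.ExtCompare
import Groth.Agent.QC70.ToSheaf

/-!
Cohomology of modules computed in the category of modules.
-/

universe u

open CategoryTheory CategoryTheory.Limits Opposite CategoryTheory.Abelian

namespace Groth.Agent.SiteMod

variable {C : Type u} [SmallCategory C] {J : GrothendieckTopology C} (R : Sheaf J RingCat.{u})

/-- The constant presheaf `ℤ`. -/
abbrev constZ : Cᵒᵖ ⥤ AddCommGrpCat.{u} :=
  (Functor.const Cᵒᵖ).obj (AddCommGrpCat.of (ULift.{u} ℤ))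

lemma torFree_sheafify (P : Cᵒᵖ ⥤ AddCommGrpCat.{u})
    (h : ∀ (U : Cᵒᵖ) (n : ℕ) (x : P.obj U), n ≠ 0 → n • x = 0 → x = 0) :
    SiteCoh.TorFree ((presheafToSheaf J AddCommGrpCat.{u}).obj P) := by
  rw [SiteCoh.torFree_iff_mono]
  intro n hn
  rw [← (presheafToSheaf J AddCommGrpCat.{u}).map_id, ← Functor.map_nsmul]
  have : ∀ U : Cᵒᵖ, Mono ((n • 𝟙 P).app U) := fun U => by
    rw [AddCommGrpCat.mono_iff_injective, injective_iff_map_eq_zero]
    intro x hx
    refine h U n x hn (Eq.trans ?_ hx)
    simp
  have := NatTrans.mono_of_mono_app (n • 𝟙 P)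
  infer_instance

lemma torFree_constantSheaf :
    SiteCoh.TorFree ((constantSheaf J AddCommGrpCat.{u}).obj (AddCommGrpCat.of (ULift.{u} ℤ))) := by
  refine torFree_sheafify constZ fun U n x hn hx => ?_
  have h' : (n • x).down = (0 : ℤ) := congrArg ULift.down hx
  apply ULift.down_injective
  have h2 : (n : ℤ) * x.down = 0 := by rw [← h']; simp [nsmul_eq_mul]
  simpa [hn] using h2

/-- The section `1` of the unit module, as a map out of the constant sheaf `ℤ`. -/
noncomputable def unitSec :
    (constantSheaf J AddCommGrpCat.{u}).obj (AddCommGrpCat.of (ULift.{u} ℤ)) ⟶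
      (SheafOfModules.toSheaf R).obj (SheafOfModules.unit R) :=
  ((sheafificationAdjunction J AddCommGrpCat.{u}).homEquiv constZ _).symm
    { app := fun U => AddCommGrpCat.ofHom (AddMonoidHom.comp (zmultiplesHom _
          (show (SheafOfModules.toSheaf R).obj (SheafOfModules.unit R) |>.obj.obj U from
            (1 : R.obj.obj U))) AddEquiv.ulift.toAddMonoidHom)
      naturality := fun U V f => by
        ext ⟨n⟩
        change n • (show (R.obj.obj V : Type u) from 1) = R.obj.map f (n • (1 : R.obj.obj U))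
        rw [map_zsmul, map_one] }

lemma sheafHomEquiv_unitSec_comp {M : SheafOfModules.{u} R} (φ : SheafOfModules.unit R ⟶ M)
    (U : Cᵒᵖ) :
    ((sheafificationAdjunction J AddCommGrpCat.{u}).homEquiv constZ _
      (unitSec R ≫ (SheafOfModules.toSheaf R).map φ)).app U ⟨1⟩ = φ.val.app U (1 : R.obj.obj U) := by
  rw [unitSec, Adjunction.homEquiv_naturality_right, Equiv.apply_symm_apply]
  exact congrArg (φ.val.app U) (one_zsmul (1 : R.obj.obj U))

lemma unitSec_bijective (M : SheafOfModules.{u} R) :
    Function.Bijective fun φ : SheafOfModules.unit R ⟶ M =>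
      unitSec R ≫ (SheafOfModules.toSheaf R).map φ := by
  constructor
  · intro φ ψ h
    apply M.unitHomEquiv.injective
    refine PresheafOfModules.sections_ext _ _ fun U => ?_
    exact ((sheafHomEquiv_unitSec_comp R φ U).symm.trans
      (congrArg (fun t => ((sheafificationAdjunction J AddCommGrpCat.{u}).homEquiv constZ _ t).app U
        (⟨1⟩ : ULift.{u} ℤ)) h)).trans (sheafHomEquiv_unitSec_comp R ψ U)
  · intro t
    let t' := (sheafificationAdjunction J AddCommGrpCat.{u}).homEquiv constZ _ t
    let s : M.sections := PresheafOfModules.sectionsMk (fun U => t'.app U ⟨1⟩)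
      (fun U V f => (NatTrans.naturality_apply t' f (⟨1⟩ : ULift.{u} ℤ)).symm)
    refine ⟨M.unitHomEquiv.symm s, ?_⟩
    apply ((sheafificationAdjunction J AddCommGrpCat.{u}).homEquiv constZ _).injective
    ext U ⟨n⟩
    have hn : (⟨n⟩ : ULift.{u} ℤ) = n • ⟨1⟩ := by ext; simp
    rw [hn, map_zsmul, map_zsmul]
    refine congrArg (fun x => n • x) ((sheafHomEquiv_unitSec_comp R _ U).trans ?_)
    have : (M.unitHomEquiv (M.unitHomEquiv.symm s)).val U = s.val U := by rw [Equiv.apply_symm_apply]
    exact this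

/-- `Ext^n_O(O, M) ≅ H^n(M)`. -/
noncomputable def unitExtEquiv [HasExt.{u} (SheafOfModules.{u} R)] (M : SheafOfModules.{u} R) (n : ℕ) :
    Ext.{u} (SheafOfModules.unit R) M n ≃+ Sheaf.H.{u} ((SheafOfModules.toSheaf R).obj M) n :=
  AddEquiv.ofBijective (SiteCoh.extTransfer (SheafOfModules.toSheaf R) (unitSec R) M n)
    (SiteCoh.extTransfer_bijective _ _ (unitSec_bijective R)
      (fun I _ k => SiteCoh.ext_subsingleton_of_torExtends (torExtends_toSheaf_injective R I) k _
        torFree_constantSheaf) n M)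

end Groth.Agent.SiteMod
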