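import Groth.Agent.SiteMod.Scal
import Groth.Agent.SiteCoh.Torsion
import Groth.Agent.Coh69.Grothendieck
import Mathlib.Algebra.Category.ModuleCat.Presheaf.EpiMono
import Mathlib.Algebra.Category.ModuleCat.Presheaf.Generator

/-!
Injective sheaves of modules: the extension property, total acyclicity, surjective restrictions.
-/

universe u

open CategoryTheory CategoryTheory.Limits Opposite
open scoped TensorProduct

namespace Groth.Agent.SiteMod

variable {C : Type u} [SmallCategory C] {J : GrothendieckTopology C}

lemma sections_exact (S : ShortComplex (Sheaf J AddCommGrpCat.{u})) (hS : S.ShortExact) (U : Cᵒᵖ) :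
    Function.Injective (S.f.hom.app U) ∧ Function.Exact (S.f.hom.app U) (S.g.hom.app U) := by
  let F : Sheaf J AddCommGrpCat.{u} ⥤ AddCommGrpCat.{u} :=
    sheafToPresheaf J AddCommGrpCat.{u} ⋙ (evaluation Cᵒᵖ AddCommGrpCat.{u}).obj U
  have hl : PreservesFiniteLimits F := comp_preservesFiniteLimits _ _
  have := hS.mono_f
  refine ⟨?_, ?_⟩
  · have : Mono (F.map S.f) := inferInstance
    exact (AddCommGrpCat.mono_iff_injective _).1 this
  · exact (ShortComplex.ab_exact_iff_function_exact _).1
      (ShortComplex.Exact.map_of_mono_of_preservesKernel hS.exact F hS.mono_f inferInstance)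

/-- Monomorphisms of presheaves of modules remain monomorphisms after sheafification. -/
lemma mono_sheafification_map (R : Sheaf J RingCat.{u}) {P Q : PresheafOfModules.{u} R.obj}
    (f : P ⟶ Q) [Mono f] : Mono ((PresheafOfModules.sheafification (𝟙 R.obj)).map f) := by
  have : (PresheafOfModules.sheafification (J := J) (R := R) (𝟙 R.obj)).PreservesMonomorphisms :=
    preservesMonomorphisms_of_preservesLimitsOfShape _
  infer_instance

/-- The underlying abelian sheaf of an injective module has the extension property. -/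
theorem torExtends_toSheaf_injective (R : Sheaf J RingCat.{u}) (I : SheafOfModules.{u} R)
    [Injective I] : SiteCoh.TorExtends ((SheafOfModules.toSheaf R).obj I) := by
  intro S hS h1 h2 h3 φ
  let adj := PresheafOfModules.sheafificationAdjunction (𝟙 R.obj)
  let j : scal R.obj S.X₁.obj ⟶ scal R.obj S.X₂.obj := scalMap S.f.hom
  have : Mono j := by
    refine PresheafOfModules.mono_of_injective (fun {U} => ?_)
    obtain ⟨hi, he⟩ := sections_exact S hS U
    have h := lTensor_injective_of_torsionFree (S.f.hom.app U).hom hi (S.g.hom.app U).hom he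
      (fun n x => h3 U.unop n x) (R.obj.obj U)
    refine fun x y hxy => h (Eq.trans ?_ (Eq.trans hxy ?_))
    all_goals
      rename_i z
      exact rfl
  have := mono_sheafification_map R j
  let φ' : scal R.obj S.X₁.obj ⟶ I.val := scalDesc φ.hom
  let e : (PresheafOfModules.sheafification (𝟙 R.obj)).obj (scal R.obj S.X₁.obj) ⟶ I :=
    (adj.homEquiv _ I).symm φ'
  obtain ⟨ψ, hψ⟩ : ∃ ψ, (PresheafOfModules.sheafification (𝟙 R.obj)).map j ≫ ψ = e :=
    ⟨Injective.factorThru e _, Injective.comp_factorThru e _⟩
  let ψ' : scal R.obj S.X₂.obj ⟶ I.val := adj.homEquiv _ I ψ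
  have hj : j ≫ ψ' = φ' :=
    (adj.homEquiv_naturality_left j ψ).symm.trans
      ((congrArg (adj.homEquiv _ I) hψ).trans ((adj.homEquiv _ I).apply_symm_apply φ'))
  refine ⟨⟨scalUnit S.X₂.obj ≫ (PresheafOfModules.toPresheaf R.obj).map ψ'⟩, ?_⟩
  apply ObjectProperty.hom_ext
  ext U a
  have h := congr($(hj).app U ((1 : R.obj.obj U) ⊗ₜ[ℤ] a))
  exact Eq.trans h (one_smul (R.obj.obj U) (show I.val.obj U from φ.hom.app U a))

/-- Injective modules are totally acyclic. -/
theorem isTotallyAcyclic_toSheaf_injective (R : Sheaf J RingCat.{u}) (I : SheafOfModules.{u} R)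
    [Injective I] : CohCx.IsTotallyAcyclic ((SheafOfModules.toSheaf R).obj I) :=
  SiteCoh.isTotallyAcyclic_of_torExtends (torExtends_toSheaf_injective R I)

/-- Restriction of an injective module along a monomorphism is surjective. -/
theorem restriction_surjective (R : Sheaf J RingCat.{u}) (I : SheafOfModules.{u} R) [Injective I]
    {U U' : C} (a : U' ⟶ U) [Mono a] : Function.Surjective (I.val.map a.op) := by
  intro x
  let adj := PresheafOfModules.sheafificationAdjunction (𝟙 R.obj)
  let F := PresheafOfModules.free R.obj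
  let j : F.obj (yoneda.obj U') ⟶ F.obj (yoneda.obj U) := F.map (yoneda.map a)
  have : Mono j := by
    refine PresheafOfModules.mono_of_injective (fun {V} => ?_)
    exact Finsupp.mapDomain_injective ((mono_iff_injective ((yoneda.map a).app V)).1
      ((NatTrans.mono_iff_mono_app _).1 inferInstance V))
  have := mono_sheafification_map R j
  let e : (PresheafOfModules.sheafification (𝟙 R.obj)).obj (F.obj (yoneda.obj U')) ⟶ I :=
    (adj.homEquiv _ I).symm (PresheafOfModules.freeYonedaEquiv.symm x)
  obtain ⟨ψ, hψ⟩ : ∃ ψ, (PresheafOfModules.sheafification (𝟙 R.obj)).map j ≫ ψ = e :=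
    ⟨Injective.factorThru e _, Injective.comp_factorThru e _⟩
  let ψ' : F.obj (yoneda.obj U) ⟶ I.val := adj.homEquiv _ I ψ
  have hj : j ≫ ψ' = PresheafOfModules.freeYonedaEquiv.symm x :=
    (adj.homEquiv_naturality_left j ψ).symm.trans
      ((congrArg (adj.homEquiv _ I) hψ).trans ((adj.homEquiv _ I).apply_symm_apply _))
  refine ⟨PresheafOfModules.freeYonedaEquiv ψ', ?_⟩
  have h1 : PresheafOfModules.freeYonedaEquiv (j ≫ ψ') = x := by rw [hj, Equiv.apply_symm_apply]
  rw [← h1]
  have h2 := PresheafOfModules.naturality_apply ψ' a.op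
    (ModuleCat.freeMk (R := R.obj.obj (op U)) (𝟙 U))
  refine h2.symm.trans ?_
  show ψ'.app (op U') _ = ψ'.app (op U') _
  congr 1
  refine (ModuleCat.freeDesc_apply _ _).trans ?_
  change ModuleCat.freeMk (a ≫ 𝟙 U) = _
  rw [Category.comp_id]
  exact ((ModuleCat.free_map_apply _ _).trans (congrArg _ (Category.id_comp a))).symm

end Groth.Agent.SiteMod
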