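import Groth.Agent.SiteMod.Scal
import Groth.Agent.SiteMod.Injective
import Groth.Agent.Mod48.Tensor
import Mathlib.RingTheory.Flat.Stability
import Mathlib.Algebra.Category.ModuleCat.Presheaf.EpiMono

/-!
Internal hom into an injective module is totally acyclic.
-/

universe u

open CategoryTheory CategoryTheory.Limits Opposite MonoidalCategory
open scoped TensorProduct

namespace Groth.Agent.SiteMod

/-- Base change of an injection with torsion-free cokernel stays injective after tensoring. -/
lemma rTensor_baseChange_injective {M N P : Type*} [AddCommGroup M] [AddCommGroup N]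
    [AddCommGroup P] (g : M →+ N) (hg : Function.Injective g) (f : N →+ P)
    (H : Function.Exact g f) (hP : ∀ (n : ℕ) (x : P), n ≠ 0 → n • x = 0 → x = 0)
    (A : Type*) [CommRing A] (F : Type*) [AddCommGroup F] [Module A F] :
    Function.Injective ((TensorProduct.AlgebraTensorModule.map (LinearMap.id : A →ₗ[A] A)
      g.toIntLinearMap).rTensor F) := by
  let f' := f.toIntLinearMap.rangeRestrict
  have : Module.IsTorsionFree ℤ P := by
    refine ⟨fun r hr a b hab => ?_⟩
    replace hr : r ≠ 0 := hr.ne_zero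
    have h : r • (a - b) = 0 := by rw [smul_sub]; exact sub_eq_zero.2 hab
    refine sub_eq_zero.1 (hP r.natAbs _ (by simpa using hr) ?_)
    rcases Int.natAbs_eq r with e | e
    · rw [e, natCast_zsmul] at h; exact h
    · rw [e, neg_smul, natCast_zsmul, neg_eq_zero] at h; exact h
  have hfl : Module.Flat A (A ⊗[ℤ] f.toIntLinearMap.range) := inferInstance
  let gA : A ⊗[ℤ] M →ₗ[A] A ⊗[ℤ] N :=
    TensorProduct.AlgebraTensorModule.map LinearMap.id g.toIntLinearMap
  let fA : A ⊗[ℤ] N →ₗ[A] A ⊗[ℤ] f.toIntLinearMap.range :=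
    TensorProduct.AlgebraTensorModule.map LinearMap.id f'
  have hf' : Function.Surjective f' := f.toIntLinearMap.surjective_rangeRestrict
  have he : Function.Exact g.toIntLinearMap f' := fun x =>
    ⟨fun h => (H x).1 (congrArg Subtype.val h), fun h => Subtype.ext ((H x).2 h)⟩
  refine (gA.lTensor_inj_iff_rTensor_inj F).1 ?_
  refine LinearMap.lTensor_injective_of_exact_of_flat (R := A) fA ?_ gA ?_ ?_ F
  · exact LinearMap.lTensor_surjective A hf'
  · exact lTensor_injective_of_torsionFree g hg f H hP A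
  · exact lTensor_exact A he hf'

variable {C : Type u} [SmallCategory C] {J : GrothendieckTopology C} {O : Sheaf J CommRingCat.{u}}

/-- The internal hom into an injective module has the extension property. -/
theorem torExtends_sheafHom (F G : ModSite.Mod O) [ModSite.HasSheafHom F] [Injective G] :
    SiteCoh.TorExtends (ModSite.toAb ((ModSite.sheafHom F).obj G)) := by
  intro S hS h1 h2 h3 φ
  let H := (ModSite.sheafHom F).obj G
  let X (i : Sheaf J AddCommGrpCat.{u}) : Mod48.PreM O :=
    scal (O.obj ⋙ forget₂ CommRingCat.{u} RingCat.{u}) i.obj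
  let j : X S.X₁ ⟶ X S.X₂ := scalMap S.f.hom
  have hmono : Mono (j ▷ Mod48.pre F) := by
    refine PresheafOfModules.mono_of_injective (fun {U} => ?_)
    obtain ⟨hi, he⟩ := sections_exact S hS U
    exact rTensor_baseChange_injective (S.f.hom.app U).hom hi (S.g.hom.app U).hom he
      (fun n x => h3 U.unop n x) (O.obj.obj U) (F.val.obj U)
  have : (Mod48.shf : Mod48.PreM O ⥤ ModSite.Mod O).PreservesMonomorphisms :=
    preservesMonomorphisms_of_preservesLimitsOfShape _
  have h' : Mono ((Mod48.tR F).map (Mod48.shf.map j)) := by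
    have e := (Mod48.tensShfLeft F).hom.naturality j
    have hm : Mono ((tensorRight (Mod48.pre F) ⋙ Mod48.shf).map j) :=
      inferInstanceAs (Mono (Mod48.shf.map (j ▷ Mod48.pre F)))
    have hm2 : Mono ((Mod48.shf ⋙ Mod48.tR F).map j) := by
      rw [← cancel_epi ((Mod48.tensShfLeft F).inv.app (X S.X₁))] at e
      rw [Iso.inv_hom_id_app_assoc] at e
      rw [← e]
      infer_instance
    exact hm2
  let φ' : X S.X₁ ⟶ Mod48.pre H := scalDesc φ.hom
  let t : Mod48.shf.obj (X S.X₁) ⟶ H := (Mod48.shfHomEquiv _ H).symm φ'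
  let adj := ModSite.sheafHomAdj F
  let e : (Mod48.tR F).obj (Mod48.shf.obj (X S.X₁)) ⟶ G := (adj.homEquiv _ G).symm t
  let ψ0 : (Mod48.tR F).obj (Mod48.shf.obj (X S.X₂)) ⟶ G :=
    Injective.factorThru e ((Mod48.tR F).map (Mod48.shf.map j))
  have hψ0 : (Mod48.tR F).map (Mod48.shf.map j) ≫ ψ0 = e := Injective.comp_factorThru _ _
  let ψ1 : Mod48.shf.obj (X S.X₂) ⟶ H := adj.homEquiv _ G ψ0
  have h4 : Mod48.shf.map j ≫ ψ1 = t :=
    (adj.homEquiv_naturality_left _ ψ0).symm.trans
      ((congrArg (adj.homEquiv _ G) hψ0).trans ((adj.homEquiv _ G).apply_symm_apply t))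
  let ψ' : X S.X₂ ⟶ Mod48.pre H := Mod48.shfHomEquiv _ H ψ1
  have hj : j ≫ ψ' = φ' := by
    rw [← Mod48.shfHomEquiv_naturality_left, h4]
    exact Equiv.apply_symm_apply _ _
  refine ⟨⟨scalUnit S.X₂.obj ≫ (PresheafOfModules.toPresheaf _).map ψ'⟩, ?_⟩
  apply ObjectProperty.hom_ext
  ext U a
  have h := congr($(hj).app U ((1 : O.obj.obj U) ⊗ₜ[ℤ] a))
  exact Eq.trans h (one_smul (O.obj.obj U) (show H.val.obj U from φ.hom.app U a))

end Groth.Agent.SiteMod
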