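import Groth.Agent.Mod48.FreeExt
import Mathlib.CategoryTheory.Limits.Preserves.Basic
import Mathlib.CategoryTheory.Abelian.Basic

/-!
A natural transformation between colimit preserving functors which is invertible on the free
modules on objects is invertible.
-/

universe u v w

open CategoryTheory CategoryTheory.Limits Opposite

namespace Groth.Agent.SiteMod

open Mod48

lemma isIso_app_of_isColimit {A B K : Type*} [Category* A] [Category* B] [Category* K] {F G : A ⥤ B}
    (α : F ⟶ G) {P : K ⥤ A} {c : Cocone P} (hc : IsColimit c) [PreservesColimit P F] [PreservesColimit P G]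
    (h : ∀ k, IsIso (α.app (P.obj k))) : IsIso (α.app c.pt) := by
  let hF := isColimitOfPreserves F hc
  let hG := isColimitOfPreserves G hc
  let s : Cocone (P ⋙ G) :=
    { pt := F.obj c.pt
      ι :=
        { app := fun k => inv (α.app (P.obj k)) ≫ F.map (c.ι.app k)
          naturality := fun k k' a => by
            dsimp
            rw [Category.comp_id, ← cancel_epi (α.app (P.obj k)), IsIso.hom_inv_id_assoc,
              ← NatTrans.naturality_assoc, IsIso.hom_inv_id_assoc, ← F.map_comp, c.w a] } }
  refine ⟨⟨hG.desc s, hF.hom_ext fun k => ?_, hG.hom_ext fun k => ?_⟩⟩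
  · have h1 := hG.fac s k
    refine ((Category.assoc _ _ _).symm.trans
      ((congrArg (· ≫ hG.desc s) (α.naturality (c.ι.app k))).trans ((Category.assoc _ _ _).trans ?_)))
    refine (congrArg (α.app (P.obj k) ≫ ·) h1).trans ?_
    exact (IsIso.hom_inv_id_assoc _ _).trans (Category.comp_id _).symm
  · have h1 := hG.fac s k
    refine ((Category.assoc _ _ _).symm.trans ((congrArg (· ≫ α.app c.pt) h1).trans ?_))
    refine (Category.assoc _ _ _).trans ?_
    refine (congrArg (inv (α.app (P.obj k)) ≫ ·) (α.naturality (c.ι.app k))).trans ?_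
    exact (IsIso.inv_hom_id_assoc _ _).trans (Category.comp_id _).symm

variable {C : Type u} [SmallCategory C] {J : GrothendieckTopology C} {O : Sheaf J CommRingCat.{u}}
  {B : Type v} [Category.{w} B]

theorem isIso_of_isIso_app_freeOn {F G : ModSite.Mod O ⥤ B} (α : F ⟶ G)
    [PreservesColimitsOfSize.{u, u} F] [PreservesColimitsOfSize.{u, u} G]
    (h : ∀ X, IsIso (α.app (ModSite.freeOn O X))) : IsIso α := by
  have hsum : ∀ {M : ModSite.Mod O}, IsFreeSum M → IsIso (α.app M) := by
    rintro M ⟨ι, U, ⟨e⟩⟩
    have : IsIso (α.app (∐ fun j => ModSite.freeOn O (U j))) :=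
      isIso_app_of_isColimit α (colimit.isColimit (Discrete.functor fun j => ModSite.freeOn O (U j)))
        fun k => h (U k.as)
    have e' : α.app M = F.map e.hom ≫ α.app _ ≫ G.map e.inv := by
      rw [← NatTrans.naturality, ← F.map_comp_assoc, e.hom_inv_id, F.map_id, Category.id_comp]
    rw [e']
    infer_instance
  have := PreservesColimitsOfSize.preservesFiniteColimits.{u, u} F
  have := PreservesColimitsOfSize.preservesFiniteColimits.{u, u} G
  suffices ∀ M, IsIso (α.app M) from NatIso.isIso_of_isIso_app α
  intro M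
  obtain ⟨P₀, π, h₀, hπ⟩ := exists_freeSum_epi M
  obtain ⟨P₁, p, h₁, hp⟩ := exists_freeSum_epi (kernel π)
  have hc := isCokernelEpiComp (Abelian.epiIsCokernelOfKernel _ (kernelIsKernel π)) p rfl
  refine isIso_app_of_isColimit α hc fun k => ?_
  cases k
  · exact hsum h₁
  · exact hsum h₀

end Groth.Agent.SiteMod
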