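import Groth.Agent.SiteMod.PullTensor
import Groth.Agent.SiteMod.GenExtend

/-!
Inverse images of modules commute with tensor products.
-/

universe u

open CategoryTheory CategoryTheory.Limits Opposite MonoidalCategory

namespace Groth.Agent.SiteMod

open Mod48

variable {C D : Type u} [SmallCategory C] [SmallCategory D] {J : GrothendieckTopology C}
  {K : GrothendieckTopology D} {O_C : Sheaf J CommRingCat.{u}} {O_D : Sheaf K CommRingCat.{u}}
  (f : ModSite.RMor O_C O_D)

/-- The value on a pure tensor of the adjoint of a map out of `f^*(M ⊗ N)`. -/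
noncomputable abbrev pullVal {M N : ModSite.Mod O_D} {G : ModSite.Mod O_C}
    (α : f.pull.obj (tens M N) ⟶ G) {W : D} (a : (pre M).obj (op W)) (b : (pre N).obj (op W)) :
    (pre G).obj (op (f.fn.obj W)) :=
  ofPush f G ((shfHomEquiv _ (f.push.obj G) (f.adj.homEquiv _ G α)).app (op W) (tp a b))

lemma pullVal_ext {M N : ModSite.Mod O_D} {G : ModSite.Mod O_C} {α β : f.pull.obj (tens M N) ⟶ G}
    (h : ∀ (W : D) (a : (pre M).obj (op W)) (b : (pre N).obj (op W)), pullVal f α a b = pullVal f β a b) :
    α = β := by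
  apply (f.adj.homEquiv _ G).injective
  apply (shfHomEquiv _ (f.push.obj G)).injective
  exact tensor_hom_ext fun X a b => h X.unop a b

lemma pullVal_map_left {M M' N : ModSite.Mod O_D} (g : M ⟶ M') {G : ModSite.Mod O_C}
    (α : f.pull.obj (tens M' N) ⟶ G) {W : D} (a : (pre M).obj (op W)) (b : (pre N).obj (op W)) :
    pullVal f (f.pull.map ((tR N).map g) ≫ α) a b = pullVal f α ((fgt.map g).app (op W) a) b := by
  unfold pullVal
  rw [Adjunction.homEquiv_naturality_left]
  exact congrArg (fun z => ofPush f G (z.app (op W) (tp a b)))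
    (shfHomEquiv_naturality_left (fgt.map g ▷ pre N) (f.adj.homEquiv _ G α))

lemma pullVal_map_right {M N N' : ModSite.Mod O_D} (g : N ⟶ N') {G : ModSite.Mod O_C}
    (α : f.pull.obj (tens M N') ⟶ G) {W : D} (a : (pre M).obj (op W)) (b : (pre N).obj (op W)) :
    pullVal f (f.pull.map ((tL M).map g) ≫ α) a b = pullVal f α a ((fgt.map g).app (op W) b) := by
  unfold pullVal
  rw [Adjunction.homEquiv_naturality_left]
  exact congrArg (fun z => ofPush f G (z.app (op W) (tp a b)))
    (shfHomEquiv_naturality_left (pre M ◁ fgt.map g) (f.adj.homEquiv _ G α))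

lemma pullSect_natural {M M' : ModSite.Mod O_D} (g : M ⟶ M') {W : D} (a : (pre M).obj (op W)) :
    (fgt.map (f.pull.map g)).app (op (f.fn.obj W)) (pullSect f M a) =
      pullSect f M' ((fgt.map g).app (op W) a) :=
  (congrArg (fun φ : M ⟶ f.push.obj (f.pull.obj M') => (fgt.map φ).app (op W) a)
    (f.adj.unit.naturality g)).symm

lemma pullTensHom_natural_left {M M' : ModSite.Mod O_D} (g : M ⟶ M') (N : ModSite.Mod O_D) :
    f.pull.map ((tR N).map g) ≫ pullTensHom f M' N =
      pullTensHom f M N ≫ (tR (f.pull.obj N)).map (f.pull.map g) := by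
  refine pullVal_ext f fun W a b => ?_
  rw [pullVal_map_left]
  refine Eq.trans ?_ (pullTensHom_comp_tp f M N _ a b).symm
  refine Eq.trans ?_ (congrArg (fun z => z.app (op (f.fn.obj W)) (tp (pullSect f M a) (pullSect f N b)))
    (shfAdj.unit.naturality (fgt.map (f.pull.map g) ▷ pre (f.pull.obj N))))
  have h := pullTensHom_comp_tp f M' N (𝟙 _) ((fgt.map g).app (op W) a) b
  rw [Category.comp_id] at h
  refine h.trans ?_
  rw [shfHomEquiv, Adjunction.homEquiv_id]
  exact congrArg (fun z => (shfAdj.unit.app _).app (op (f.fn.obj W)) (tp z (pullSect f N b)))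
    (pullSect_natural f g a).symm

lemma pullTensHom_natural_right (M : ModSite.Mod O_D) {N N' : ModSite.Mod O_D} (g : N ⟶ N') :
    f.pull.map ((tL M).map g) ≫ pullTensHom f M N' =
      pullTensHom f M N ≫ (tL (f.pull.obj M)).map (f.pull.map g) := by
  refine pullVal_ext f fun W a b => ?_
  rw [pullVal_map_right]
  refine Eq.trans ?_ (pullTensHom_comp_tp f M N _ a b).symm
  refine Eq.trans ?_ (congrArg (fun z => z.app (op (f.fn.obj W)) (tp (pullSect f M a) (pullSect f N b)))
    (shfAdj.unit.naturality (pre (f.pull.obj M) ◁ fgt.map (f.pull.map g))))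
  have h := pullTensHom_comp_tp f M N' (𝟙 _) a ((fgt.map g).app (op W) b)
  rw [Category.comp_id] at h
  refine h.trans ?_
  rw [shfHomEquiv, Adjunction.homEquiv_id]
  exact congrArg (fun z => (shfAdj.unit.app _).app (op (f.fn.obj W)) (tp (pullSect f M a) z))
    (pullSect_natural f g b).symm

/-- The comparison, natural in the first variable. -/
noncomputable def pullTensLeft (N : ModSite.Mod O_D) : tR N ⋙ f.pull ⟶ f.pull ⋙ tR (f.pull.obj N) where
  app M := pullTensHom f M N
  naturality M M' g := pullTensHom_natural_left f g N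

/-- The comparison, natural in the second variable. -/
noncomputable def pullTensRight (M : ModSite.Mod O_D) : tL M ⋙ f.pull ⟶ f.pull ⋙ tL (f.pull.obj M) where
  app N := pullTensHom f M N
  naturality N N' g := pullTensHom_natural_right f M g

theorem isIso_pullTensLeft (N : ModSite.Mod O_D) : IsIso (pullTensLeft f N) := by
  have : PreservesColimitsOfSize.{u, u} f.pull := f.adj.leftAdjoint_preservesColimits
  have : PreservesColimitsOfSize.{u, u} (tR (f.pull.obj N)) := ⟨inferInstance⟩
  have : PreservesColimitsOfSize.{u, u} (tR N) := ⟨inferInstance⟩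
  refine isIso_of_isIso_app_freeOn _ fun X => ?_
  change IsIso ((pullTensRight f (ModSite.freeOn O_D X)).app N)
  have : IsIso (pullTensRight f (ModSite.freeOn O_D X)) := by
    have : PreservesColimitsOfSize.{u, u} (tL (f.pull.obj (ModSite.freeOn O_D X))) := ⟨inferInstance⟩
    have : PreservesColimitsOfSize.{u, u} (tL (ModSite.freeOn O_D X)) := ⟨inferInstance⟩
    exact isIso_of_isIso_app_freeOn _ fun Y =>
      isIso_pullTensHom_of_isGen f (isGen_freeOn X) (isGen_freeOn Y)
  infer_instance

/-- Inverse images commute with tensor products. -/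
noncomputable def pullTensIso (N : ModSite.Mod O_D) : tR N ⋙ f.pull ≅ f.pull ⋙ tR (f.pull.obj N) :=
  @asIso _ _ _ _ (pullTensLeft f N) (isIso_pullTensLeft f N)

end Groth.Agent.SiteMod
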