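import Groth.Agent.SiteMod.FlatCritConv
import Groth.Agent.SGA45.ExtByZero
import Groth.Prelude.Def_ModSite2

/-!
Extension by zero: exactness and flatness.
-/

universe u

open CategoryTheory CategoryTheory.Limits Opposite

namespace Groth.Agent.SiteMod

open Mod48
open SGA45 (ExtByZero.ext ExtByZero.shAdj ExtByZero.ins ExtByZero.restr ExtByZero.extMap_ins ExtByZero.main)

variable {C : Type u} [SmallCategory C] {J : GrothendieckTopology C} {O : Sheaf J CommRingCat.{u}} (U : C)

/-- A module on `C/U` as a presheaf of modules over the restricted presheaf of rings. -/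
noncomputable abbrev val' (M : ModSite.Mod (O.over U)) :
    PresheafOfModules.{u} (SGA45.ExtByZero.Rx U (ModSite.ringSh O).obj) := M.val

/-- A function on `W` as one on `W ⟶ U`. -/
noncomputable abbrev sc {W : C} (φ : W ⟶ U) (r : O.obj.obj (op W)) :
    (O.over U).obj.obj (op (Over.mk φ)) := r

/-- The presheaf extension by zero. -/
noncomputable def extPre (M : ModSite.Mod (O.over U)) : PreM O :=
  (SGA45.ExtByZero.ext U (ModSite.ringSh O).obj).obj M.val

/-- Extension by zero is the sheafified presheaf extension by zero. -/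
noncomputable def extZeroIso (M : ModSite.Mod (O.over U)) :
    shf.obj (extPre U M) ≅ (ModSite.extZero O U).obj M :=
  ((SGA45.ExtByZero.shAdj (X := U) (ModSite.ringSh O)).leftAdjointUniq (ModSite.extZeroAdj O U)).app M

theorem extZero_preservesFiniteLimits : PreservesFiniteLimits (ModSite.extZero O U) :=
  ((SGA45.ExtByZero.main J U (ModSite.ringSh O)).2 (ModSite.extZero O U) (ModSite.extZeroAdj O U)).1

/-- A summand. -/
noncomputable def summand (M : ModSite.Mod (O.over U)) {W : C} (φ : W ⟶ U) :
    (pre M).obj (op (Over.mk φ)) →+ (extPre U M).obj (op W) :=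
  AddMonoidHom.mk' (fun x => SGA45.ExtByZero.ins (val' U M) (op W) φ x)
    (fun x y => map_add (SGA45.ExtByZero.ins (val' U M) (op W) φ) x y)

lemma summand_smul (M : ModSite.Mod (O.over U)) {W : C} (φ : W ⟶ U) (r : O.obj.obj (op W))
    (x : (pre M).obj (op (Over.mk φ))) :
    summand U M φ (sc U φ r • x) = r • summand U M φ x :=
  (SGA45.ExtByZero.ins (val' U M) (op W) φ).map_smul r x

lemma res_summand (M : ModSite.Mod (O.over U)) {W : C} {Y : Over U} {φ : W ⟶ U} (h : Y ⟶ Over.mk φ)
    (x : (pre M).obj (op (Over.mk φ))) :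
    res (extPre U M) h.left.op (summand U M φ x) = summand U M Y.hom (res (pre M) h.op x) := by
  refine (SGA45.ExtByZero.extMap_ins (val' U M) h.left.op φ x).trans ?_
  exact SGA45.ExtByZero.ins_restr_congr (val' U M) h.left.op φ rfl (Over.w h) x

variable {U}

lemma LocTriv.zero {P : PreM O} {X : C} {n : ℕ} (f : Fin n → O.obj.obj (op X)) :
    LocTriv P f (fun _ => 0) :=
  ⟨⊤, J.top_mem X, fun _ g _ =>
    ⟨0, fun _ => Fin.elim0, Fin.elim0, fun _ => by rw [res_zero]; simp, fun j => j.elim0⟩⟩

lemma LocTriv.add {P : PreM O} {X : C} {n : ℕ} {f : Fin n → O.obj.obj (op X)}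
    {s s' : Fin n → P.obj (op X)} (h : LocTriv P f s) (h' : LocTriv P f s') :
    LocTriv P f (fun i => s i + s' i) := by
  obtain ⟨S, hS, hd⟩ := h
  obtain ⟨S', hS', hd'⟩ := h'
  refine ⟨S ⊓ S', J.intersection_covering hS hS', fun Y g hg => ?_⟩
  obtain ⟨m, a, t, hs, ha⟩ := hd g hg.1
  obtain ⟨m', a', t', hs', ha'⟩ := hd' g hg.2
  refine ⟨m + m', fun i => Fin.append (a i) (a' i), Fin.append t t', fun i => ?_, fun j => ?_⟩
  · rw [res_add, hs i, hs' i, Fin.sum_univ_add]
    simp
  · induction j using Fin.addCases with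
    | left j => simpa using ha j
    | right j => simpa using ha' j

lemma locTriv_summand (M : ModSite.Mod (O.over U)) (hM : LocFlat (pre M)) {W : C} {n : ℕ}
    (f : Fin n → O.obj.obj (op W)) (φ : W ⟶ U) (x : Fin n → (pre M).obj (op (Over.mk φ)))
    (hx : ∑ i, sc U φ (f i) • x i = 0) : LocTriv (extPre U M) f (fun i => summand U M φ (x i)) := by
  obtain ⟨S, hS, hd⟩ := hM (Over.mk φ) n (fun i => sc U φ (f i)) x hx
  refine ⟨Sieve.overEquiv _ S, hS, fun V g hg => ?_⟩
  rw [Sieve.overEquiv_iff] at hg
  let h : Over.mk (g ≫ φ) ⟶ Over.mk φ := Over.homMk g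
  obtain ⟨m, a, t, hs, ha⟩ := hd h hg
  refine ⟨m, a, fun j => summand U M (g ≫ φ) (t j), fun i => ?_, ha⟩
  refine (res_summand U M h (x i)).trans ?_
  rw [hs i]
  exact (map_sum (summand U M (g ≫ φ)) _ _).trans
    (Finset.sum_congr rfl fun j _ => summand_smul U M (g ≫ φ) (a i j) (t j))

/-- The component at `φ`. -/
noncomputable def component (M : ModSite.Mod (O.over U)) {W : C} (φ : W ⟶ U) :
    (extPre U M).obj (op W) →+ (pre M).obj (op (Over.mk φ)) :=
  AddMonoidHom.mk' (fun z =>
    (show DirectSum (W ⟶ U) (fun φ => SGA45.ExtByZero.fib (val' U M) (op W) φ) from z) φ) (fun _ _ => rfl)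

lemma component_smul (M : ModSite.Mod (O.over U)) {W : C} (φ : W ⟶ U) (r : O.obj.obj (op W))
    (z : (extPre U M).obj (op W)) : component M φ (r • z) = sc U φ r • component M φ z := rfl

lemma exists_finset_component (M : ModSite.Mod (O.over U)) {W : C} (z : (extPre U M).obj (op W)) :
    ∃ F₀ : Finset (W ⟶ U), ∀ F, F₀ ⊆ F → z = ∑ φ ∈ F, summand U M φ (component M φ z) := by
  classical
  let z' : DirectSum (W ⟶ U) (fun φ => SGA45.ExtByZero.fib (val' U M) (op W) φ) := z
  refine ⟨DFinsupp.support z', fun F hF => ?_⟩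
  have h := (DirectSum.sum_support_of z').symm
  have h2 : ∑ φ ∈ DFinsupp.support z', DirectSum.of _ φ (z' φ) =
      ∑ φ ∈ F, DirectSum.of (fun φ => SGA45.ExtByZero.fib (val' U M) (op W) φ) φ (z' φ) :=
    Finset.sum_subset hF fun φ _ hφ => by
      rw [DFinsupp.notMem_support_iff.1 hφ, map_zero]
  refine (h.trans h2).trans (Finset.sum_congr rfl fun φ _ => ?_)
  change _ = SGA45.ExtByZero.ins (val' U M) (op W) φ (z' φ)
  simp only [SGA45.ExtByZero.ins, DirectSum.lof_eq_of]

/-- Extension by zero of presheaves preserves the criterion. -/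
theorem locFlat_extPre (M : ModSite.Mod (O.over U)) (hM : LocFlat (pre M)) : LocFlat (extPre U M) := by
  classical
  intro W n f s hrel
  choose F₀ hF₀ using fun i => exists_finset_component M (s i)
  let F := Finset.univ.biUnion F₀
  have hcomp : ∀ φ : W ⟶ U, ∑ i, sc U φ (f i) • component M φ (s i) = 0 := fun φ => by
    have := congrArg (component M φ) hrel
    rw [map_sum, map_zero] at this
    simpa only [component_smul] using this
  have hpart : ∀ G : Finset (W ⟶ U),
      LocTriv (extPre U M) f (fun i => ∑ φ ∈ G, summand U M φ (component M φ (s i))) := by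
    intro G
    induction G using Finset.induction with
    | empty =>
      simp only [Finset.sum_empty]
      exact LocTriv.zero f
    | insert φ G hφ ih =>
      simp only [Finset.sum_insert hφ]
      exact LocTriv.add (locTriv_summand M hM f φ _ (hcomp φ)) ih
  have hs : s = fun i => ∑ φ ∈ F, summand U M φ (component M φ (s i)) :=
    funext fun i => hF₀ i F (Finset.subset_biUnion_of_mem F₀ (Finset.mem_univ i))
  rw [hs]
  exact hpart F

/-- Extension by zero of a flat module is flat. -/
theorem isFlat_extZero (M : ModSite.Mod (O.over U)) (hM : ModSite.IsFlat M) :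
    ModSite.IsFlat ((ModSite.extZero O U).obj M) :=
  isFlat_of_iso (extZeroIso U M) (isFlat_shf_of_locFlat (locFlat_extPre M (locFlat_of_isFlat hM)))

end Groth.Agent.SiteMod
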