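import Groth.Agent.SiteMod.RestrTensor
import Groth.Agent.Mod48.FreeOn
import Groth.Agent.Mod48.Exact
import Mathlib.CategoryTheory.Adjunction.Additive

/-!
The internal hom and restriction to `C/U`.
-/

universe u

open CategoryTheory CategoryTheory.Limits Opposite MonoidalCategory

namespace Groth.Agent.SiteMod

open Mod48

variable {C : Type u} [SmallCategory C] {J : GrothendieckTopology C} {O : Sheaf J CommRingCat.{u}}

instance restr_additive (U : C) : (ModSite.restr O U).Additive where
  map_add := rfl

/-- The adjunction `- ⊗ M ⊣ Hom(M, -)`. -/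
noncomputable def homAdj (M : ModSite.Mod O) [ModSite.HasSheafHom M] : tR M ⊣ ModSite.sheafHom M :=
  ModSite.sheafHomAdj M

/-- Restriction of the internal hom, naturally in the second argument. -/
noncomputable def restrHomIso (U : C) (M : ModSite.Mod O) [ModSite.HasSheafHom M]
    [ModSite.HasSheafHom ((ModSite.restr O U).obj M)] :
    ModSite.sheafHom M ⋙ ModSite.restr O U ≅
      ModSite.restr O U ⋙ ModSite.sheafHom ((ModSite.restr O U).obj M) :=
  ((((ModSite.extZeroAdj O U).comp (homAdj M))).ofNatIsoLeft (projIso U M).symm).rightAdjointUniq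
    ((homAdj ((ModSite.restr O U).obj M)).comp (ModSite.extZeroAdj O U))

/-- Sections over `U` as maps out of `j_! O_U`, additively. -/
noncomputable def freeOnAddEquiv (U : C) (F : ModSite.Mod O) :
    (ModSite.freeOn O U ⟶ F) ≃+ ModSite.sect F U where
  toEquiv := freeOnEquiv U F
  map_add' a b := by
    have : (ModSite.extZero O U).Additive := (ModSite.extZeroAdj O U).left_adjoint_additive
    change restrSectionsEquiv U F (((ModSite.restr O U).obj F).unitHomEquiv
      ((ModSite.extZeroAdj O U).homEquiv _ F (a + b))) = _
    rw [Adjunction.homAddEquiv_add]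
    rfl

/-- Sections of the internal hom over `U`. -/
noncomputable def sectHomEquiv (U : C) (M N : ModSite.Mod O) [ModSite.HasSheafHom M]
    [ModSite.HasSheafHom ((ModSite.restr O U).obj M)] :
    ModSite.sect ((ModSite.sheafHom M).obj N) U ≃+
      ((ModSite.restr O U).obj M ⟶ (ModSite.restr O U).obj N) :=
  have : (ModSite.extZero O U).Additive := (ModSite.extZeroAdj O U).left_adjoint_additive
  have : (tR ((ModSite.restr O U).obj M)).Additive :=
    (homAdj ((ModSite.restr O U).obj M)).left_adjoint_additive
  ((freeOnAddEquiv U ((ModSite.sheafHom M).obj N)).symm.trans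
    ((ModSite.extZeroAdj O U).homAddEquiv _ _)).trans
    (((preadditiveCoyoneda.obj (op (SheafOfModules.unit (ModSite.ringSh (O.over U))))).mapIso
        ((restrHomIso U M).app N)).addCommGroupIsoToAddEquiv.trans
      (((homAdj ((ModSite.restr O U).obj M)).homAddEquiv _ _).symm.trans
        (((preadditiveYoneda.obj ((ModSite.restr O U).obj N)).mapIso
          (tensUnit.app ((ModSite.restr O U).obj M)).op).addCommGroupIsoToAddEquiv.symm)))

end Groth.Agent.SiteMod
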