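import Groth.Agent.Mod48.FreeOn
import Mathlib.Algebra.Category.ModuleCat.Sheaf.ChangeOfRings
import Mathlib.Algebra.Category.ModuleCat.Sheaf.Limits
import Mathlib.Algebra.Category.ModuleCat.Sheaf.Colimits
import Mathlib.CategoryTheory.Generator.Basic

/-!
Restriction of scalars, generators, and inverse images of free modules.
-/

universe u

open CategoryTheory CategoryTheory.Limits Opposite

namespace Groth.Agent.SiteMod

section Scalars

variable {C : Type u} [SmallCategory C] {J : GrothendieckTopology C} (R : Sheaf J RingCat.{u})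

lemma toSheaf_preservesLimits : PreservesLimitsOfSize.{u, u} (SheafOfModules.toSheaf.{u} R) := by
  have : PreservesLimitsOfSize.{u, u} (SheafOfModules.toSheaf.{u} R ⋙ sheafToPresheaf _ _) :=
    inferInstanceAs (PreservesLimitsOfSize.{u, u}
      (SheafOfModules.forget.{u} R ⋙ PresheafOfModules.toPresheaf R.obj))
  exact preservesLimits_of_reflects_of_preserves _ (sheafToPresheaf J AddCommGrpCat.{u})

lemma toSheaf_preservesColimits' : PreservesColimitsOfSize.{u, u} (SheafOfModules.toSheaf.{u} R) := by
  refine ⟨fun {K} _ => ?_⟩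
  let adj := PresheafOfModules.sheafificationAdjunction.{u} (𝟙 R.obj)
  have : PreservesColimitsOfSize.{u, u} (presheafToSheaf J AddCommGrpCat.{u}) :=
    (sheafificationAdjunction J AddCommGrpCat.{u}).leftAdjoint_preservesColimits
  have : PreservesColimitsOfShape K
      (PresheafOfModules.sheafification.{u} (𝟙 R.obj) ⋙ SheafOfModules.toSheaf R) :=
    preservesColimitsOfShape_of_natIso (PresheafOfModules.sheafificationCompToSheaf _).symm
  exact Mod48.preservesColimitsOfShape_of_comp_reflective adj (SheafOfModules.toSheaf R) K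

variable {A B : Sheaf J RingCat.{u}} (φ : A ⟶ B)

theorem restrictScalars_properties :
    PreservesLimitsOfSize.{u, u} (SheafOfModules.restrictScalars.{u} φ) ∧
    PreservesColimitsOfSize.{u, u} (SheafOfModules.restrictScalars.{u} φ) ∧
    (SheafOfModules.restrictScalars.{u} φ).ReflectsIsomorphisms := by
  let G := SheafOfModules.toSheaf.{u} A
  have e : SheafOfModules.restrictScalars.{u} φ ⋙ G ≅ SheafOfModules.toSheaf.{u} B :=
    NatIso.ofComponents (fun _ => Iso.refl _)
  have hl := toSheaf_preservesLimits A
  have hlB := toSheaf_preservesLimits B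
  have hc := toSheaf_preservesColimits' A
  have hcB := toSheaf_preservesColimits' B
  have : PreservesLimitsOfSize.{u, u} (SheafOfModules.restrictScalars.{u} φ ⋙ G) :=
    preservesLimits_of_natIso e.symm
  have : PreservesColimitsOfSize.{u, u} (SheafOfModules.restrictScalars.{u} φ ⋙ G) :=
    preservesColimits_of_natIso e.symm
  have : ReflectsLimitsOfSize.{u, u} G := reflectsLimits_of_reflectsIsomorphisms
  have : ReflectsColimitsOfSize.{u, u} G := reflectsColimits_of_reflectsIsomorphisms
  refine ⟨preservesLimits_of_reflects_of_preserves _ G, preservesColimits_of_reflects_of_preserves _ G, ?_⟩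
  have : (SheafOfModules.restrictScalars.{u} φ ⋙ G).ReflectsIsomorphisms :=
    reflectsIsomorphisms_of_iso e.symm
  exact reflectsIsomorphisms_of_comp _ G

end Scalars

section Free

variable {C : Type u} [SmallCategory C] {J : GrothendieckTopology C} {O : Sheaf J CommRingCat.{u}}

open Mod48

/-- Objects with naturally equivalent sets of maps out are isomorphic. -/
noncomputable def isoOfHomEquiv {M : Type*} [Category* M] {X Y : M} (e : ∀ G, (X ⟶ G) ≃ (Y ⟶ G))
    (he : ∀ ⦃G G'⦄ (a : X ⟶ G) (f : G ⟶ G'), e G' (a ≫ f) = e G a ≫ f) : X ≅ Y where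
  hom := (e Y).symm (𝟙 Y)
  inv := e X (𝟙 X)
  hom_inv_id := by
    apply (e X).injective
    rw [he, Equiv.apply_symm_apply, Category.id_comp]
  inv_hom_id := by
    rw [← he, Category.id_comp, Equiv.apply_symm_apply]

theorem generating (G : Set C)
    (hG : ∀ X : C, ∃ (ι : Type u) (Y : ι → C) (f : ∀ i, Y i ⟶ X), Sieve.ofArrows Y f ∈ J X ∧ ∀ i, Y i ∈ G) :
    (ObjectProperty.ofObj fun X : G => ModSite.freeOn O (X : C)).IsDetecting ∧
    (ObjectProperty.ofObj fun X : G => ModSite.freeOn O (X : C)).IsSeparating := by
  have hsep : (ObjectProperty.ofObj fun X : G => ModSite.freeOn O (X : C)).IsSeparating := by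
    intro M N a b h
    apply fgt.map_injective
    refine PresheafOfModules.hom_ext fun U => ?_
    ext x
    obtain ⟨ι, Y, f, hf, hY⟩ := hG U.unop
    refine ext_of_sieve hf ?_
    intro W g hg
    obtain ⟨i, k, rfl⟩ := (Sieve.mem_ofArrows_iff Y f g).1 hg
    have h1 := h _ ⟨⟨Y i, hY i⟩⟩ ((freeOnEquiv (Y i) M).symm (res (pre M) (f i).op x))
    have h2 := congrArg (freeOnEquiv (Y i) N) h1
    rw [freeOnEquiv_comp, freeOnEquiv_comp, Equiv.apply_symm_apply, app_res, app_res] at h2
    rw [op_comp, ← res_res, ← res_res]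
    exact congrArg (res (pre N) k.op) h2
  exact ⟨hsep.isDetecting, hsep⟩

variable {D : Type u} [SmallCategory D] {K : GrothendieckTopology D} {O_D : Sheaf K CommRingCat.{u}}

/-- The inverse image of a free module on an object. -/
noncomputable def pullFreeOnIso (f : ModSite.RMor O O_D) (X : D) :
    f.pull.obj (ModSite.freeOn O_D X) ≅ ModSite.freeOn O (f.fn.obj X) :=
  isoOfHomEquiv
    (fun G => ((f.adj.homEquiv _ G).trans (freeOnEquiv X (f.push.obj G))).trans
      (freeOnEquiv (f.fn.obj X) G).symm)
    (fun G G' a b => by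
      apply (freeOnEquiv (f.fn.obj X) G').injective
      simp only [Equiv.trans_apply, Equiv.apply_symm_apply, freeOnEquiv_comp,
        Adjunction.homEquiv_naturality_right]
      refine ((freeOnEquiv (f.fn.obj X) G').apply_symm_apply _).trans ?_
      exact congrArg ((fgt.map b).app (op (f.fn.obj X))) ((freeOnEquiv (f.fn.obj X) G).apply_symm_apply _).symm)

end Free

end Groth.Agent.SiteMod
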