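import Groth.Agent.SiteMod.PullPairs
import Mathlib.CategoryTheory.Sites.Closed

/-!
For a functor with exact inverse image of sheaves of sets the arrows into images are locally filtered.
-/

universe u

open CategoryTheory CategoryTheory.Limits Opposite

namespace Groth.Agent.SiteMod

variable {C D : Type u} [SmallCategory C] [SmallCategory D] (J : GrothendieckTopology C)
  (K : GrothendieckTopology D) (u : D ⥤ C) [u.IsContinuous K J]

/-- The sheaf of closed sieves. -/
noncomputable abbrev closedSh : Sheaf J (Type u) :=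
  ⟨(Functor.closedSieves J).toFunctor, (isSheaf_iff_isSheaf_of_type _ _).2 (classifier_isSheaf J)⟩

/-- A natural family of sieves gives a map to closed sieves. -/
noncomputable def sieveHom {P : Cᵒᵖ ⥤ Type u} (σ : ∀ W : C, P.obj (op W) → Sieve W)
    (hσ : ∀ ⦃W W' : C⦄ (v : W' ⟶ W) p, (σ W p).pullback v = σ W' (P.map v.op p)) :
    P ⟶ (closedSh J).obj where
  app W := ↾fun p => ⟨J.close (σ W.unop p), J.close_isClosed _⟩
  naturality W W' h := by
    ext p
    refine Subtype.ext ?_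
    change J.close (σ W'.unop (P.map h p)) = (J.close (σ W.unop p)).pullback h.unop
    rw [← J.pullback_close, hσ]
    rfl

lemma covering_of_injective {P : Dᵒᵖ ⥤ Type u} {P' : Cᵒᵖ ⥤ Type u} (ρ : P ⟶ u.op ⋙ P')
    (hinj : ∀ G : Sheaf J (Type u), Function.Injective fun Ψ : P' ⟶ G.obj => ρ ≫ Functor.whiskerLeft u.op Ψ)
    (σ : ∀ W : C, P'.obj (op W) → Sieve W)
    (hσ : ∀ ⦃W W' : C⦄ (v : W' ⟶ W) p, (σ W p).pullback v = σ W' (P'.map v.op p))
    (him : ∀ (W : D) (q : P.obj (op W)), σ (u.obj W) (ρ.app (op W) q) ∈ J (u.obj W))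
    (W : C) (p : P'.obj (op W)) : σ W p ∈ J W := by
  have h : sieveHom J σ hσ = sieveHom J (P := P') (fun _ _ => ⊤) (fun _ _ _ _ => Sieve.pullback_top) := by
    refine hinj (closedSh J) ?_
    ext V q
    refine Subtype.ext ?_
    change J.close (σ (u.obj V.unop) (ρ.app V q)) = J.close ⊤
    rw [(J.close_eq_top_iff_mem _).2 (him V.unop q), (J.close_eq_top_iff_mem _).2 (J.top_mem _)]
  have h' := congrArg Subtype.val (ConcreteCategory.congr_hom (NatTrans.congr_app h (op W)) p)
  refine (J.close_eq_top_iff_mem _).1 ?_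
  exact h'.trans ((J.close_eq_top_iff_mem _).2 (J.top_mem _))

/-! ### The final object -/

/-- The constant presheaf on one point. -/
abbrev oneT (C : Type u) [SmallCategory C] : Cᵒᵖ ⥤ Type u := (Functor.const Cᵒᵖ).obj PUnit.{u + 1}

/-- One point. -/
def oneMap : oneT D ⟶ u.op ⋙ oneT C where
  app _ := ↾fun x => x

/-- The constant presheaf on one point is final. -/
def oneT.isTerminal (C : Type u) [SmallCategory C] : IsTerminal (oneT C) :=
  IsTerminal.ofUniqueHom (fun _ => { app := fun _ => ↾fun _ => PUnit.unit })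
    (fun _ _ => by ext W x; exact Subsingleton.elim (α := PUnit.{u + 1}) _ _)

lemma isIso_pullShMap_oneMap [PreservesFiniteLimits (u.sheafPullback (Type u) K J)] :
    IsIso (pullShMap J K u (oneMap u)) :=
  isIso_of_isTerminal
    (((oneT.isTerminal D).isTerminalObj (presheafToSheaf K (Type u)) _).isTerminalObj
      (u.sheafPullback (Type u) K J) _)
    ((oneT.isTerminal C).isTerminalObj (presheafToSheaf J (Type u)) _) _

/-- The arrows from `W` to images. -/
def chartSieve (W : C) : Sieve W where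
  arrows V _ := ∃ X, Nonempty (V ⟶ u.obj X)
  downward_closed := by
    rintro V V' f ⟨X, ⟨g⟩⟩ v
    exact ⟨X, ⟨v ≫ g⟩⟩

theorem chartSieve_mem [PreservesFiniteLimits (u.sheafPullback (Type u) K J)] (W : C) :
    chartSieve u W ∈ J W :=
  covering_of_injective J u (oneMap u)
    (fun G => ((isIso_pullShMap_iff J K u (oneMap u)).1 (isIso_pullShMap_oneMap J K u) G).1)
    (fun W _ => chartSieve u W) (fun _ _ _ _ => rfl)
    (fun X _ => J.superset_covering (fun V v _ => ⟨X, ⟨v⟩⟩) (J.top_mem _)) W PUnit.unit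

/-! ### Pairs -/

/-- Arrows along which two arrows to images come from one arrow to an image. -/
def pairSieve {X Y : D} {W : C} (a : W ⟶ u.obj X) (b : W ⟶ u.obj Y) : Sieve W where
  arrows V v := ∃ (Z : D) (g : V ⟶ u.obj Z) (h : Z ⟶ X) (k : Z ⟶ Y),
    v ≫ a = g ≫ u.map h ∧ v ≫ b = g ≫ u.map k
  downward_closed := by
    rintro V V' v ⟨Z, g, h, k, e₁, e₂⟩ w
    exact ⟨Z, w ≫ g, h, k, by rw [Category.assoc, e₁, Category.assoc],
      by rw [Category.assoc, e₂, Category.assoc]⟩

theorem pairSieve_mem [PreservesFiniteLimits (u.sheafPullback (Type u) K J)] {X Y : D} {W : C}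
    (a : W ⟶ u.obj X) (b : W ⟶ u.obj Y) : pairSieve u a b ∈ J W := by
  refine covering_of_injective J u (pairMap u X Y)
    (fun G => (bijective_pairMap J K u X Y G).1) (fun W p => pairSieve u p.1 p.2) ?_ ?_ W (a, b)
  · intro W W' v p
    ext V w
    change (∃ (Z : D) (g : V ⟶ u.obj Z) (h : Z ⟶ X) (k : Z ⟶ Y),
        (w ≫ v) ≫ p.1 = g ≫ u.map h ∧ (w ≫ v) ≫ p.2 = g ≫ u.map k) ↔
      ∃ (Z : D) (g : V ⟶ u.obj Z) (h : Z ⟶ X) (k : Z ⟶ Y),
        w ≫ v ≫ p.1 = g ≫ u.map h ∧ w ≫ v ≫ p.2 = g ≫ u.map k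
    simp only [Category.assoc]
  · intro W q
    exact J.superset_covering (fun V v _ => ⟨W, v, q.1, q.2, rfl, rfl⟩) (J.top_mem _)

/-! ### Equalizers -/

/-- Arrows to `X` equalized by `a` and `b`. -/
def eqT {X Y : C} (a b : X ⟶ Y) : Cᵒᵖ ⥤ Type u where
  obj W := { g : W.unop ⟶ X // g ≫ a = g ≫ b }
  map h := ↾fun g => ⟨h.unop ≫ g.1, by rw [Category.assoc, g.2, Category.assoc]⟩
  map_id W := by
    ext g
    exact Category.id_comp g.1
  map_comp h h' := by
    ext g
    exact Category.assoc h'.unop h.unop g.1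

/-- The inclusion. -/
def eqT.ι {X Y : C} (a b : X ⟶ Y) : eqT a b ⟶ yoneda.obj X where
  app W := ↾fun g => g.1
  naturality W W' h := by ext g; rfl

lemma eqT.ι_comp {X Y : C} (a b : X ⟶ Y) : eqT.ι a b ≫ yoneda.map a = eqT.ι a b ≫ yoneda.map b := by
  ext W g
  exact g.2

/-- `eqT` is the equalizer. -/
def eqT.isLimit {X Y : C} (a b : X ⟶ Y) : IsLimit (Fork.ofι (eqT.ι a b) (eqT.ι_comp a b)) :=
  Fork.IsLimit.mk _
    (fun s =>
      { app := fun W => ↾fun x => ⟨(s.ι : s.pt ⟶ yoneda.obj X).app W x,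
          ConcreteCategory.congr_hom (NatTrans.congr_app s.condition W) x⟩
        naturality := fun W W' h => by
          ext x
          refine Subtype.ext ?_
          exact ConcreteCategory.congr_hom ((s.ι : s.pt ⟶ yoneda.obj X).naturality h) x })
    (fun s => rfl)
    (fun s m hm => by
      ext W x
      refine Subtype.ext ?_
      exact ConcreteCategory.congr_hom (NatTrans.congr_app (show m ≫ eqT.ι a b = s.ι from hm) W) x)

/-- The map on equalized arrows. -/
def eqMap {X Y : D} (a b : X ⟶ Y) : eqT a b ⟶ u.op ⋙ eqT (u.map a) (u.map b) where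
  app W := ↾fun g => ⟨u.map g.1, by rw [← u.map_comp, g.2, u.map_comp]⟩
  naturality W W' h := by
    ext g
    exact Subtype.ext (u.map_comp _ _)

lemma pullShMap_arrMap_natural {X Y : D} (a : X ⟶ Y) :
    pullShMap J K u (arrMap u X) ≫ (presheafToSheaf J (Type u)).map (yoneda.map (u.map a)) =
      (u.sheafPullback (Type u) K J).map ((presheafToSheaf K (Type u)).map (yoneda.map a)) ≫
        pullShMap J K u (arrMap u Y) := by
  apply (pullShEquiv J K u _ _).injective
  rw [pullShEquiv_pullShMap_comp, pullShEquiv_map, pullShMap, Equiv.apply_symm_apply,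
    Adjunction.homEquiv_unit]
  ext W g
  refine (ConcreteCategory.congr_hom (NatTrans.congr_app
    (toSheafify_naturality J (yoneda.map (u.map a))) (op (u.obj W.unop))) (u.map g)).symm.trans ?_
  exact congrArg ((toSheafify J (yoneda.obj (u.obj Y))).app (op (u.obj W.unop))) (u.map_comp g a).symm

lemma pullShMap_eqMap_ι {X Y : D} (a b : X ⟶ Y) :
    pullShMap J K u (eqMap u a b) ≫ (presheafToSheaf J (Type u)).map (eqT.ι (u.map a) (u.map b)) =
      (u.sheafPullback (Type u) K J).map ((presheafToSheaf K (Type u)).map (eqT.ι a b)) ≫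
        pullShMap J K u (arrMap u X) := by
  apply (pullShEquiv J K u _ _).injective
  rw [pullShEquiv_pullShMap_comp, pullShEquiv_map, pullShMap, Equiv.apply_symm_apply,
    Adjunction.homEquiv_unit]
  ext W g
  exact ConcreteCategory.congr_hom (NatTrans.congr_app
    (toSheafify_naturality J (eqT.ι (u.map a) (u.map b))) (op (u.obj W.unop))) _ |>.symm

lemma isIso_pullShMap_eqMap [PreservesFiniteLimits (u.sheafPullback (Type u) K J)] {X Y : D}
    (a b : X ⟶ Y) : IsIso (pullShMap J K u (eqMap u a b)) := by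
  let F := u.sheafPullback (Type u) K J
  let sC := presheafToSheaf J (Type u)
  let sD := presheafToSheaf K (Type u)
  have := isIso_pullShMap_arrMap J K u X
  have := isIso_pullShMap_arrMap J K u Y
  let hC := isLimitForkMapOfIsLimit sC _ (eqT.isLimit (u.map a) (u.map b))
  let hD := isLimitForkMapOfIsLimit F _ (isLimitForkMapOfIsLimit sD _ (eqT.isLimit a b))
  let α := pullShMap J K u (arrMap u X)
  have hι := pullShMap_eqMap_ι J K u a b
  have heq : (sC.map (eqT.ι (u.map a) (u.map b)) ≫ inv α) ≫ F.map (sD.map (yoneda.map a)) =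
      (sC.map (eqT.ι (u.map a) (u.map b)) ≫ inv α) ≫ F.map (sD.map (yoneda.map b)) := by
    rw [← cancel_mono (pullShMap J K u (arrMap u Y))]
    simp only [Category.assoc, F, sD, α, ← pullShMap_arrMap_natural, IsIso.inv_hom_id_assoc]
    simp only [sC, ← Functor.map_comp]
    exact congrArg (presheafToSheaf J (Type u)).map (eqT.ι_comp (u.map a) (u.map b))
  obtain ⟨l, hl⟩ := Fork.IsLimit.lift' hD _ heq
  replace hl : l ≫ F.map (sD.map (eqT.ι a b)) = sC.map (eqT.ι (u.map a) (u.map b)) ≫ inv α := hl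
  refine ⟨⟨l, Fork.IsLimit.hom_ext hD ?_, Fork.IsLimit.hom_ext hC ?_⟩⟩
  · change (pullShMap J K u (eqMap u a b) ≫ l) ≫ F.map (sD.map (eqT.ι a b)) =
      𝟙 _ ≫ F.map (sD.map (eqT.ι a b))
    rw [Category.assoc, hl, Category.id_comp]
    refine (Category.assoc _ _ _).symm.trans ((congrArg (· ≫ inv α) hι).trans ?_)
    rw [Category.assoc]
    exact (congrArg _ (IsIso.hom_inv_id α)).trans (Category.comp_id _)
  · change (l ≫ pullShMap J K u (eqMap u a b)) ≫ sC.map (eqT.ι (u.map a) (u.map b)) =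
      𝟙 _ ≫ sC.map (eqT.ι (u.map a) (u.map b))
    rw [Category.assoc, Category.id_comp]
    refine (congrArg (l ≫ ·) hι).trans ?_
    refine (Category.assoc _ _ _).symm.trans ((congrArg (· ≫ α) hl).trans ?_)
    rw [Category.assoc, IsIso.inv_hom_id, Category.comp_id]

/-- Arrows along which an arrow to an image factors through an equalizing one. -/
def eqSieve {X Y : D} (a b : X ⟶ Y) {W : C} (g : W ⟶ u.obj X) : Sieve W where
  arrows V v := ∃ (Z : D) (g' : V ⟶ u.obj Z) (k : Z ⟶ X), v ≫ g = g' ≫ u.map k ∧ k ≫ a = k ≫ b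
  downward_closed := by
    rintro V V' v ⟨Z, g', k, e, h⟩ w
    exact ⟨Z, w ≫ g', k, by rw [Category.assoc, e, Category.assoc], h⟩

theorem eqSieve_mem [PreservesFiniteLimits (u.sheafPullback (Type u) K J)] {X Y : D} (a b : X ⟶ Y)
    {W : C} (g : W ⟶ u.obj X) (hg : g ≫ u.map a = g ≫ u.map b) : eqSieve u a b g ∈ J W := by
  refine covering_of_injective J u (eqMap u a b)
    (fun G => ((isIso_pullShMap_iff J K u (eqMap u a b)).1 (isIso_pullShMap_eqMap J K u a b) G).1)
    (fun W p => eqSieve u a b p.1) ?_ ?_ W ⟨g, hg⟩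
  · intro W W' v p
    ext V w
    change (∃ (Z : D) (g' : V ⟶ u.obj Z) (k : Z ⟶ X), (w ≫ v) ≫ p.1 = g' ≫ u.map k ∧ k ≫ a = k ≫ b) ↔
      ∃ (Z : D) (g' : V ⟶ u.obj Z) (k : Z ⟶ X), w ≫ v ≫ p.1 = g' ≫ u.map k ∧ k ≫ a = k ≫ b
    simp only [Category.assoc]
  · intro W q
    exact J.superset_covering (fun V v _ => ⟨W, v, q.1, rfl, q.2⟩) (J.top_mem _)

/-! ### Coverings -/

theorem functorPushforward_mem_of_isContinuous {X : D} {S : Sieve X} (hS : S ∈ K X) :
    S.functorPushforward u ∈ J (u.obj X) := by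
  let G := closedSh J
  have hG : Presieve.IsSheaf K (u.op ⋙ G.obj) :=
    (isSheaf_iff_isSheaf_of_type _ _).1 ((u.sheafPushforwardContinuous (Type u) K J).obj G).2
  have h : (⟨J.close (S.functorPushforward u), J.close_isClosed _⟩ : (u.op ⋙ G.obj).obj (op X)) =
      ⟨J.close ⊤, J.close_isClosed _⟩ := by
    refine (hG.isSeparated S hS).ext fun Y y hy => ?_
    refine Subtype.ext ?_
    change (J.close (S.functorPushforward u)).pullback (u.map y) = (J.close ⊤).pullback (u.map y)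
    rw [← J.pullback_close, ← J.pullback_close, Sieve.pullback_top,
      Sieve.pullback_eq_top_of_mem _ (Sieve.image_mem_functorPushforward u S hy)]
  exact (J.close_eq_top_iff_mem _).1
    ((congrArg Subtype.val h).trans ((J.close_eq_top_iff_mem _).2 (J.top_mem _)))

/-! ### Finitely many charts -/

variable [PreservesFiniteLimits (u.sheafPullback (Type u) K J)]

include K in
theorem exists_common : ∀ {n : ℕ} {W : C} (X : Fin n → D) (g : ∀ i, W ⟶ u.obj (X i)),
    ∃ S ∈ J W, ∀ ⦃V : C⦄ (v : V ⟶ W), S v →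
      ∃ (Z : D) (g' : V ⟶ u.obj Z) (h : ∀ i, Z ⟶ X i), ∀ i, v ≫ g i = g' ≫ u.map (h i)
  | 0, W, X, g => ⟨chartSieve u W, chartSieve_mem J K u W, fun V v ⟨Z, ⟨g'⟩⟩ =>
      ⟨Z, g', fun i => i.elim0, fun i => i.elim0⟩⟩
  | n + 1, W, X, g => by
    obtain ⟨S, hS, hc⟩ := exists_common (fun i => X i.succ) (fun i => g i.succ)
    choose Z g' h hh using hc
    refine ⟨Sieve.bind S.1 fun V v hv => pairSieve u (v ≫ g 0) (g' v hv),
      J.bind_covering hS fun V v hv => pairSieve_mem J K u _ _, ?_⟩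
    rintro V' _ ⟨V, w, v, hv, ⟨Z', g'', h₀, k, e₀, e⟩, rfl⟩
    refine ⟨Z', g'', Fin.cons h₀ fun i => k ≫ h v hv i, Fin.cases ?_ fun i => ?_⟩
    · rw [Fin.cons_zero, Category.assoc, e₀]
    · rw [Fin.cons_succ, Category.assoc, hh v hv i, ← Category.assoc, e, Category.assoc, u.map_comp]

include K in
theorem exists_equalize : ∀ {n : ℕ} {W : C} {Z : D} (g : W ⟶ u.obj Z) (X : Fin n → D)
    (a b : ∀ i, Z ⟶ X i) (_ : ∀ i, g ≫ u.map (a i) = g ≫ u.map (b i)),
    ∃ S ∈ J W, ∀ ⦃V : C⦄ (v : V ⟶ W), S v →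
      ∃ (Z' : D) (g' : V ⟶ u.obj Z') (k : Z' ⟶ Z),
        v ≫ g = g' ≫ u.map k ∧ ∀ i, k ≫ a i = k ≫ b i
  | 0, W, Z, g, X, a, b, _ => ⟨⊤, J.top_mem W, fun V v _ =>
      ⟨Z, v ≫ g, 𝟙 Z, by simp, fun i => i.elim0⟩⟩
  | n + 1, W, Z, g, X, a, b, hab => by
    obtain ⟨S, hS, hc⟩ := exists_equalize g (fun i => X i.succ) (fun i => a i.succ) (fun i => b i.succ)
      (fun i => hab i.succ)
    choose Z' g' k hk hk' using hc
    have h0 : ∀ ⦃V : C⦄ (v : V ⟶ W) (hv : S v),
        g' v hv ≫ u.map (k v hv ≫ a 0) = g' v hv ≫ u.map (k v hv ≫ b 0) := fun V v hv => by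
      rw [u.map_comp, u.map_comp, ← Category.assoc, ← hk v hv, Category.assoc, hab 0,
        ← Category.assoc, hk v hv, Category.assoc]
    refine ⟨Sieve.bind S.1 fun V v hv => eqSieve u (k v hv ≫ a 0) (k v hv ≫ b 0) (g' v hv),
      J.bind_covering hS fun V v hv => eqSieve_mem J K u _ _ _ (h0 v hv), ?_⟩
    rintro V' _ ⟨V, w, v, hv, ⟨Z'', g'', k', e, e'⟩, rfl⟩
    refine ⟨Z'', g'', k' ≫ k v hv, ?_, Fin.cases ?_ fun i => ?_⟩
    · rw [Category.assoc, hk v hv, ← Category.assoc, e, Category.assoc, u.map_comp]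
    · rw [Category.assoc, e', Category.assoc]
    · rw [Category.assoc, hk' v hv i, Category.assoc]

end Groth.Agent.SiteMod
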