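import Groth.Agent.SiteMod.FlatCrit
import Groth.Agent.Mod48.FreeOn

/-!
Flat modules satisfy the local equational criterion.
-/

universe u

open CategoryTheory CategoryTheory.Limits Opposite MonoidalCategory
open scoped TensorProduct

namespace Groth.Agent.SiteMod

open Mod48

variable {C : Type u} [SmallCategory C] {J : GrothendieckTopology C} {O : Sheaf J CommRingCat.{u}}

/-! ### Flatness gives the criterion -/

lemma isLocallyInjective_of_mono_shf_map {P Q : PreM O} (f : P ⟶ Q) [Mono (shf.map f)] :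
    Presheaf.IsLocallyInjective J ((PresheafOfModules.toPresheaf _).map f) := by
  let T := PresheafOfModules.toPresheaf (O.obj ⋙ forget₂ CommRingCat.{u} RingCat.{u})
  have hP : IsLocalIso (shfU P) := (isIso_shf_map_iff_isLocalIso _).1 inferInstance
  have := hP.inj
  have : Presheaf.IsLocallyInjective J (T.map (fgt.map (shf.map f))) :=
    Presheaf.isLocallyInjective_of_injective _ _ fun X =>
      PresheafOfModules.injective_of_mono (fgt.map (shf.map f)) X
  have h : T.map f ≫ T.map (shfU Q) = T.map (shfU P) ≫ T.map (fgt.map (shf.map f)) := by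
    rw [← T.map_comp, ← T.map_comp, shfU_naturality]
  exact Presheaf.isLocallyInjective_of_isLocallyInjective_fac J h

lemma isLocallyInjective_whiskerRight_of_isFlat {F : ModSite.Mod O} (hF : ModSite.IsFlat F)
    {M N : PreM O} (k : M ⟶ N) [Mono k] :
    Presheaf.IsLocallyInjective J ((PresheafOfModules.toPresheaf _).map (k ▷ pre F)) := by
  have : Mono (shf.map k) := inferInstance
  have := (isFlat_iff_mono F).1 hF (shf.map k)
  have : Mono (shf.map (k ▷ pre F)) := by
    change Mono ((tensorRight (pre F) ⋙ shf).map k)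
    rw [← NatIso.naturality_2 (tensShfLeft F) k]
    have : Mono ((shf ⋙ tR F).map k) := inferInstanceAs (Mono ((tR F).map (shf.map k)))
    infer_instance
  exact isLocallyInjective_of_mono_shf_map _

lemma res_tp {M N : PreM O} {W W' : Cᵒᵖ} (h : W ⟶ W') (m : M.obj W) (n : N.obj W) :
    res (M ⊗ N) h (tp m n) = tp (res M h m) (res N h n) := map_tp h m n

section Generators

variable (X : C) (n : ℕ)

/-- `n` copies of the representable presheaf of `X`. -/
def gen : Cᵒᵖ ⥤ Type u where
  obj W := (W.unop ⟶ X) × Fin n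
  map h := ↾fun p => (h.unop ≫ p.1, p.2)
  map_id W := by
    ext p
    all_goals simp
  map_comp h h' := by
    ext p
    all_goals simp

/-- The free module on `n` copies of the representable presheaf. -/
noncomputable abbrev genMod : PreM O :=
  (PresheafOfModules.free (O.obj ⋙ forget₂ CommRingCat.{u} RingCat.{u})).obj (gen X n)

variable {X n}

/-- A coefficient. -/
noncomputable def coef {W : Cᵒᵖ} (g : W.unop ⟶ X) (i : Fin n) :
    (genMod (O := O) X n).obj W →ₗ[O.obj.obj W] O.obj.obj W :=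
  (Finsupp.lapply (g, i) : (((W.unop ⟶ X) × Fin n) →₀ O.obj.obj W) →ₗ[O.obj.obj W] O.obj.obj W)

/-- A coefficient in the free module on a representable presheaf. -/
noncomputable def coef₁ {W : Cᵒᵖ} (g : W.unop ⟶ X) :
    (freeY (O := O) X).obj W →ₗ[O.obj.obj W] O.obj.obj W :=
  (Finsupp.lapply g : ((W.unop ⟶ X) →₀ O.obj.obj W) →ₗ[O.obj.obj W] O.obj.obj W)

/-- A generator. -/
noncomputable def mk {W : Cᵒᵖ} (g : W.unop ⟶ X) (i : Fin n) : (genMod (O := O) X n).obj W :=
  ModuleCat.freeMk (X := (gen X n).obj W) (g, i)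

/-- A generator of the free module on a representable presheaf. -/
noncomputable def mk₁ {W : Cᵒᵖ} (g : W.unop ⟶ X) : (freeY (O := O) X).obj W :=
  ModuleCat.freeMk (X := W.unop ⟶ X) g

lemma res_mk {W W' : Cᵒᵖ} (h : W ⟶ W') (g : W.unop ⟶ X) (i : Fin n) :
    res (genMod (O := O) X n) h (mk g i) = mk (h.unop ≫ g) i :=
  ModuleCat.freeDesc_apply _ _

lemma res_mk₁ {W W' : Cᵒᵖ} (h : W ⟶ W') (g : W.unop ⟶ X) :
    res (freeY (O := O) X) h (mk₁ g) = mk₁ (h.unop ≫ g) :=
  ModuleCat.freeDesc_apply _ _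

lemma coef_mk_self {W : Cᵒᵖ} (g : W.unop ⟶ X) (i : Fin n) : coef (O := O) g i (mk g i) = 1 :=
  Finsupp.single_eq_same

lemma coef_mk_ne {W : Cᵒᵖ} (g g' : W.unop ⟶ X) (i i' : Fin n) (h : (g', i') ≠ (g, i)) :
    coef (O := O) g i (mk g' i') = 0 :=
  Finsupp.single_eq_of_ne' h

lemma coef₁_mk₁_self {W : Cᵒᵖ} (g : W.unop ⟶ X) : coef₁ (O := O) g (mk₁ g) = 1 :=
  Finsupp.single_eq_same

lemma coef₁_mk₁_ne {W : Cᵒᵖ} (g g' : W.unop ⟶ X) (h : g' ≠ g) :
    coef₁ (O := O) g (mk₁ g') = 0 :=
  Finsupp.single_eq_of_ne' h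

/-- The map given by `n` functions. -/
noncomputable def genMap (f : Fin n → O.obj.obj (op X)) : genMod (O := O) X n ⟶ freeY X :=
  PresheafOfModules.freeHomEquiv.symm
    { app := fun W => ↾fun p => (rres p.1.op (f p.2) • mk₁ p.1 : (freeY (O := O) X).obj W)
      naturality := fun W W' h => by
        ext p
        refine Eq.trans ?_ (res_smul (freeY (O := O) X) h _ (mk₁ p.1)).symm
        rw [res_mk₁, rres_rres]
        rfl }

lemma genMap_mk (f : Fin n → O.obj.obj (op X)) {W : Cᵒᵖ} (g : W.unop ⟶ X) (i : Fin n) :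
    (genMap f).app W (mk g i) = rres g.op (f i) • mk₁ g :=
  ModuleCat.freeDesc_apply _ _

lemma coef₁_genMap (f : Fin n → O.obj.obj (op X)) {W : Cᵒᵖ} (g : W.unop ⟶ X)
    (κ : (genMod (O := O) X n).obj W) :
    coef₁ g ((genMap f).app W κ) = ∑ i, rres g.op (f i) * coef g i κ := by
  classical
  have key : ∀ (g' : W.unop ⟶ X) (i' : Fin n), coef₁ g ((genMap f).app W (mk g' i')) =
      ∑ i, rres g.op (f i) * coef g i (mk g' i') := fun g' i' => by
    rw [genMap_mk, map_smul, smul_eq_mul]
    by_cases hgg : g' = g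
    · subst hgg
      rw [coef₁_mk₁_self, Finset.sum_eq_single i']
      · rw [coef_mk_self]
      · intro j _ hj
        rw [coef_mk_ne _ _ _ _ (fun h => hj (congrArg Prod.snd h).symm), mul_zero]
      · simp
    · rw [coef₁_mk₁_ne _ _ hgg, mul_zero, Finset.sum_eq_zero]
      intro j _
      rw [coef_mk_ne _ _ _ _ (fun h => hgg (congrArg Prod.fst h)), mul_zero]
  have key' : ∀ (r : O.obj.obj W) (g' : W.unop ⟶ X) (i' : Fin n),
      coef₁ g ((genMap f).app W (r • mk g' i')) = ∑ i, rres g.op (f i) * coef g i (r • mk g' i') := by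
    intro r g' i'
    rw [map_smul, map_smul, key, smul_eq_mul, Finset.mul_sum]
    refine Finset.sum_congr rfl fun i _ => ?_
    rw [map_smul, smul_eq_mul]
    ring
  have hlin : ∀ (κ : ((W.unop ⟶ X) × Fin n) →₀ O.obj.obj W),
      coef₁ g ((genMap f).app W (show (genMod (O := O) X n).obj W from κ)) =
        ∑ i, rres g.op (f i) * coef g i (show (genMod (O := O) X n).obj W from κ) := by
    intro κ
    induction κ using Finsupp.induction_linear with
    | zero =>
      change coef₁ g ((genMap f).app W (0 : (genMod (O := O) X n).obj W)) =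
        ∑ i, rres g.op (f i) * coef g i (0 : (genMod (O := O) X n).obj W)
      simp only [map_zero, mul_zero, Finset.sum_const_zero]
    | add a b ha hb =>
      change coef₁ g ((genMap f).app W ((show (genMod (O := O) X n).obj W from a) + (show (genMod (O := O) X n).obj W from b))) =
        ∑ i, rres g.op (f i) * coef g i ((show (genMod (O := O) X n).obj W from a) + (show (genMod (O := O) X n).obj W from b))
      simp only [map_add, mul_add, Finset.sum_add_distrib]
      exact congrArg₂ (· + ·) ha hb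
    | single p r =>
      obtain ⟨g', i'⟩ := p
      have hp : (Finsupp.single (g', i') r : ((W.unop ⟶ X) × Fin n) →₀ O.obj.obj W) =
          r • (Finsupp.single (g', i') 1 : ((W.unop ⟶ X) × Fin n) →₀ O.obj.obj W) :=
        (Finsupp.smul_single_one (g', i') r).symm
      rw [hp]
      exact key' r g' i'
  exact hlin κ

/-- A coefficient, tensored with a module. -/
noncomputable def evMap (P : PreM O) {W : Cᵒᵖ} (g : W.unop ⟶ X) (i : Fin n) :
    (genMod (O := O) X n ⊗ P).obj W →+ P.obj W :=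
  ((TensorProduct.lid (O.obj.obj W) (P.obj W)).toLinearMap.comp
    (LinearMap.rTensor (P.obj W) (coef g i))).toAddMonoidHom

lemma evMap_tp (P : PreM O) {W : Cᵒᵖ} (g : W.unop ⟶ X) (i : Fin n)
    (κ : (genMod (O := O) X n).obj W) (p : P.obj W) :
    evMap P g i (tp κ p) = coef g i κ • p := rfl

lemma evMap_res_gen (P : PreM O) {Y : C} (g : Y ⟶ X) (i : Fin n) (s : Fin n → P.obj (op X)) :
    evMap P (W := op Y) g i
      (res (genMod (O := O) X n ⊗ P) g.op (∑ j, tp (mk (O := O) (W := op X) (𝟙 X) j) (s j))) =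
        res P g.op (s i) := by
  have h1 : res (genMod (O := O) X n ⊗ P) g.op (∑ j, tp (mk (O := O) (W := op X) (𝟙 X) j) (s j)) =
      ∑ j, tp (mk (O := O) (W := op Y) g j) (res P g.op (s j)) := by
    refine (res_sum _ _ _ _).trans (Finset.sum_congr rfl fun j _ => ?_)
    rw [res_tp]
    rw [res_mk]
    simp
  rw [h1, map_sum, Finset.sum_eq_single i]
  · rw [evMap_tp, coef_mk_self, one_smul]
  · intro j _ hj
    rw [evMap_tp, coef_mk_ne _ _ _ _ (fun h => hj (congrArg Prod.snd h)), zero_smul]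
  · simp

end Generators

/-- The kernel of a sectionwise tensored epimorphism. -/
lemma exists_kernel_tp {L Q : PreM O} (e : L ⟶ Q) [Epi e] (P : PreM O) {W : Cᵒᵖ} (x : (L ⊗ P).obj W)
    (hx : (e ▷ P).app W x = 0) :
    ∃ (N : ℕ) (κ : Fin N → L.obj W) (t : Fin N → P.obj W),
      (∀ j, e.app W (κ j) = 0) ∧ x = ∑ j, tp (κ j) (t j) := by
  classical
  have he : Function.Surjective (e.app W) := PresheafOfModules.surjective_of_epi e _
  obtain ⟨z, hz⟩ :=
    ((rTensor_exact (P.obj W) (LinearMap.exact_subtype_ker_map (e.app W).hom) he) x).1 hx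
  obtain ⟨T, rfl⟩ := TensorProduct.exists_finset z
  let eT := T.equivFin
  refine ⟨T.card, fun j => (eT.symm j).val.1.val, fun j => (eT.symm j).val.2,
    fun j => (eT.symm j).val.1.property, ?_⟩
  rw [← hz, map_sum, ← Finset.sum_coe_sort T]
  exact (Equiv.sum_comp eT.symm fun t : T => tp (M := L) (N := P) t.val.1.val t.val.2).symm

/-- A relation killed by a morphism out of a presheaf of modules is locally killed, after factoring
through the image, when the coefficients are flat. -/
lemma locally_kernel_of_isFlat {F : ModSite.Mod O} (hF : ModSite.IsFlat F) {L Q : PreM O} (Φ : L ⟶ Q)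
    {X : C} (ξ : (L ⊗ pre F).obj (op X)) (hξ : (Φ ▷ pre F).app (op X) ξ = 0) :
    ∃ S ∈ J X, ∀ ⦃Y : C⦄ (g : Y ⟶ X), S g → ∃ (N : ℕ) (κ : Fin N → L.obj (op Y))
      (t : Fin N → (pre F).obj (op Y)),
        (∀ j, Φ.app (op Y) (κ j) = 0) ∧ res (L ⊗ pre F) g.op ξ = ∑ j, tp (κ j) (t j) := by
  let e := Abelian.factorThruImage Φ
  let m := Abelian.image.ι Φ
  have hem : e ≫ m = Φ := Abelian.image.fac Φ
  have hinj := isLocallyInjective_whiskerRight_of_isFlat hF m
  have hξ' : (m ▷ pre F).app (op X) ((e ▷ pre F).app (op X) ξ) = 0 := by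
    rw [← hem, MonoidalCategory.comp_whiskerRight] at hξ
    exact hξ
  have hS := Presheaf.equalizerSieve_mem J ((PresheafOfModules.toPresheaf _).map (m ▷ pre F))
    (X := op X) ((e ▷ pre F).app (op X) ξ) 0 (hξ'.trans (map_zero _).symm)
  refine ⟨_, hS, fun Y g hg => ?_⟩
  have h0 : (e ▷ pre F).app (op Y) (res _ g.op ξ) = 0 :=
    (app_res (e ▷ pre F) g.op ξ).trans (hg.trans (map_zero _))
  obtain ⟨N, κ, t, hκ, hx⟩ := exists_kernel_tp e (pre F) _ h0
  refine ⟨N, κ, t, fun j => ?_, hx⟩
  rw [← hem]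
  exact (congrArg (m.app (op Y)) (hκ j)).trans (map_zero (m.app (op Y)).hom)

/-- Flatness implies the local criterion. -/
theorem locFlat_of_isFlat {F : ModSite.Mod O} (hF : ModSite.IsFlat F) : LocFlat (pre F) := by
  intro X n f s hrel
  let ξ : (genMod X n ⊗ pre F).obj (op X) :=
    ∑ i, tp (mk (O := O) (W := op X) (𝟙 X) i) (s i)
  have h1 : (genMap f ▷ pre F).app (op X) ξ = 0 := by
    simp only [ξ, map_sum]
    refine Eq.trans (Finset.sum_congr rfl (g := fun i => tp (mk₁ (𝟙 X)) (f i • s i)) fun i _ => ?_) ?_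
    · refine (whiskerRight_tp _ _ _).trans ?_
      rw [genMap_mk, tp_smul_left, tp_smul_right]
      simp [rres]
    · refine (TensorProduct.tmul_sum _ _ _).symm.trans ?_
      rw [hrel]
      exact TensorProduct.tmul_zero _ _
  obtain ⟨S, hS, hk⟩ := locally_kernel_of_isFlat hF (genMap f) ξ h1
  refine ⟨S, hS, fun Y g hg => ?_⟩
  obtain ⟨N, κ, t, hκ, hx⟩ := hk g hg
  refine ⟨N, fun i j => coef g i (κ j), t, fun i => ?_, fun j => ?_⟩
  · refine (evMap_res_gen (pre F) g i s).symm.trans ?_
    rw [hx, map_sum]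
    exact Finset.sum_congr rfl fun j _ => evMap_tp _ _ _ _ _
  · rw [← coef₁_genMap f (W := op Y) g (κ j), hκ j, map_zero]

theorem isFlat_iff_locFlat (F : ModSite.Mod O) : ModSite.IsFlat F ↔ LocFlat (pre F) :=
  ⟨locFlat_of_isFlat, isFlat_of_locFlat⟩

end Groth.Agent.SiteMod
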