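import Groth.Agent.SiteMod.PullModelFlat
import Groth.Agent.SiteMod.FlatCritConv
import Groth.Agent.SiteMod.Basics

/-!
The sheafification of the model is the inverse image; inverse images of flat modules are flat.
-/

universe u

open CategoryTheory CategoryTheory.Limits Opposite

namespace Groth.Agent.SiteMod

open Mod48

variable {C D : Type u} [SmallCategory C] [SmallCategory D] {J : GrothendieckTopology C}
  {K : GrothendieckTopology D} {O_C : Sheaf J CommRingCat.{u}} {O_D : Sheaf K CommRingCat.{u}}
  (f : ModSite.RMor O_C O_D) (M : ModSite.Mod O_D) (G : ModSite.Mod O_C)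

lemma sect₁_add (P : PreM O_D) {V : C} {X : D} (g : V ⟶ f.fn.obj X) (a b : P.obj (op X)) :
    sect₁ f P g (a + b) = sect₁ f P g a + sect₁ f P g b := by
  simpa [Fin.sum_univ_two] using sect₁_linear f P g ![1, 1] ![a, b]

lemma sect₁_smul (P : PreM O_D) {V : C} {X : D} (g : V ⟶ f.fn.obj X) (r : O_D.obj.obj (op X))
    (a : P.obj (op X)) : sect₁ f P g (r • a) = sig f g r • sect₁ f P g a := by
  simpa using sect₁_linear f P g ![r] ![a]

lemma sig_id (X : D) (r : O_D.obj.obj (op X)) : sig f (𝟙 (f.fn.obj X)) r = shp f X r :=
  congr($(O_C.obj.map_id (op (f.fn.obj X))).hom (shp f X r))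

/-- The value at the tautological chart. -/
noncomputable def modelToPush (ψ : pullModel f (pre M) ⟶ pre G) : pre M ⟶ pre (f.push.obj G) where
  app W := ModuleCat.ofHom (X := ((pre M).obj W : Type u)) (Y := ((pre (f.push.obj G)).obj W : Type u))
    { toFun := fun m => toPush f G (W := W.unop)
        (ψ.app (op (f.fn.obj W.unop)) (sect₁ f (pre M) (𝟙 (f.fn.obj W.unop)) m))
      map_add' := fun a b => (congrArg (ψ.app (op (f.fn.obj W.unop)))
        (sect₁_add f (pre M) (𝟙 (f.fn.obj W.unop)) a b)).trans (map_add _ _ _)
      map_smul' := fun r a => (congrArg (ψ.app (op (f.fn.obj W.unop)))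
        ((sect₁_smul f (pre M) (𝟙 (f.fn.obj W.unop)) r a).trans
          (congrArg (· • _) (sig_id f W.unop r)))).trans (map_smul _ _ _) }
  naturality {W W'} h := by
    refine ModuleCat.hom_ext (LinearMap.ext fun m => ?_)
    change ψ.app (op (f.fn.obj W'.unop))
        (sect₁ f (pre M) (𝟙 (f.fn.obj W'.unop)) (res (pre M) h.unop.op m)) =
      res (pre G) (f.fn.map h.unop).op
        (ψ.app (op (f.fn.obj W.unop)) (sect₁ f (pre M) (𝟙 (f.fn.obj W.unop)) m))
    rw [← app_res, res_sect₁, sect₁_res, Category.id_comp, Category.comp_id]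

/-- The value of a map into a direct image on a pulled back section. -/
noncomputable abbrev tripVal (φ : pre M ⟶ pre (f.push.obj G)) {V : C} (t : Trip f (pre M) V) :
    (pre G).obj (op V) :=
  res (pre G) t.g.op (ofPush f G (φ.app (op t.X) t.m))

lemma linearCombination_vanAt (φ : pre M ⟶ pre (f.push.obj G)) {V : C} {ξ : Sums f (pre M) V}
    (hξ : VanAt f (pre M) ξ) :
    Finsupp.linearCombination (O_C.obj.obj (op V)) (tripVal f M G φ) ξ = 0 := by
  obtain ⟨X, g, n, t, b, h, ht, rfl, hmem⟩ := hξ
  let val : (pre M).obj (op X) → (pre G).obj (op V) := fun q => res (pre G) g.op (ofPush f G (φ.app (op X) q))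
  have h1 : ∀ j, tripVal f M G φ (t j) = val (res (pre M) (h j).op (t j).m) := fun j => by
    change res (pre G) (t j).g.op _ = res (pre G) g.op (ofPush f G (φ.app (op X) _))
    rw [app_res, res_ofPush, res_res, ← op_comp, ← ht j]
  have h2 : ∀ x ∈ rels f (pre M) g, Finsupp.linearCombination (O_C.obj.obj (op V)) val x = 0 := by
    intro x hx
    induction hx using Submodule.span_induction with
    | zero => exact map_zero _
    | add a b _ _ ha hb => rw [map_add, ha, hb, add_zero]
    | smul r a _ ha => rw [map_smul, ha, smul_zero]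
    | mem a ha =>
      obtain ⟨κ, hκ, rfl⟩ := ha
      rw [Finsupp.linearCombination_apply, Finsupp.sum_mapRange_index (h := fun q r => r • val q) (fun q => zero_smul _ _)]
      have h3 : ∀ q (r : O_D.obj.obj (op X)), val (r • q) = sig f g r • val q := fun q r => by
        change res (pre G) g.op (ofPush f G (φ.app (op X) (r • q))) = _
        rw [map_smul, ofPush_smul, res_smul]
        rfl
      simp only [← h3]
      refine Eq.trans ?_ (show val 0 = 0 by simp only [val, map_zero]; exact res_zero _ _)
      have h4 : (κ.sum fun q r => r • q) = 0 := by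
        simpa [Finsupp.linearCombination_apply] using hκ
      rw [← h4]
      exact (map_finsuppSum (AddMonoidHom.mk' val (fun a b => by
        simp only [val, map_add]; exact res_add _ _ _ _)) κ fun q r => r • q).symm
  rw [map_sum]
  simp only [Finsupp.linearCombination_single, h1]
  have := h2 _ hmem
  rw [map_sum] at this
  simpa only [Finsupp.linearCombination_single] using this

lemma linearCombination_sumsRes (φ : pre M ⟶ pre (f.push.obj G)) {V V' : C} (v : V' ⟶ V)
    (ξ : Sums f (pre M) V) :
    res (pre G) v.op (Finsupp.linearCombination (O_C.obj.obj (op V)) (tripVal f M G φ) ξ) =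
      Finsupp.linearCombination (O_C.obj.obj (op V')) (tripVal f M G φ) (sumsRes f (pre M) v ξ) := by
  induction ξ using Finsupp.induction_linear with
  | zero => simp [res_zero]
  | add a b ha hb => rw [map_add, res_add, ha, hb, map_add, map_add]
  | single t b =>
    rw [sumsRes_single, Finsupp.linearCombination_single, Finsupp.linearCombination_single, res_smul,
      tripVal, res_res]
    rfl

lemma linearCombination_van (φ : pre M ⟶ pre (f.push.obj G)) {V : C} (ξ : Sums f (pre M) V)
    (hξ : Van f (pre M) ξ) :
    Finsupp.linearCombination (O_C.obj.obj (op V)) (tripVal f M G φ) ξ = 0 := by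
  obtain ⟨S, hS, h⟩ := hξ
  refine ext_of_sieve (X := op V) hS fun V' v hv => ?_
  rw [linearCombination_sumsRes, linearCombination_vanAt f M G φ (h v hv), res_zero]

/-- The map out of the model given by a map into a direct image. -/
noncomputable def pushToModel (φ : pre M ⟶ pre (f.push.obj G)) : pullModel f (pre M) ⟶ pre G where
  app V := ModuleCat.ofHom ((vanSub f (pre M) V.unop).liftQ
    (Finsupp.linearCombination (O_C.obj.obj V) (tripVal f M G φ (V := V.unop)))
    fun ξ hξ => linearCombination_van f M G φ ξ hξ)
  naturality {V V'} v := by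
    refine ModuleCat.hom_ext (LinearMap.ext fun x => ?_)
    obtain ⟨ξ, rfl⟩ := Submodule.Quotient.mk_surjective _ x
    exact (linearCombination_sumsRes f M G φ v.unop ξ).symm

lemma pushToModel_sect₁ (φ : pre M ⟶ pre (f.push.obj G)) {V : C} {X : D} (g : V ⟶ f.fn.obj X)
    (m : (pre M).obj (op X)) :
    (pushToModel f M G φ).app (op V) (sect₁ f (pre M) g m) = tripVal f M G φ ⟨X, g, m⟩ := by
  change Finsupp.linearCombination (O_C.obj.obj (op V)) (tripVal f M G φ) (Finsupp.single ⟨X, g, m⟩ 1) = _
  rw [Finsupp.linearCombination_single, one_smul]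

/-- Maps out of the model. -/
noncomputable def modelHomEquiv : (pullModel f (pre M) ⟶ pre G) ≃ (pre M ⟶ pre (f.push.obj G)) where
  toFun := modelToPush f M G
  invFun := pushToModel f M G
  left_inv ψ := by
    refine PresheafOfModules.hom_ext fun V => ModuleCat.hom_ext (LinearMap.ext fun x => ?_)
    obtain ⟨ξ, rfl⟩ := cls_surjective f (pre M) (V := V.unop) x
    induction ξ using Finsupp.induction_linear with
    | zero => rw [map_zero, map_zero, map_zero]
    | add a b ha hb => rw [map_add, map_add, map_add, ha, hb]
    | single t b =>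
      rw [cls_single, map_smul, map_smul]
      refine congrArg (b • ·) ?_
      refine (pushToModel_sect₁ f M G _ t.g t.m).trans ?_
      change res (pre G) t.g.op (ψ.app (op (f.fn.obj t.X)) (sect₁ f (pre M) (𝟙 (f.fn.obj t.X)) t.m)) = _
      rw [← app_res, res_sect₁, Category.comp_id]
  right_inv φ := by
    refine PresheafOfModules.hom_ext fun W => ModuleCat.hom_ext (LinearMap.ext fun m => ?_)
    change (pushToModel f M G φ).app (op (f.fn.obj W.unop)) (sect₁ f (pre M) (𝟙 (f.fn.obj W.unop)) m) = _
    rw [pushToModel_sect₁]
    exact (congr($((pre G).map_id (op (f.fn.obj W.unop))) (ofPush f G (φ.app W m))))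

lemma modelToPush_comp {G' : ModSite.Mod O_C} (ψ : pullModel f (pre M) ⟶ pre G) (a : G ⟶ G') :
    modelToPush f M G' (ψ ≫ fgt.map a) = modelToPush f M G ψ ≫ fgt.map (f.push.map a) := rfl

/-- The sheafification of the model is the inverse image. -/
noncomputable def shfPullModelIso : shf.obj (pullModel f (pre M)) ≅ f.pull.obj M :=
  isoOfHomEquiv
    (fun G => ((shfHomEquiv _ G).trans (modelHomEquiv f M G)).trans
      ((fullyFaithfulFgt (O := O_D)).homEquiv.symm.trans (f.adj.homEquiv M G).symm))
    (fun G G' a b => by
      simp only [Equiv.trans_apply]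
      rw [shfHomEquiv, Adjunction.homEquiv_naturality_right, ← Adjunction.homEquiv_naturality_right_symm]
      refine congrArg _ ?_
      exact fgt.map_injective (((fullyFaithfulFgt (O := O_D)).map_preimage _).trans
        ((modelToPush_comp f M G _ b).trans ((fgt.map_comp _ _).trans
          (congrArg (· ≫ fgt.map (f.push.map b)) ((fullyFaithfulFgt (O := O_D)).map_preimage _))).symm)))
where
  /-- The forgetful functor is fully faithful. -/
  fullyFaithfulFgt {C : Type u} [SmallCategory C] {J : GrothendieckTopology C}
      {O : Sheaf J CommRingCat.{u}} : (fgt : ModSite.Mod O ⥤ PreM O).FullyFaithful :=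
    Functor.FullyFaithful.ofFullyFaithful _

/-- The inverse image of a flat module is flat. -/
theorem isFlat_pull (hM : ModSite.IsFlat M) : ModSite.IsFlat (f.pull.obj M) :=
  isFlat_of_iso (shfPullModelIso f M)
    (isFlat_shf_of_locFlat (locFlat_pullModel (f := f) (locFlat_of_isFlat hM)))

end Groth.Agent.SiteMod
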