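import Groth.Agent.SiteCoh.CompactFree
import Groth.Agent.CohColim46.Site
import Groth.Agent.Mod48.ExtHK
import Groth.Agent.Mod48.FreeOn
import Groth.Agent.SiteCoh.ExtIso
import Groth.Agent.SiteCoh.FreeSet
import Mathlib.CategoryTheory.Limits.Constructions.Filtered
import Mathlib.Algebra.Category.Grp.FilteredColimits

/-!
`Ext` out of `j_! O_U` commutes with direct sums, under finiteness conditions on coverings.
-/

universe v u

open CategoryTheory CategoryTheory.Limits Opposite CategoryTheory.Abelian
open CategoryTheory.Limits.CoproductsFromFiniteFiltered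
open Groth.Agent.CohDer42.CompactBdd

set_option backward.isDefEq.respectTransparency false

namespace Groth.Agent.SiteMod

section Sums

lemma addCommGrp_hom_sum_apply {P Q : AddCommGrpCat.{v}} {κ : Type v} (s : Finset κ) (f : κ → (P ⟶ Q))
    (y : P) : (∑ a ∈ s, f a) y = ∑ a ∈ s, f a y :=
  map_sum (AddMonoidHom.mk' (fun g : P ⟶ Q => g y) fun _ _ => rfl) f s

variable {A : Type u} [Category.{v} A] [Preadditive A] [HasCoproducts.{v} A]
  [HasFilteredColimitsOfSize.{v, v} A] (G : A ⥤ AddCommGrpCat.{v}) [G.Additive]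
  (hG : ∀ (K : Type v) [SmallCategory K] [IsFiltered K], PreservesColimitsOfShape K G)
include hG

lemma exists_sum_of_filtered {ι : Type v} (X : ι → A) (x : G.obj (∐ X)) :
    ∃ S : Finset ι, x = ∑ k ∈ S, G.map (Sigma.ι X k) (G.map (pr X k) x) := by
  classical
  let M : AddSubgroup (G.obj (∐ X)) :=
    { carrier := {x | ∃ S : Finset ι, ∀ S', S ⊆ S' → x = ∑ k ∈ S', G.map (Sigma.ι X k) (G.map (pr X k) x)}
      zero_mem' := ⟨∅, fun S' _ => by simp⟩
      add_mem' := fun {x y} ⟨S, hS⟩ ⟨T, hT⟩ => ⟨S ∪ T, fun S' h => by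
        simp only [map_add, Finset.sum_add_distrib]
        rw [← hS S' (Finset.union_subset_left h), ← hT S' (Finset.union_subset_right h)]⟩
      neg_mem' := fun {x} ⟨S, hS⟩ => ⟨S, fun S' h => by
        simp only [map_neg, Finset.sum_neg_distrib]
        rw [← hS S' h]⟩ }
  suffices h : x ∈ M by
    obtain ⟨S, hS⟩ := h
    exact ⟨S, hS S subset_rfl⟩
  have hsingle : ∀ (k : ι) (y : G.obj (X k)), G.map (Sigma.ι X k) y ∈ M := fun k y =>
    ⟨{k}, fun S' h => by
      rw [Finset.sum_eq_single k]
      · rw [← ConcreteCategory.comp_apply, ← ConcreteCategory.comp_apply, ← G.map_comp, ← G.map_comp,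
          reassoc_of% (ι_pr X k)]
      · intro i _ hi
        rw [← ConcreteCategory.comp_apply, ← G.map_comp, ← ConcreteCategory.comp_apply, ← G.map_comp,
          reassoc_of% (ι_pr_ne X (Ne.symm hi)), zero_comp, G.map_zero]
        rfl
      · exact fun hk => absurd (h (Finset.mem_singleton_self k)) hk⟩
  let F := Discrete.functor X
  let c := liftToFinsetColimitCocone F
  let e : c.cocone.pt ≅ ∐ X := c.isColimit.coconePointUniqueUpToIso (colimit.isColimit F)
  have := hG (Finset (Discrete ι))
  have hL : IsColimit (G.mapCocone (colimit.cocone (liftToFinsetObj F))) :=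
    isColimitOfPreserves G (colimit.isColimit _)
  obtain ⟨T, y, hy⟩ := Concrete.isColimit_exists_rep _ hL (G.map e.inv x)
  have hx : x = G.map (colimit.ι (liftToFinsetObj F) T ≫ e.hom) y := by
    rw [G.map_comp, ConcreteCategory.comp_apply]
    refine Eq.trans ?_ (congrArg (G.map e.hom) hy.symm)
    rw [← ConcreteCategory.comp_apply, ← G.map_comp, e.inv_hom_id, G.map_id]
    rfl
  have hid : 𝟙 (∐ fun t : T => F.obj t.1) =
      ∑ t : T, pr (fun t : T => F.obj t.1) t ≫ Sigma.ι (fun t : T => F.obj t.1) t := by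
    refine Sigma.hom_ext _ _ fun t => ?_
    rw [Preadditive.comp_sum, Finset.sum_eq_single t]
    · rw [reassoc_of% (ι_pr (fun t : T => F.obj t.1) t), Category.comp_id]
    · intro s _ hs
      rw [reassoc_of% (ι_pr_ne (fun t : T => F.obj t.1) (Ne.symm hs)), zero_comp]
    · exact fun h => absurd (Finset.mem_univ t) h
  let g : (∐ fun t : T => F.obj t.1) ⟶ ∐ X := colimit.ι (liftToFinsetObj F) T ≫ e.hom
  have hg : g = (∑ t : T, pr (fun t : T => F.obj t.1) t ≫ Sigma.ι (fun t : T => F.obj t.1) t) ≫ g :=
    (Category.id_comp g).symm.trans (congrArg (· ≫ g) hid)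
  rw [show x = G.map g y from hx, hg, Preadditive.sum_comp, Functor.map_sum]
  rw [addCommGrp_hom_sum_apply]
  refine M.sum_mem fun t _ => ?_
  have hleg : Sigma.ι (fun t : T => F.obj t.1) t ≫ colimit.ι (liftToFinsetObj F) T ≫ e.hom =
      Sigma.ι X t.1.as := by
    have h1 : c.cocone.ι.app t.1 ≫ e.hom = Sigma.ι X t.1.as :=
      c.isColimit.comp_coconePointUniqueUpToIso_hom _ _
    rw [← h1, ← Category.assoc]
    refine congrArg (· ≫ e.hom) ?_
    change _ = Sigma.ι (fun x : ({t.1} : Finset (Discrete ι)) => F.obj x.1) ⟨t.1, _⟩ ≫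
      colimit.ι (liftToFinsetObj F) {t.1}
    rw [← colimit.w (liftToFinsetObj F) (homOfLE (Finset.singleton_subset_iff.2 t.2)), ← Category.assoc]
    refine congrArg (· ≫ colimit.ι (liftToFinsetObj F) T) ?_
    simp [liftToFinsetObj]
  rw [Category.assoc, hleg, G.map_comp]
  exact hsingle _ _

lemma preservesColimitsOfShape_discrete_of_filtered (ι : Type v) :
    PreservesColimitsOfShape (Discrete ι) G := by
  classical
  suffices h : ∀ X : ι → A, PreservesColimit (Discrete.functor X) G from
    preservesColimitsOfShape_of_discrete G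
  intro X
  refine preservesColimit_of_preserves_colimit_cocone (coproductIsCoproduct X) ?_
  refine (isColimitMapCoconeCofanMkEquiv G X _).symm ?_
  let φ : DirectSum ι (fun k => G.obj (X k)) →+ G.obj (∐ X) :=
    DirectSum.toAddMonoid fun k => (G.map (Sigma.ι X k)).hom
  have hφ : ∀ k y, φ (DirectSum.of (fun k => (G.obj (X k) : Type v)) k y) = G.map (Sigma.ι X k) y :=
    fun k y => DirectSum.toAddMonoid_of (fun k => (G.map (Sigma.ι X k)).hom) k y
  have hproj : ∀ w k, G.map (pr X k) (φ w) = w k := by
    intro w k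
    induction w using DirectSum.induction_on with
    | zero => simp
    | of j y =>
      rw [hφ, ← ConcreteCategory.comp_apply, ← G.map_comp]
      by_cases hjk : j = k
      · subst hjk
        rw [ι_pr, G.map_id, DirectSum.of_eq_same]
        rfl
      · rw [ι_pr_ne X hjk, G.map_zero, DirectSum.of_eq_of_ne _ _ _ (Ne.symm hjk)]
        rfl
    | add a b ha hb => rw [map_add, map_add, ha, hb]; rfl
  have hbij : Function.Bijective φ := by
    refine ⟨fun a b h => DFinsupp.ext fun k => by rw [← hproj a k, ← hproj b k, h], fun x => ?_⟩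
    obtain ⟨S, hS⟩ := exists_sum_of_filtered G hG X x
    refine ⟨∑ k ∈ S, DirectSum.of (fun k => (G.obj (X k) : Type v)) k (G.map (pr X k) x), ?_⟩
    rw [map_sum]
    simp only [hφ]
    exact hS.symm
  let e := AddEquiv.ofBijective φ hbij
  have he : ∀ k y, e.symm (G.map (Sigma.ι X k) y) = DirectSum.of (fun k => (G.obj (X k) : Type v)) k y :=
    fun k y => e.symm_apply_eq.2 (hφ k y).symm
  refine Cofan.IsColimit.mk _
    (fun s => AddCommGrpCat.ofHom
      ((DirectSum.toAddMonoid fun k => (s.inj k).hom).comp e.symm.toAddMonoidHom))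
    (fun s k => AddCommGrpCat.hom_ext (AddMonoidHom.ext fun y => ?_))
    (fun s m hm => AddCommGrpCat.hom_ext (AddMonoidHom.ext fun x => ?_))
  · change DirectSum.toAddMonoid (fun k => (s.inj k).hom) (e.symm (G.map (Sigma.ι X k) y)) = _
    rw [he, DirectSum.toAddMonoid_of]
  · obtain ⟨w, rfl⟩ := e.surjective x
    change m.hom (e w) = DirectSum.toAddMonoid (fun k => (s.inj k).hom) (e.symm (e w))
    rw [e.symm_apply_apply]
    induction w using DirectSum.induction_on with
    | zero => simp
    | of j y =>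
      rw [DirectSum.toAddMonoid_of]
      refine (congrArg m.hom (hφ j y)).trans ?_
      exact congrArg (fun f => f.hom y) (hm j)
    | add a b ha hb => rw [map_add, map_add, ha, hb, map_add]

end Sums

open Mod48

variable {C : Type u} [SmallCategory C] {J : GrothendieckTopology C} (O : Sheaf J CommRingCat.{u})
  [HasExt.{u} (ModSite.Mod O)] (U : C)

/-- `Ext` out of `j_! O_U` commutes with direct sums if the cohomology over `U` of abelian sheaves
commutes with filtered colimits. -/
theorem preservesCoproducts_ext_freeOn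
    (h : ∀ (p : ℕ) (K : Type u) [SmallCategory K] [IsFiltered K], PreservesColimitsOfShape K
      ((Sheaf.cohomologyPresheafFunctor J p).flip.obj (op U) :
        Sheaf J AddCommGrpCat.{u} ⥤ AddCommGrpCat.{u}))
    (p : ℕ) (ι : Type u) :
    PreservesColimitsOfShape (Discrete ι) (extFunctorObj.{u} (ModSite.freeOn O U) p) := by
  have : IsGrothendieckAbelian.{u} (ModSite.Mod O) :=
    Coh69.sheafOfModules_isGrothendieckAbelian (ModSite.ringSh O)
  have := toSheaf_preservesColimits (O := O)
  have : PreservesFiniteColimits (SheafOfModules.toSheaf.{u} (ModSite.ringSh O)) :=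
    PreservesColimitsOfSize.preservesFiniteColimits _
  let T := SheafOfModules.toSheaf.{u} (ModSite.ringSh O)
  let η := freeSetUnit O (yoneda.obj U)
  have hbij : ∀ q F, Function.Bijective (SiteCoh.extTransfer T η F q) :=
    SiteCoh.extTransfer_bijective _ _ (freeSetUnit_bijective O (yoneda.obj U)) fun I _ k =>
      ((SiteCoh.extIsoEquiv (SiteCoh.freeAbReprIso J U) _ (k + 1)).toEquiv.subsingleton_congr).1
        (isTotallyAcyclic_toSheaf_injective (ModSite.ringSh O) I (SiteCoh.reprSh J U) k)
  let a : ModSite.freeOn O U ≅ freeSetMod O (yoneda.obj U) := freeOnIso U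
  let e : extFunctorObj.{u} (ModSite.freeOn O U) p ≅
      T ⋙ ((Sheaf.cohomologyPresheafFunctor J p).flip.obj (op U) :
        Sheaf J AddCommGrpCat.{u} ⥤ AddCommGrpCat.{u}) :=
    NatIso.ofComponents
      (fun F => ((SiteCoh.extIsoEquiv a F p).trans (AddEquiv.ofBijective _ (hbij p F))).toAddCommGrpIso)
      (fun {F F'} g => AddCommGrpCat.hom_ext (AddMonoidHom.ext fun (x : Ext.{u} (ModSite.freeOn O U) F p) => by
        change SiteCoh.extTransfer T η F' p ((Ext.mk₀ a.inv).comp (x.comp (Ext.mk₀ g) (add_zero p)) (zero_add p)) =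
          (SiteCoh.extTransfer T η F p ((Ext.mk₀ a.inv).comp x (zero_add p))).comp (Ext.mk₀ (T.map g)) (add_zero p)
        rw [← SiteCoh.extTransfer_naturality, Ext.comp_assoc_of_third_deg_zero]))
  have hK : ∀ (K : Type u) [SmallCategory K] [IsFiltered K],
      PreservesColimitsOfShape K (extFunctorObj.{u} (ModSite.freeOn O U) p) := fun K _ _ => by
    have := h p K
    exact preservesColimitsOfShape_of_natIso e.symm
  have : (extFunctorObj.{u} (ModSite.freeOn O U) p).Additive :=
    ⟨fun {F F' f g} => AddCommGrpCat.hom_ext (AddMonoidHom.ext fun (x : Ext.{u} (ModSite.freeOn O U) F p) => by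
      change x.comp (Ext.mk₀ (f + g)) (add_zero p) =
        x.comp (Ext.mk₀ f) (add_zero p) + x.comp (Ext.mk₀ g) (add_zero p)
      rw [Ext.mk₀_add, Ext.comp_add])⟩
  exact preservesColimitsOfShape_discrete_of_filtered _ hK ι

/-- `j_! O_U` behaves as a compact object on uniformly bounded below families. -/
theorem bijective_homSum_freeOn [HasDerivedCategory.{u} (ModSite.Mod O)]
    (h : ∀ (p : ℕ) (K : Type u) [SmallCategory K] [IsFiltered K], PreservesColimitsOfShape K
      ((Sheaf.cohomologyPresheafFunctor J p).flip.obj (op U) :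
        Sheaf J AddCommGrpCat.{u} ⥤ AddCommGrpCat.{u}))
    {I : Type u} (M : I → DerivedCategory (ModSite.Mod O)) [HasCoproduct M]
    (a : ℤ) (hM : ∀ i, (M i).IsGE a) :
    Function.Bijective (CohDer.homSumToHomCoprod
      ((DerivedCategory.singleFunctor (ModSite.Mod O) 0).obj (ModSite.freeOn O U)) M) := by
  have : IsGrothendieckAbelian.{u} (ModSite.Mod O) :=
    Coh69.sheafOfModules_isGrothendieckAbelian (ModSite.ringSh O)
  exact SiteCoh.bijective_homSum_of_isGE _ (preservesCoproducts_ext_freeOn O U h) M a hM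

end Groth.Agent.SiteMod
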