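import Groth.Agent.SiteMod.ExtZero
import Mathlib.Algebra.Category.ModuleCat.Presheaf.PushforwardZeroMonoidal

/-!
Restriction to `C/U`, extension by zero and the tensor product.
-/

universe u

open CategoryTheory CategoryTheory.Limits Opposite MonoidalCategory
open scoped TensorProduct

namespace Groth.Agent.SiteMod

open Mod48

variable {C : Type u} [SmallCategory C] {J : GrothendieckTopology C} {O : Sheaf J CommRingCat.{u}} (U : C)

/-- Restriction of presheaves of modules to `C/U`. -/
noncomputable abbrev preR : PreM O ⥤ PreM (O.over U) :=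
  PresheafOfModules.pushforward₀OfCommRingCat (Over.forget U) O.obj

lemma res_preR (P : PreM O) {W W' : Over U} (g : W' ⟶ W) (x : P.obj (op W.left)) :
    res ((preR U).obj P) g.op x = res P g.left.op x := rfl

lemma preR_map_app {P Q : PreM O} (f : P ⟶ Q) (W : Over U) (x : P.obj (op W.left)) :
    ((preR U).map f).app (op W) x = f.app (op W.left) x := rfl

lemma isLocalIso_preR {P Q : PreM O} (f : P ⟶ Q) (hf : IsLocalIso f) :
    IsLocalIso ((preR U).map f) := by
  refine ⟨⟨fun {X} x y h => ?_⟩, ⟨fun {X} s => ?_⟩⟩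
  · have := hf.inj.equalizerSieve_mem (X := op X.unop.left) x y h
    refine J.superset_covering (fun V g hg => ?_) this
    rw [Sieve.overEquiv_iff]
    exact hg
  · have := hf.surj.imageSieve_mem (U := X.left) s
    refine J.superset_covering (fun V g hg => ?_) this
    rw [Sieve.overEquiv_iff]
    exact hg

/-- Sheafification commutes with restriction. -/
noncomputable def restrShfHom (P : PreM O) :
    shf.obj ((preR U).obj P) ⟶ (ModSite.restr O U).obj (shf.obj P) :=
  shf.map ((preR U).map (shfU P)) ≫ shfCounitIso.hom.app ((ModSite.restr O U).obj (shf.obj P))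

lemma isIso_restrShfHom (P : PreM O) : IsIso (restrShfHom U P) := by
  have h1 : IsIso (shf.map ((preR U).map (shfU P))) :=
    (isIso_shf_map_iff_isLocalIso _).2
      (isLocalIso_preR U _ ((isIso_shf_map_iff_isLocalIso _).1 inferInstance))
  exact @IsIso.comp_isIso _ _ _ _ _ _ _ h1 (shfCounitIso.app ((ModSite.restr O U).obj (shf.obj P))).isIso_hom

lemma preR_fgt_map {F G : ModSite.Mod O} (g : F ⟶ G) :
    (preR U).map (fgt.map g) = fgt.map ((ModSite.restr O U).map g) := rfl

lemma restrShfHom_naturality {P Q : PreM O} (f : P ⟶ Q) :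
    shf.map ((preR U).map f) ≫ restrShfHom U Q =
      restrShfHom U P ≫ (ModSite.restr O U).map (shf.map f) := by
  have h1 : (preR U).map f ≫ (preR U).map (shfU Q) =
      (preR U).map (shfU P) ≫ fgt.map ((ModSite.restr O U).map (shf.map f)) := by
    refine Eq.trans ?_ (congrArg ((preR U).map (shfU P) ≫ ·) (preR_fgt_map U (shf.map f)))
    exact ((preR U).map_comp _ _).symm.trans
      ((congrArg (preR U).map (shfU_naturality f)).trans ((preR U).map_comp _ _))
  have h2 : shf.map (fgt.map ((ModSite.restr O U).map (shf.map f))) ≫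
      shfCounitIso.hom.app ((ModSite.restr O U).obj (shf.obj Q)) =
        shfCounitIso.hom.app ((ModSite.restr O U).obj (shf.obj P)) ≫
          (ModSite.restr O U).map (shf.map f) :=
    shfCounitIso.hom.naturality ((ModSite.restr O U).map (shf.map f))
  unfold restrShfHom
  rw [← Category.assoc, ← Functor.map_comp, h1, Category.assoc]
  refine (congrArg (· ≫ _) (shf.map_comp _ _)).trans ((Category.assoc _ _ _).trans ?_)
  exact congrArg (shf.map ((preR U).map (shfU P)) ≫ ·) h2

/-- Sheafification commutes with restriction, as an isomorphism of functors. -/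
noncomputable def restrShfIso : preR U ⋙ shf ≅ (shf : PreM O ⥤ ModSite.Mod O) ⋙ ModSite.restr O U :=
  NatIso.ofComponents (fun P => @asIso _ _ _ _ (restrShfHom U P) (isIso_restrShfHom U P))
    (fun {P Q} f => by
      exact restrShfHom_naturality U f)

instance commRing_restrict (X : (Over U)ᵒᵖ) :
    CommRing (((Over.forget U).op ⋙ O.obj ⋙ forget₂ CommRingCat RingCat).obj X) :=
  inferInstanceAs (CommRing (O.obj.obj (op X.unop.left)))

/-- Restriction of a sectionwise tensor product. -/
noncomputable def preRTens (P Q : PreM O) : (preR U).obj (P ⊗ Q) ≅ (preR U).obj P ⊗ (preR U).obj Q :=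
  PresheafOfModules.isoMk (fun _ => Iso.refl _)
    (fun _ _ _ => ModuleCat.MonoidalCategory.tensor_ext fun _ _ => rfl)

lemma preRTens_tp (P Q : PreM O) (W : Over U) (p : P.obj (op W.left)) (q : Q.obj (op W.left)) :
    (preRTens U P Q).hom.app (op W) (tp (M := P) (N := Q) p q) =
      tp (M := (preR U).obj P) (N := (preR U).obj Q) (X := op W) p q := rfl

lemma preRTens_natural {P P' : PreM O} (f : P ⟶ P') (Q : PreM O) :
    (preR U).map (f ▷ Q) ≫ (preRTens U P' Q).hom =
      (preRTens U P Q).hom ≫ (preR U).map f ▷ (preR U).obj Q :=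
  tensor_hom_ext (M := (preR U).obj P) (N := (preR U).obj Q) fun _ _ _ => rfl

lemma preRTens_inv_natural {P P' : PreM O} (f : P ⟶ P') (Q : PreM O) :
    (preR U).map f ▷ (preR U).obj Q ≫ (preRTens U P' Q).inv =
      (preRTens U P Q).inv ≫ (preR U).map (f ▷ Q) := by
  rw [Iso.comp_inv_eq, Category.assoc, preRTens_natural, Iso.inv_hom_id_assoc]

/-- Restriction of the tensor product of two modules, sectionwise. -/
noncomputable def restrPreTens (M N : ModSite.Mod O) :
    (preR U).obj (pre M ⊗ pre N) ≅
      pre ((ModSite.restr O U).obj M) ⊗ pre ((ModSite.restr O U).obj N) :=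
  preRTens U (pre M) (pre N)

lemma restrPreTens_natural {M M' : ModSite.Mod O} (f : M ⟶ M') (N : ModSite.Mod O) :
    (preR U).map (fgt.map f ▷ pre N) ≫ (restrPreTens U M' N).hom =
      (restrPreTens U M N).hom ≫
        fgt.map ((ModSite.restr O U).map f) ▷ pre ((ModSite.restr O U).obj N) :=
  tensor_hom_ext (M := (preR U).obj (pre M)) (N := (preR U).obj (pre N)) fun _ _ _ => rfl

/-- Restriction commutes with the tensor product, on objects. -/
noncomputable def restrTensApp (N M : ModSite.Mod O) :
    (ModSite.restr O U).obj ((tR N).obj M) ≅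
      (tR ((ModSite.restr O U).obj N)).obj ((ModSite.restr O U).obj M) :=
  ((restrShfIso U).app (pre M ⊗ pre N)).symm ≪≫ shf.mapIso (restrPreTens U M N)

lemma restrTensApp_natural (N : ModSite.Mod O) {M M' : ModSite.Mod O} (f : M ⟶ M') :
    (ModSite.restr O U).map ((tR N).map f) ≫ (restrTensApp U N M').hom =
      (restrTensApp U N M).hom ≫
        (tR ((ModSite.restr O U).obj N)).map ((ModSite.restr O U).map f) := by
  have h1 : (ModSite.restr O U).map ((tR N).map f) ≫ (restrShfIso U).inv.app (pre M' ⊗ pre N) =
      (restrShfIso U).inv.app (pre M ⊗ pre N) ≫ shf.map ((preR U).map (fgt.map f ▷ pre N)) :=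
    (restrShfIso U).inv.naturality (fgt.map f ▷ pre N)
  have h2 := congrArg shf.map (restrPreTens_natural U f N)
  rw [Functor.map_comp, Functor.map_comp] at h2
  exact (Category.assoc _ _ _).symm.trans ((h1 =≫ _).trans ((Category.assoc _ _ _).trans
    ((_ ≫= h2).trans (Category.assoc _ _ _).symm)))

/-- Restriction commutes with `- ⊗ N`. -/
noncomputable def restrTensIso (N : ModSite.Mod O) :
    tR N ⋙ ModSite.restr O U ≅ ModSite.restr O U ⋙ tR ((ModSite.restr O U).obj N) :=
  NatIso.ofComponents (fun M => restrTensApp U N M) (fun {M M'} f => restrTensApp_natural U N f)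

/-! ### Extension by zero -/

/-- Extension by zero of presheaves of modules. -/
noncomputable abbrev extP : PreM (O.over U) ⥤ PreM O :=
  SGA45.ExtByZero.ext U (ModSite.ringSh O).obj

/-- Extension by zero of presheaves is left adjoint to restriction. -/
noncomputable def extPAdj : extP (O := O) U ⊣ preR U :=
  (SGA45.ExtByZero.adj (X := U) (R := (ModSite.ringSh O).obj)).ofNatIsoRight
    (NatIso.ofComponents (fun M => PresheafOfModules.isoMk (fun _ => Iso.refl _)))

/-- Sheafification commutes with extension by zero. -/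
noncomputable def extShfIso :
    extP (O := O) U ⋙ shf ≅ (shf : PreM (O.over U) ⥤ ModSite.Mod (O.over U)) ⋙ ModSite.extZero O U :=
  (((extPAdj U).comp shfAdj).ofNatIsoRight
      (Iso.refl _ : fgt ⋙ preR U ≅ ModSite.restr O U ⋙ fgt)).leftAdjointUniq
    (shfAdj.comp (ModSite.extZeroAdj O U))

variable (Q : PreM O)

/-- The projection morphism on presheaves. -/
noncomputable def projP (P : PreM (O.over U)) :
    (extP U).obj (P ⊗ (preR U).obj Q) ⟶ (extP U).obj P ⊗ Q :=
  ((extPAdj U).homEquiv _ _).symm
    ((extPAdj U).unit.app P ▷ (preR U).obj Q ≫ (preRTens U _ Q).inv)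

lemma projP_natural {P P' : PreM (O.over U)} (a : P ⟶ P') :
    (extP U).map (a ▷ (preR U).obj Q) ≫ projP U Q P' = projP U Q P ≫ (extP U).map a ▷ Q := by
  rw [projP, projP, ← Adjunction.homEquiv_naturality_left_symm,
    ← Adjunction.homEquiv_naturality_right_symm]
  refine congrArg _ ?_
  have hn : (extPAdj U).unit.app P ≫ (preR U).map ((extP U).map a) = a ≫ (extPAdj U).unit.app P' :=
    ((extPAdj U).unit.naturality a).symm
  rw [Category.assoc, ← preRTens_inv_natural, ← MonoidalCategory.comp_whiskerRight_assoc,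
    ← MonoidalCategory.comp_whiskerRight_assoc, hn]

/-- A summand of a presheaf extension by zero. -/
noncomputable def sumP (P : PreM (O.over U)) {W : C} (φ : W ⟶ U) :
    P.obj (op (Over.mk φ)) →+ ((extP U).obj P).obj (op W) :=
  AddMonoidHom.mk'
    (fun x => SGA45.ExtByZero.ins (R := (ModSite.ringSh O).obj) P (op W) φ x)
    (fun x y => map_add (SGA45.ExtByZero.ins (R := (ModSite.ringSh O).obj) P (op W) φ) x y)

lemma sumP_smul (P : PreM (O.over U)) {W : C} (φ : W ⟶ U) (r : O.obj.obj (op W))
    (x : P.obj (op (Over.mk φ))) : sumP U P φ (sc U φ r • x) = r • sumP U P φ x :=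
  (SGA45.ExtByZero.ins (R := (ModSite.ringSh O).obj) P (op W) φ).map_smul r x

lemma induction_sumP (P : PreM (O.over U)) {W : C} {p : ((extP U).obj P).obj (op W) → Prop}
    (h0 : p 0) (hs : ∀ φ x, p (sumP U P φ x)) (ha : ∀ a b, p a → p b → p (a + b))
    (z : ((extP U).obj P).obj (op W)) : p z := by
  classical
  induction (show DirectSum (W ⟶ U) (fun φ => SGA45.ExtByZero.fib (R := (ModSite.ringSh O).obj) P (op W) φ) from z)
    using DirectSum.induction_on with
  | zero => exact h0
  | of φ x => exact hs φ x
  | add a b iha ihb => exact ha a b iha ihb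

lemma extPAdj_unit_apply (P : PreM (O.over U)) {W : C} (φ : W ⟶ U) (x : P.obj (op (Over.mk φ))) :
    ((extPAdj U).unit.app P).app (op (Over.mk φ)) x = sumP U P φ x := rfl

lemma extP_desc_sumP {P : PreM (O.over U)} {N : PreM O} (ψ : P ⟶ (preR U).obj N) {W : C} (φ : W ⟶ U)
    (x : P.obj (op (Over.mk φ))) :
    (((extPAdj U).homEquiv P N).symm ψ).app (op W) (sumP U P φ x) = ψ.app (op (Over.mk φ)) x := by
  conv_rhs => rw [← ((extPAdj U).homEquiv P N).apply_symm_apply ψ, Adjunction.homEquiv_unit]
  rfl

lemma projP_sumP_tp (P : PreM (O.over U)) {W : C} (φ : W ⟶ U) (p : P.obj (op (Over.mk φ)))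
    (q : Q.obj (op W)) :
    (projP U Q P).app (op W)
        (sumP U (P ⊗ (preR U).obj Q) φ (tp (M := P) (N := (preR U).obj Q) p q)) =
      tp (sumP U P φ p) q := by
  rw [projP, extP_desc_sumP]
  rfl

/-- Tensoring one summand with a fixed element. -/
noncomputable def tpRight (P : PreM (O.over U)) {W : C} (φ : W ⟶ U) (q : Q.obj (op W)) :
    P.obj (op (Over.mk φ)) →+ (P ⊗ (preR U).obj Q).obj (op (Over.mk φ)) :=
  AddMonoidHom.mk' (fun p => tp (M := P) (N := (preR U).obj Q) p q) (fun _ _ => tp_add_left _ _ _)

open Classical in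
/-- The candidate inverse of the projection morphism, on a fixed element of the second factor. -/
noncomputable def projInvAux (P : PreM (O.over U)) {W : C} (q : Q.obj (op W)) :
    ((extP U).obj P).obj (op W) →+ ((extP U).obj (P ⊗ (preR U).obj Q)).obj (op W) :=
  DirectSum.toAddMonoid (β := fun φ : W ⟶ U => SGA45.ExtByZero.fib (R := (ModSite.ringSh O).obj) P (op W) φ)
    fun φ => (sumP U (P ⊗ (preR U).obj Q) φ).comp (tpRight U Q P φ q)

lemma projInvAux_sumP (P : PreM (O.over U)) {W : C} (q : Q.obj (op W)) (φ : W ⟶ U)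
    (p : P.obj (op (Over.mk φ))) :
    projInvAux U Q P q (sumP U P φ p) =
      sumP U (P ⊗ (preR U).obj Q) φ (tp (M := P) (N := (preR U).obj Q) p q) := by
  classical
  change projInvAux U Q P q (SGA45.ExtByZero.ins (R := (ModSite.ringSh O).obj) P (op W) φ p) = _
  rw [SGA45.ExtByZero.ins, DirectSum.lof_eq_of]
  exact DirectSum.toAddMonoid_of
    (β := fun φ : W ⟶ U => SGA45.ExtByZero.fib (R := (ModSite.ringSh O).obj) P (op W) φ) _ φ p

/-- The candidate inverse of the projection morphism. -/
noncomputable def projInv (P : PreM (O.over U)) (W : C) :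
    ((extP U).obj P ⊗ Q).obj (op W) →+ ((extP U).obj (P ⊗ (preR U).obj Q)).obj (op W) :=
  TensorProduct.liftAddHom (R := O.obj.obj (op W)) (M := ((extP U).obj P).obj (op W)) (N := Q.obj (op W))
    (AddMonoidHom.mk' (fun z => AddMonoidHom.mk' (fun q => projInvAux U Q P q z) (fun q q' => by
        induction z using induction_sumP with
        | h0 => simp
        | hs φ x =>
          simp only [projInvAux_sumP]
          rw [← map_add]
          exact congrArg _ (tp_add_right (M := P) (N := (preR U).obj Q) (X := op (Over.mk φ)) x q q')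
        | ha a b ha hb => rw [map_add, map_add, map_add, ha, hb, add_add_add_comm]))
      (fun z z' => by ext q; exact map_add (projInvAux U Q P q) z z'))
    (fun r z q => by
      change projInvAux U Q P q (r • z) = projInvAux U Q P (r • q) z
      induction z using induction_sumP with
      | h0 => simp
      | hs φ x =>
        rw [← sumP_smul, projInvAux_sumP, projInvAux_sumP]
        refine congrArg _ ?_
        exact (tp_smul_left (M := P) (N := (preR U).obj Q) (X := op (Over.mk φ)) (sc U φ r) x q).trans
          (tp_smul_right (M := P) (N := (preR U).obj Q) (X := op (Over.mk φ)) (sc U φ r) x q).symm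
      | ha a b ha hb => rw [smul_add, map_add, map_add, ha, hb])

lemma projInv_tp (P : PreM (O.over U)) {W : C} (z : ((extP U).obj P).obj (op W)) (q : Q.obj (op W)) :
    projInv U Q P W (tp z q) = projInvAux U Q P q z := rfl

lemma bijective_projP (P : PreM (O.over U)) (W : C) :
    Function.Bijective ((projP U Q P).app (op W)) := by
  refine Function.bijective_iff_has_inverse.2 ⟨projInv U Q P W, fun z => ?_, fun z => ?_⟩
  · induction z using induction_sumP with
    | h0 => exact (congrArg _ (map_zero _)).trans (map_zero _)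
    | hs φ x =>
      induction (show P.obj (op (Over.mk φ)) ⊗[(O.over U).obj.obj (op (Over.mk φ))]
          ((preR U).obj Q).obj (op (Over.mk φ)) from x) using TensorProduct.induction_on with
      | zero =>
        change projInv U Q P W ((projP U Q P).app (op W) (sumP U (P ⊗ (preR U).obj Q) φ 0)) =
          sumP U (P ⊗ (preR U).obj Q) φ 0
        rw [map_zero, map_zero, map_zero]
      | tmul p q =>
        change projInv U Q P W ((projP U Q P).app (op W)
          (sumP U (P ⊗ (preR U).obj Q) φ (tp (M := P) (N := (preR U).obj Q) p q))) =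
            sumP U (P ⊗ (preR U).obj Q) φ (tp (M := P) (N := (preR U).obj Q) p q)
        rw [projP_sumP_tp, projInv_tp, projInvAux_sumP]
      | add a b ha hb =>
        exact ((congrArg _ ((congrArg _ (map_add (sumP U (P ⊗ (preR U).obj Q) φ) a b)).trans (map_add _ _ _))).trans
          (map_add _ _ _)).trans ((congrArg₂ (· + ·) ha hb).trans (map_add (sumP U (P ⊗ (preR U).obj Q) φ) a b).symm)
    | ha a b ha hb => exact ((congrArg _ (map_add _ a b)).trans (map_add _ _ _)).trans (congrArg₂ (· + ·) ha hb)
  · induction (show ((extP U).obj P).obj (op W) ⊗[O.obj.obj (op W)] Q.obj (op W) from z)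
        using TensorProduct.induction_on with
    | zero => exact (congrArg _ (map_zero (projInv U Q P W))).trans (map_zero _)
    | tmul a q =>
      change (projP U Q P).app (op W) (projInv U Q P W (tp a q)) = tp a q
      rw [projInv_tp]
      induction a using induction_sumP with
      | h0 => exact ((congrArg _ (map_zero _)).trans (map_zero _)).trans (TensorProduct.zero_tmul _ q).symm
      | hs φ p => rw [projInvAux_sumP, projP_sumP_tp]
      | ha a b ha hb =>
        exact ((congrArg _ (map_add _ a b)).trans (map_add _ _ _)).trans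
          ((congrArg₂ (· + ·) ha hb).trans (tp_add_left _ _ _).symm)
    | add a b ha hb =>
      exact ((congrArg _ (map_add (projInv U Q P W) a b)).trans (map_add _ _ _)).trans
        (congrArg₂ (· + ·) ha hb)

lemma isLocalIso_of_bijective {P P' : PreM O} (f : P ⟶ P') (hf : ∀ X, Function.Bijective (f.app X)) :
    IsLocalIso f :=
  ⟨Presheaf.isLocallyInjective_of_injective _ _ fun X => (hf X).1,
    Presheaf.isLocallySurjective_of_surjective _ _ fun X => (hf X).2⟩

/-- The projection formula on sheafified presheaves. -/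
noncomputable def projShfIso :
    tensorRight ((preR U).obj Q) ⋙ extP U ⋙ (shf : PreM O ⥤ ModSite.Mod O) ≅
      extP U ⋙ tensorRight Q ⋙ shf :=
  NatIso.ofComponents
    (fun P => @asIso _ _ _ _ (shf.map (projP U Q P))
      ((isIso_shf_map_iff_isLocalIso _).2
        (isLocalIso_of_bijective _ fun X => bijective_projP U Q P X.unop)))
    (fun {P P'} a => by
      change shf.map ((extP U).map (a ▷ (preR U).obj Q)) ≫ shf.map (projP U Q P') =
        shf.map (projP U Q P) ≫ shf.map ((extP U).map a ▷ Q)
      rw [← Functor.map_comp, ← Functor.map_comp, projP_natural])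

variable (N : ModSite.Mod O)

/-- The projection formula `j_! (P ⊗ N|_U) ≅ j_! P ⊗ N`, naturally in `P`. -/
noncomputable def projIso :
    tR ((ModSite.restr O U).obj N) ⋙ ModSite.extZero O U ≅ ModSite.extZero O U ⋙ tR N :=
  (Functor.isoWhiskerLeft (fgt ⋙ tensorRight ((preR U).obj (pre N))) (extShfIso U).symm :
      tR ((ModSite.restr O U).obj N) ⋙ ModSite.extZero O U ≅
        fgt ⋙ (tensorRight ((preR U).obj (pre N)) ⋙ extP U ⋙ shf)) ≪≫
    Functor.isoWhiskerLeft fgt (projShfIso U (pre N)) ≪≫
    (Functor.isoWhiskerLeft (fgt ⋙ extP U) (tensShfLeft N) :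
      fgt ⋙ extP U ⋙ tensorRight (pre N) ⋙ shf ≅ fgt ⋙ ((extP U ⋙ shf) ⋙ tR N)) ≪≫
    Functor.isoWhiskerLeft fgt (Functor.isoWhiskerRight (extShfIso U) (tR N)) ≪≫
    (Functor.isoWhiskerRight (shfCounitIso (O := O.over U)) (ModSite.extZero O U ⋙ tR N) :
      fgt ⋙ (shf ⋙ ModSite.extZero O U) ⋙ tR N ≅ 𝟭 _ ⋙ ModSite.extZero O U ⋙ tR N) ≪≫
    (ModSite.extZero O U ⋙ tR N).leftUnitor

end Groth.Agent.SiteMod
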