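import Groth.Agent.SiteMod.FlatCritConv
import Mathlib.CategoryTheory.Sites.Over

/-!
Localisation and filtered colimits of flat modules.
-/

universe u

open CategoryTheory CategoryTheory.Limits Opposite MonoidalCategory

namespace Groth.Agent.SiteMod

open Mod48

variable {C : Type u} [SmallCategory C] {J : GrothendieckTopology C} {O : Sheaf J CommRingCat.{u}}

lemma res_restr (F : ModSite.Mod O) (V : C) {W W' : Over V} (g : W' ⟶ W)
    (s : (pre F).obj (op W.left)) :
    res (pre ((ModSite.restr O V).obj F)) g.op s = res (pre F) g.left.op s := rfl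

/-- Restrictions of flat modules are flat. -/
theorem isFlat_restr (F : ModSite.Mod O) (hF : ModSite.IsFlat F) (V : C) :
    ModSite.IsFlat ((ModSite.restr O V).obj F) := by
  refine isFlat_of_locFlat fun W n f s hrel => ?_
  obtain ⟨S, hS, hgood⟩ := locFlat_of_isFlat hF W.left n f s hrel
  refine ⟨(Sieve.overEquiv W).symm S, J.overEquiv_symm_mem_over W S hS, fun W' g hg => ?_⟩
  exact hgood g.left hg

/-- A filtered colimit of flat modules is flat. -/
theorem isFlat_of_isColimit_filtered {I : Type u} [SmallCategory I] [IsFiltered I]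
    (D : I ⥤ ModSite.Mod O) (hD : ∀ i, ModSite.IsFlat (D.obj i)) (c : Cocone D) (hc : IsColimit c) :
    ModSite.IsFlat c.pt := by
  rw [isFlat_iff_mono]
  intro A B k _
  let α : D ⋙ tL A ⟶ D ⋙ tL B :=
    { app := fun i => (tR (D.obj i)).map k
      naturality := fun i j f => (tRMap (D.map f)).naturality k |>.symm }
  have hα : Mono α := by
    have : ∀ i, Mono (α.app i) := fun i => (isFlat_iff_mono _).1 (hD i) k
    exact NatTrans.mono_of_mono_app α
  have hA := isColimitOfPreserves (tL A) hc
  have hB := isColimitOfPreserves (tL B) hc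
  exact colim.map_mono' α hA hB ((tR c.pt).map k) fun i =>
    ((tRMap (c.ι.app i)).naturality k).symm

end Groth.Agent.SiteMod
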