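import Groth.Agent.SiteMod.FinType
import Mathlib.Algebra.Category.ModuleCat.Presheaf.Colimits
import Mathlib.Algebra.Category.ModuleCat.FilteredColimits
import Mathlib.CategoryTheory.Limits.Types.Filtered

/-!
Sections of colimits of sheaves of modules, locally.
-/

universe u

open CategoryTheory CategoryTheory.Limits Opposite

namespace Groth.Agent.SiteMod

open Mod48

variable {C : Type u} [SmallCategory C] {J : GrothendieckTopology C} {O : Sheaf J CommRingCat.{u}}

lemma moduleCat_iSup_range_eq_top {R : Type u} [Ring R] {K : Type u} [Category.{u} K]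
    {D : K ⥤ ModuleCat.{u} R} {c : Cocone D} (hc : IsColimit c) :
    ⨆ k, LinearMap.range (show (D.obj k : Type u) →ₗ[R] c.pt from (c.ι.app k).hom) = ⊤ := by
  let P : Submodule R c.pt := ⨆ k, LinearMap.range (show (D.obj k : Type u) →ₗ[R] c.pt from (c.ι.app k).hom)
  have h : ModuleCat.ofHom P.mkQ = (0 : c.pt ⟶ ModuleCat.of R (c.pt ⧸ P)) :=
    hc.hom_ext fun k => by
      refine ModuleCat.hom_ext (LinearMap.ext fun x => ?_)
      exact (Submodule.Quotient.mk_eq_zero P).2 (Submodule.mem_iSup_of_mem k ⟨x, rfl⟩)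
  refine eq_top_iff.2 fun x _ => ?_
  exact (Submodule.Quotient.mk_eq_zero P).1 (congrArg (fun f => f.hom x) h)

variable {K : Type u} [Category.{u} K] {D : K ⥤ ModSite.Mod O} {c : Cocone D}

/-- The comparison with the colimit of presheaves. -/
noncomputable def colimCmp (c : Cocone D) : colimit (D ⋙ fgt) ⟶ pre c.pt :=
  colimit.desc (D ⋙ fgt) (fgt.mapCocone c)

lemma ι_colimCmp (k : K) : colimit.ι (D ⋙ fgt) k ≫ colimCmp c = fgt.map (c.ι.app k) :=
  colimit.ι_desc _ _

lemma isLocalIso_colimCmp (hc : IsColimit c) : IsLocalIso (colimCmp c) := by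
  rw [← isIso_shf_map_iff_isLocalIso]
  have : PreservesColimitsOfSize.{u, u} (shf : PreM O ⥤ ModSite.Mod O) :=
    shfAdj.leftAdjoint_preservesColimits
  let e : (D ⋙ fgt) ⋙ shf ≅ D := Functor.associator _ _ _ ≪≫ Functor.isoWhiskerLeft D shfCounitIso ≪≫ D.rightUnitor
  let h₁ := isColimitOfPreserves shf (colimit.isColimit (D ⋙ fgt))
  let h₂ := (IsColimit.precomposeHomEquiv e c).symm hc
  have : shf.map (colimCmp c) ≫ (shfCounitIso.app c.pt).hom = (h₁.coconePointUniqueUpToIso h₂).hom := by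
    refine h₁.hom_ext fun k => ?_
    rw [IsColimit.comp_coconePointUniqueUpToIso_hom]
    change shf.map (colimit.ι (D ⋙ fgt) k) ≫ shf.map (colimCmp c) ≫ (shfCounitIso.app c.pt).hom = _
    rw [← Functor.map_comp_assoc, ι_colimCmp]
    refine (shfCounitIso.hom.naturality (c.ι.app k)).trans ?_
    simp [e, shfCounitIso]
  have h3 : IsIso (shf.map (colimCmp c) ≫ (shfCounitIso.app c.pt).hom) := by
    rw [this]
    infer_instance
  exact IsIso.of_isIso_comp_right _ (shfCounitIso.app c.pt).hom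

/-- Evaluation of the presheaf colimit is a colimit of modules. -/
noncomputable def isColimitEval (D : K ⥤ ModSite.Mod O) (W : C) :
    IsColimit ((PresheafOfModules.evaluation (O.obj ⋙ forget₂ CommRingCat.{u} RingCat.{u}) (op W)).mapCocone
      (colimit.cocone (D ⋙ fgt))) :=
  isColimitOfPreserves _ (colimit.isColimit _)

/-- A section of a colimit is locally a finite sum of images. -/
theorem exists_local_sum (hc : IsColimit c) {W : C} (x : (pre c.pt).obj (op W)) :
    ∃ T ∈ J W, ∀ ⦃V : C⦄ (v : V ⟶ W), T v → ∃ (S : Finset K) (y : ∀ k, (pre (D.obj k)).obj (op V)),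
      res (pre c.pt) v.op x = ∑ k ∈ S, ap (c.ι.app k) (y k) := by
  classical
  obtain ⟨T, hT, hz⟩ := locally_preimage (isLocalIso_colimCmp hc) (op W) x
  refine ⟨T, hT, fun V v hv => ?_⟩
  obtain ⟨z, hz⟩ := hz v hv
  have htop := moduleCat_iSup_range_eq_top (isColimitEval D V)
  obtain ⟨g, hg, hsum⟩ := (Submodule.mem_iSup_iff_exists_finsupp _ z).1 (htop.ge Submodule.mem_top)
  choose y hy using hg
  refine ⟨g.support, y, ?_⟩
  rw [← hz, ← hsum, Finsupp.sum, map_sum]
  refine Finset.sum_congr rfl fun k _ => ?_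
  rw [← hy k]
  exact congrArg (fun f : pre (D.obj k) ⟶ pre c.pt => f.app (op V) (y k)) (ι_colimCmp k)

variable [IsFiltered K]

/-- A section of a filtered colimit comes locally from a stage. -/
theorem exists_local_rep (hc : IsColimit c) {W : C} (x : (pre c.pt).obj (op W)) :
    ∃ T ∈ J W, ∀ ⦃V : C⦄ (v : V ⟶ W), T v → ∃ (k : K) (y : (pre (D.obj k)).obj (op V)),
      ap (c.ι.app k) y = res (pre c.pt) v.op x := by
  obtain ⟨T, hT, hz⟩ := locally_preimage (isLocalIso_colimCmp hc) (op W) x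
  refine ⟨T, hT, fun V v hv => ?_⟩
  obtain ⟨z, hz⟩ := hz v hv
  obtain ⟨k, y, hy⟩ := Concrete.isColimit_exists_rep _ (isColimitEval D V) z
  refine ⟨k, y, ?_⟩
  rw [← hz, ← hy]
  exact (congrArg (fun f : pre (D.obj k) ⟶ pre c.pt => f.app (op V) y) (ι_colimCmp k)).symm

/-- A section of a stage vanishing in a filtered colimit vanishes locally at a later stage. -/
theorem exists_local_zero (hc : IsColimit c) {W : C} {k : K} (y : (pre (D.obj k)).obj (op W))
    (hy : ap (c.ι.app k) y = 0) :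
    ∃ T ∈ J W, ∀ ⦃V : C⦄ (v : V ⟶ W), T v →
      ∃ (l : K) (f : k ⟶ l), ap (D.map f) (res (pre (D.obj k)) v.op y) = 0 := by
  let z : (colimit (D ⋙ fgt)).obj (op W) := (colimit.ι (D ⋙ fgt) k).app (op W) y
  have hz : (colimCmp c).app (op W) z = 0 :=
    (congrArg (fun f : pre (D.obj k) ⟶ pre c.pt => f.app (op W) y) (ι_colimCmp k)).trans hy
  obtain ⟨T, hT, he⟩ := locally_eq (isLocalIso_colimCmp hc) (op W) z 0 (hz.trans (map_zero _).symm)
  refine ⟨T, hT, fun V v hv => ?_⟩
  let E := PresheafOfModules.evaluation (O.obj ⋙ forget₂ CommRingCat.{u} RingCat.{u}) (op V)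
  let y' : ((D ⋙ fgt) ⋙ E).obj k := res (pre (D.obj k)) v.op y
  have h0 : (E.mapCocone (colimit.cocone (D ⋙ fgt))).ι.app k y' =
      (E.mapCocone (colimit.cocone (D ⋙ fgt))).ι.app k 0 := by
    rw [map_zero]
    exact (app_res (colimit.ι (D ⋙ fgt) k) v.op y).trans ((he v hv).trans (res_zero _ _))
  obtain ⟨l, f, g, hfg⟩ := (Concrete.isColimit_rep_eq_iff_exists ((D ⋙ fgt) ⋙ E) (i := k) (j := k)
    (isColimitEval D V) y' 0).1 h0
  exact ⟨l, f, hfg.trans (map_zero _)⟩

end Groth.Agent.SiteMod
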