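import Groth.Agent.SiteMod.FlatCritConv
import Groth.Prelude.Def_ModSite2
import Mathlib.RingTheory.Flat.EquationalCriterion
import Mathlib.Topology.Sheaves.Points

/-!
The local criterion of flatness and flatness of stalks.
-/

universe u

open CategoryTheory CategoryTheory.Limits Opposite MonoidalCategory

namespace Groth.Agent.SiteMod

open Mod48

variable {C : Type u} [SmallCategory C] {J : GrothendieckTopology C} {O : Sheaf J CommRingCat.{u}}

lemma LocTriv.data_res {P : PreM O} {X Y Z : C} {n : ℕ} {f : Fin n → O.obj.obj (op X)}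
    {s : Fin n → P.obj (op X)} (g : Y ⟶ X) (h : Z ⟶ Y)
    (d : ∃ (m : ℕ) (a : Fin n → Fin m → O.obj.obj (op Y)) (t : Fin m → P.obj (op Y)),
      (∀ i, res P g.op (s i) = ∑ j, a i j • t j) ∧ ∀ j, ∑ i, rres g.op (f i) * a i j = 0) :
    ∃ (m : ℕ) (a : Fin n → Fin m → O.obj.obj (op Z)) (t : Fin m → P.obj (op Z)),
      (∀ i, res P (h ≫ g).op (s i) = ∑ j, a i j • t j) ∧ ∀ j, ∑ i, rres (h ≫ g).op (f i) * a i j = 0 := by
  obtain ⟨m, a, t, hs, ha⟩ := d
  refine ⟨m, fun i j => rres h.op (a i j), fun j => res P h.op (t j), fun i => ?_, fun j => ?_⟩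
  · rw [op_comp, ← res_res, hs i, res_sum]
    exact Finset.sum_congr rfl fun j _ => res_smul _ _ _ _
  · rw [op_comp]
    simp only [← rres_rres, ← map_mul, ← map_sum, ha j, map_zero]

section Point

variable (p : GrothendieckTopology.Point.{u} J) (F : ModSite.Mod O)

lemma exists_nbhd {ι : Type u} [Finite ι] (Z : ι → C) (z : ∀ i, p.fiber.obj (Z i)) :
    ∃ (Y : C) (y : p.fiber.obj Y) (π : ∀ i, Y ⟶ Z i), ∀ i, p.fiber.map (π i) y = z i := by
  classical
  have := Fintype.ofFinite ι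
  obtain ⟨S, hS⟩ := IsCofiltered.inf_objs_exists
    (Finset.univ.image fun i => Functor.elementsMk p.fiber (Z i) (z i))
  have π : ∀ i, Nonempty (S ⟶ Functor.elementsMk p.fiber (Z i) (z i)) := fun i =>
    hS (Finset.mem_image_of_mem _ (Finset.mem_univ i))
  exact ⟨S.1, S.2, fun i => (π i).some.1, fun i => (π i).some.2⟩

lemma exists_refine {Y : C} (y : p.fiber.obj Y) :
    ∀ (n : ℕ) (Z : Fin n → C) (g : ∀ i, Z i ⟶ Y) (z : ∀ i, p.fiber.obj (Z i)),
      (∀ i, p.fiber.map (g i) (z i) = y) →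
        ∃ (W : C) (h : W ⟶ Y) (w : p.fiber.obj W), p.fiber.map h w = y ∧
          ∀ i, ∃ r : W ⟶ Z i, r ≫ g i = h
  | 0, _, _, _, _ => ⟨Y, 𝟙 Y, y, ConcreteCategory.congr_hom (p.fiber.map_id Y) y, fun i => i.elim0⟩
  | n + 1, Z, g, z, hg => by
    obtain ⟨W, h, w, hw, hr⟩ := exists_refine y n (fun i => Z i.succ) (fun i => g i.succ)
      (fun i => z i.succ) (fun i => hg i.succ)
    let e₀ : Functor.elementsMk p.fiber (Z 0) (z 0) ⟶ Functor.elementsMk p.fiber Y y := ⟨g 0, hg 0⟩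
    let e₁ : Functor.elementsMk p.fiber W w ⟶ Functor.elementsMk p.fiber Y y := ⟨h, hw⟩
    obtain ⟨S, a, b, hab⟩ := IsCofiltered.cospan e₀ e₁
    have hab' : a.1 ≫ g 0 = b.1 ≫ h := congrArg (fun e => e.1) hab
    refine ⟨S.1, b.1 ≫ h, S.2, ?_, Fin.cases ⟨a.1, hab'⟩ fun i => ?_⟩
    · refine (Functor.map_comp_apply p.fiber b.1 h S.2).trans ?_
      exact (congrArg (p.fiber.map h) b.2).trans hw
    · obtain ⟨r, hr⟩ := hr i
      exact ⟨b.1 ≫ r, by rw [Category.assoc, hr]⟩

/-- The germ of a section of the underlying presheaf of modules. -/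
noncomputable def grm (X : C) (x : p.fiber.obj X) (s : (pre F).obj (op X)) : ModSite.stalkMod p F :=
  ModSite.germ p F X x s

lemma grm_smul (X : C) (x : p.fiber.obj X) (r : O.obj.obj (op X)) (s : (pre F).obj (op X)) :
    grm p F X x (r • s) = ModSite.germRing p X x r • grm p F X x s :=
  ModSite.germ_smul p F X x r s

lemma grm_zero (X : C) (x : p.fiber.obj X) : grm p F X x 0 = 0 :=
  map_zero (p.toPresheafFiber X x (ModSite.toAb F).obj).hom

lemma germ_res {X Y : C} (g : Y ⟶ X) (y : p.fiber.obj Y) (s : (pre F).obj (op X)) :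
    grm p F Y y (res (pre F) g.op s) = grm p F X (p.fiber.map g y) s :=
  ConcreteCategory.congr_hom (p.toPresheafFiber_w g y (ModSite.toAb F).obj) s

lemma germRing_res {X Y : C} (g : Y ⟶ X) (y : p.fiber.obj Y) (r : O.obj.obj (op X)) :
    ModSite.germRing (O := O) p Y y (rres g.op r) = ModSite.germRing p X (p.fiber.map g y) r :=
  ConcreteCategory.congr_hom (p.toPresheafFiber_w g y O.obj) r

lemma exists_germ (m : ModSite.stalkMod p F) :
    ∃ (X : C) (x : p.fiber.obj X) (s : (pre F).obj (op X)), grm p F X x s = m :=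
  p.toPresheafFiber_jointly_surjective (P := (ModSite.toAb F).obj) (show ModSite.stalkAb p F from m)

lemma exists_germRing (r : ModSite.stalkRing p O) :
    ∃ (X : C) (x : p.fiber.obj X) (f : O.obj.obj (op X)), ModSite.germRing p X x f = r :=
  p.toPresheafFiber_jointly_surjective (P := O.obj) r

lemma germ_sum {X : C} (x : p.fiber.obj X) {ι : Type*} (I : Finset ι) (s : ι → (pre F).obj (op X)) :
    grm p F X x (∑ i ∈ I, s i) = ∑ i ∈ I, grm p F X x (s i) :=
  map_sum (p.toPresheafFiber X x (ModSite.toAb F).obj).hom s I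

lemma exists_res_eq_of_germ_eq {X : C} (x : p.fiber.obj X) {s t : (pre F).obj (op X)}
    (h : grm p F X x s = grm p F X x t) :
    ∃ (Y : C) (g : Y ⟶ X) (y : p.fiber.obj Y), p.fiber.map g y = x ∧
      res (pre F) g.op s = res (pre F) g.op t :=
  (p.toPresheafFiber_eq_iff' (P := (ModSite.toAb F).obj) X x s t).1 h

lemma exists_rres_eq_of_germRing_eq {X : C} (x : p.fiber.obj X) {f f' : O.obj.obj (op X)}
    (h : ModSite.germRing p X x f = ModSite.germRing p X x f') :
    ∃ (Y : C) (g : Y ⟶ X) (y : p.fiber.obj Y), p.fiber.map g y = x ∧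
      rres g.op f = rres g.op f' :=
  (p.toPresheafFiber_eq_iff' X x f f').1 h

/-- The stalks of a module satisfying the local criterion are flat. -/
theorem flat_stalk_of_locFlat (hF : LocFlat (pre F)) :
    Module.Flat (ModSite.stalkRing p O) (ModSite.stalkMod p F) := by
  refine Module.Flat.of_forall_isTrivialRelation fun {l} {f} {x} hrel => ?_
  choose Xf xf f₀ hf₀ using fun i => exists_germRing (O := O) p (f i)
  choose Xs xs s₀ hs₀ using fun i => exists_germ p F (x i)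
  obtain ⟨Y₁, y₁, π₁, hπ₁⟩ := exists_nbhd p (fun i : ULift.{u} (Fin l) => Xf i.down) (fun i => xf i.down)
  obtain ⟨Y₂, y₂, π₂, hπ₂⟩ := exists_nbhd p (fun i : ULift.{u} (Fin l) => Xs i.down) (fun i => xs i.down)
  obtain ⟨Y, y, π, hπ⟩ := exists_nbhd p (fun b : ULift.{u} Bool => if b.down then Y₁ else Y₂)
    (fun b => match b with
      | ⟨true⟩ => y₁
      | ⟨false⟩ => y₂)
  let f' : Fin l → O.obj.obj (op Y) := fun i => rres (π ⟨true⟩ ≫ π₁ ⟨i⟩).op (f₀ i)
  let s' : Fin l → (pre F).obj (op Y) := fun i => res (pre F) (π ⟨false⟩ ≫ π₂ ⟨i⟩).op (s₀ i)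
  have hf' : ∀ i, ModSite.germRing p Y y (f' i) = f i := fun i => by
    refine (germRing_res p _ y (f₀ i)).trans ((congrArg (fun z => ModSite.germRing p (Xf i) z (f₀ i)) ?_).trans (hf₀ i))
    exact (Functor.map_comp_apply p.fiber _ _ _).trans
      ((congrArg (p.fiber.map (π₁ ⟨i⟩)) (hπ ⟨true⟩)).trans (hπ₁ ⟨i⟩))
  have hs' : ∀ i, grm p F Y y (s' i) = x i := fun i => by
    refine (germ_res p F _ y (s₀ i)).trans ((congrArg (fun z => grm p F (Xs i) z (s₀ i)) ?_).trans (hs₀ i))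
    exact (Functor.map_comp_apply p.fiber _ _ _).trans
      ((congrArg (p.fiber.map (π₂ ⟨i⟩)) (hπ ⟨false⟩)).trans (hπ₂ ⟨i⟩))
  have h0 : grm p F Y y (∑ i, f' i • s' i) = grm p F Y y 0 := by
    rw [germ_sum]
    refine Eq.trans ?_ (hrel.trans (grm_zero p F Y y).symm)
    refine Finset.sum_congr rfl fun i _ => ?_
    exact (grm_smul p F Y y (f' i) (s' i)).trans (congrArg₂ (· • ·) (hf' i) (hs' i))
  obtain ⟨Z, g, z, hz, hres⟩ := exists_res_eq_of_germ_eq p F y h0
  have hres' : ∑ i, rres g.op (f' i) • res (pre F) g.op (s' i) = 0 := by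
    refine Eq.trans (Finset.sum_congr rfl fun i _ => (res_smul (pre F) g.op (f' i) (s' i)).symm) ?_
    exact (res_sum (pre F) g.op Finset.univ fun i => f' i • s' i).symm.trans
      (hres.trans (res_zero (pre F) g.op))
  obtain ⟨S, hS, hgood⟩ := hF Z l (fun i => rres g.op (f' i)) (fun i => res (pre F) g.op (s' i)) hres'
  obtain ⟨W, h, hh, w, hw⟩ := p.jointly_surjective S hS z
  obtain ⟨m, a, t, hts, hta⟩ := hgood h hh
  refine ⟨m, fun i j => ModSite.germRing p W w (a i j), fun j => grm p F W w (t j),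
    fun i => ?_, fun j => ?_⟩
  · have h1 : grm p F W w (res (pre F) h.op (res (pre F) g.op (s' i))) = x i := by
      rw [germ_res, hw, germ_res, hz, hs']
    rw [← h1, hts i, germ_sum]
    exact Finset.sum_congr rfl fun j _ => grm_smul p F W w (a i j) (t j)
  · have h1 : ∀ i, ModSite.germRing p W w (rres h.op (rres g.op (f' i))) = f i := fun i => by
      rw [germRing_res, hw, germRing_res, hz, hf']
    simp only [← h1]
    exact Eq.trans (((map_sum (p.toPresheafFiber W w O.obj).hom _ _).trans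
      (Finset.sum_congr rfl fun i _ => map_mul (p.toPresheafFiber W w O.obj).hom _ _)).symm) ((congrArg (p.toPresheafFiber W w O.obj).hom (hta j)).trans
      (map_zero (p.toPresheafFiber W w O.obj).hom))

/-- Near a point with flat stalk, every relation is trivial. -/
theorem exists_data_of_flat_stalk
    (hF : Module.Flat (ModSite.stalkRing p O) (ModSite.stalkMod p F))
    {X : C} (x : p.fiber.obj X) {n : ℕ} (f : Fin n → O.obj.obj (op X)) (s : Fin n → (pre F).obj (op X))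
    (hrel : ∑ i, f i • s i = 0) :
    ∃ (Y : C) (g : Y ⟶ X) (y : p.fiber.obj Y), p.fiber.map g y = x ∧
      ∃ (m : ℕ) (a : Fin n → Fin m → O.obj.obj (op Y)) (t : Fin m → (pre F).obj (op Y)),
        (∀ i, res (pre F) g.op (s i) = ∑ j, a i j • t j) ∧ ∀ j, ∑ i, rres g.op (f i) * a i j = 0 := by
  have h0 : ∑ i, ModSite.germRing p X x (f i) • grm p F X x (s i) = 0 := by
    refine Eq.trans (Finset.sum_congr rfl fun i _ => (grm_smul p F X x (f i) (s i)).symm) ?_
    rw [← germ_sum, hrel]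
    exact grm_zero p F X x
  obtain ⟨m, a, t, hts, hta⟩ := (Module.Flat.iff_forall_isTrivialRelation.1 hF) h0
  choose Xa xa a₀ ha₀ using fun i j => exists_germRing (O := O) p (a i j)
  choose Xt xt t₀ ht₀ using fun j => exists_germ p F (t j)
  obtain ⟨Y₁, y₁, π₁, hπ₁⟩ := exists_nbhd p (fun i : ULift.{u} (Fin n × Fin m) => Xa i.down.1 i.down.2)
    (fun i => xa i.down.1 i.down.2)
  obtain ⟨Y₂, y₂, π₂, hπ₂⟩ := exists_nbhd p (fun i : ULift.{u} (Fin m) => Xt i.down) (fun i => xt i.down)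
  obtain ⟨Y, y, π, hπ⟩ := exists_nbhd p
    (fun b : ULift.{u} (Fin 3) => match b.down with | 0 => Y₁ | 1 => Y₂ | 2 => X)
    (fun b => match b with
      | ⟨0⟩ => y₁
      | ⟨1⟩ => y₂
      | ⟨2⟩ => x)
  let k : Y ⟶ X := π ⟨2⟩
  let a' : Fin n → Fin m → O.obj.obj (op Y) := fun i j => rres (π ⟨0⟩ ≫ π₁ ⟨(i, j)⟩).op (a₀ i j)
  let t' : Fin m → (pre F).obj (op Y) := fun j => res (pre F) (π ⟨1⟩ ≫ π₂ ⟨j⟩).op (t₀ j)
  have ha' : ∀ i j, ModSite.germRing p Y y (a' i j) = a i j := fun i j => by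
    refine (germRing_res p _ y _).trans ((congrArg (fun z => ModSite.germRing p (Xa i j) z (a₀ i j)) ?_).trans (ha₀ i j))
    exact (Functor.map_comp_apply p.fiber _ _ _).trans
      ((congrArg (p.fiber.map (π₁ ⟨(i, j)⟩)) (hπ ⟨0⟩)).trans (hπ₁ ⟨(i, j)⟩))
  have ht' : ∀ j, grm p F Y y (t' j) = t j := fun j => by
    refine (germ_res p F _ y _).trans ((congrArg (fun z => grm p F (Xt j) z (t₀ j)) ?_).trans (ht₀ j))
    exact (Functor.map_comp_apply p.fiber _ _ _).trans
      ((congrArg (p.fiber.map (π₂ ⟨j⟩)) (hπ ⟨1⟩)).trans (hπ₂ ⟨j⟩))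
  have hk : p.fiber.map k y = x := hπ ⟨2⟩
  have e₁ : ∀ i, ∃ (Z : C) (g : Z ⟶ Y) (z : p.fiber.obj Z), p.fiber.map g z = y ∧
      res (pre F) g.op (res (pre F) k.op (s i)) = res (pre F) g.op (∑ j, a' i j • t' j) := fun i => by
    refine exists_res_eq_of_germ_eq p F y ?_
    rw [germ_res, hk, show grm p F X x (s i) = _ from hts i, germ_sum]
    exact Finset.sum_congr rfl fun j _ =>
      ((grm_smul p F Y y (a' i j) (t' j)).trans (congrArg₂ (· • ·) (ha' i j) (ht' j))).symm
  have e₂ : ∀ j, ∃ (Z : C) (g : Z ⟶ Y) (z : p.fiber.obj Z), p.fiber.map g z = y ∧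
      rres g.op (∑ i, rres k.op (f i) * a' i j) = rres g.op 0 := fun j => by
    refine exists_rres_eq_of_germRing_eq (O := O) p y ?_
    refine Eq.trans ?_ ((hta j).trans (map_zero (p.toPresheafFiber Y y O.obj).hom).symm)
    refine (map_sum (p.toPresheafFiber Y y O.obj).hom _ _).trans (Finset.sum_congr rfl fun i _ => ?_)
    refine (map_mul (p.toPresheafFiber Y y O.obj).hom _ _).trans (congrArg₂ (· * ·) ?_ (ha' i j))
    exact (germRing_res p k y (f i)).trans (congrArg (fun z => ModSite.germRing p X z (f i)) hk)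
  choose Z₁ g₁ z₁ hg₁ he₁ using e₁
  choose Z₂ g₂ z₂ hg₂ he₂ using e₂
  obtain ⟨W₁, h₁, w₁, hw₁, hr₁⟩ := exists_refine p y n Z₁ g₁ z₁ hg₁
  obtain ⟨W₂, h₂, w₂, hw₂, hr₂⟩ := exists_refine p y m Z₂ g₂ z₂ hg₂
  obtain ⟨W, h, w, hw, hr⟩ := exists_refine p y 2 ![W₁, W₂]
    (Fin.cases h₁ (Fin.cases h₂ (fun i => i.elim0)))
    (Fin.cases w₁ (Fin.cases w₂ (fun i => i.elim0)))
    (Fin.cases hw₁ (Fin.cases hw₂ (fun i => i.elim0)))
  obtain ⟨r₁, e₁'⟩ : ∃ r : W ⟶ W₁, r ≫ h₁ = h := hr 0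
  obtain ⟨r₂, e₂'⟩ : ∃ r : W ⟶ W₂, r ≫ h₂ = h := hr 1
  refine ⟨W, h ≫ k, w, (Functor.map_comp_apply p.fiber h k w).trans ((congrArg (p.fiber.map k) hw).trans hk),
    m, fun i j => rres h.op (a' i j), fun j => res (pre F) h.op (t' j), fun i => ?_, fun j => ?_⟩
  · obtain ⟨r, hr'⟩ := hr₁ i
    have hh : h = (r₁ ≫ r) ≫ g₁ i := by rw [Category.assoc, hr', e₁']
    rw [op_comp, ← res_res, hh, op_comp, ← res_res, he₁ i, res_res, ← op_comp, res_sum]
    exact Finset.sum_congr rfl fun j _ => res_smul _ _ _ _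
  · obtain ⟨r, hr'⟩ := hr₂ j
    have hh : h = (r₂ ≫ r) ≫ g₂ j := by rw [Category.assoc, hr', e₂']
    have h0 : rres h.op (∑ i, rres k.op (f i) * a' i j) = 0 := by
      rw [hh, op_comp, ← rres_rres, he₂ j, map_zero, map_zero]
    rw [op_comp, ← h0, map_sum]
    exact Finset.sum_congr rfl fun i _ => by rw [map_mul, rres_rres]

end Point

section Space

open TopologicalSpace

variable {X : TopCat.{u}} {O : TopCat.Sheaf CommRingCat.{u} X}

/-- On a space, flat stalks give the local criterion. -/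
theorem locFlat_of_flat_stalks (F : ModSite.Mod O)
    (hF : ∀ x : X, Module.Flat (ModSite.stalkRing (Opens.pointGrothendieckTopology x) O)
      (ModSite.stalkMod (Opens.pointGrothendieckTopology x) F)) : LocFlat (pre F) := by
  intro U n f s hrel
  let S : Sieve U :=
    { arrows := fun V g => ∃ (m : ℕ) (a : Fin n → Fin m → O.obj.obj (op V)) (t : Fin m → (pre F).obj (op V)),
        (∀ i, res (pre F) g.op (s i) = ∑ j, a i j • t j) ∧ ∀ j, ∑ i, rres g.op (f i) * a i j = 0
      downward_closed := fun {V W g} hg h => LocTriv.data_res g h hg }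
  refine ⟨S, ?_, fun V g hg => hg⟩
  intro x hx
  obtain ⟨V, g, y, _, hd⟩ := exists_data_of_flat_stalk (Opens.pointGrothendieckTopology x) F (hF x)
    (X := U) ⟨⟨hx⟩⟩ f s hrel
  exact ⟨V, g, hd, y.down.down⟩

theorem isFlat_iff_flat_stalks (F : ModSite.Mod O) :
    ModSite.IsFlat F ↔ ∀ x : X, Module.Flat (ModSite.stalkRing (Opens.pointGrothendieckTopology x) O)
      (ModSite.stalkMod (Opens.pointGrothendieckTopology x) F) :=
  ⟨fun h x => flat_stalk_of_locFlat _ F (locFlat_of_isFlat h),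
    fun h => isFlat_of_locFlat (locFlat_of_flat_stalks F h)⟩

end Space

end Groth.Agent.SiteMod
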