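import Groth.Agent.SiteMod.FreeBasis
import Groth.Agent.SiteMod.Colim
import Groth.Agent.SiteMod.FlatStalk
import Mathlib.Topology.Sheaves.Points
import Mathlib.CategoryTheory.Filtered.Basic

/-!
Modules on ringed spaces: local properties.
-/

universe u

open CategoryTheory CategoryTheory.Limits Opposite TopologicalSpace

namespace Groth.Agent.SiteMod

open Mod48

section Stalk

variable {C : Type u} [SmallCategory C] {J : GrothendieckTopology C} {O : Sheaf J CommRingCat.{u}}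

lemma stalkMap_grm (p : GrothendieckTopology.Point.{u} J) {F G : ModSite.Mod O} (φ : F ⟶ G) (U : C)
    (h : p.fiber.obj U) (s : (pre F).obj (op U)) :
    (ModSite.stalkMap p φ).hom (grm p F U h s) = grm p G U h (ap φ s) :=
  ConcreteCategory.congr_hom
    (p.toPresheafFiber_naturality ((SheafOfModules.toSheaf (ModSite.ringSh O)).map φ).hom U h) s

lemma eq_zero_of_locally {F : ModSite.Mod O} {W : C} {z : (pre F).obj (op W)} {S : Sieve W}
    (hS : S ∈ J W) (h : ∀ ⦃V : C⦄ (v : V ⟶ W), S v → res (pre F) v.op z = 0) : z = 0 :=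
  ext_of_sieve (X := op W) hS fun V v hv => (h v hv).trans (res_zero _ _).symm

lemma mono_of_ap_injective {F G : ModSite.Mod O} (φ : F ⟶ G)
    (h : ∀ (W : C) (z : (pre F).obj (op W)), ap φ z = 0 → z = 0) : Mono φ := by
  refine (fgt (O := O)).mono_of_mono_map (PresheafOfModules.mono_of_injective fun W => ?_)
  exact (injective_iff_map_eq_zero _).2 fun z hz => h W.unop z hz

end Stalk

variable {X : TopCat.{u}} {O : Sheaf (Opens.grothendieckTopology X) CommRingCat.{u}}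

/-- A compact open is covered by finitely many members of a covering sieve. -/
lemma exists_finite_cover {U : Opens X} (hU : IsCompact (U : Set X)) {S : Sieve U}
    (hS : S ∈ Opens.grothendieckTopology X U) :
    ∃ (ι : Type u) (_ : Fintype ι) (V : ι → Opens X) (v : ∀ i, V i ⟶ U),
      (∀ i, S (v i)) ∧ Sieve.ofArrows V v ∈ Opens.grothendieckTopology X U := by
  classical
  choose V v hv hmem using hS
  obtain ⟨t, ht⟩ := hU.elim_finite_subcover (fun p : U => ((V p.1 p.2 : Opens X) : Set X))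
    (fun p => (V p.1 p.2).isOpen) (fun x hx => Set.mem_iUnion.2 ⟨⟨x, hx⟩, hmem x hx⟩)
  refine ⟨{p // p ∈ t}, inferInstance, fun p => V p.1.1 p.1.2, fun p => v p.1.1 p.1.2,
    fun p => hv p.1.1 p.1.2, fun x hx => ?_⟩
  obtain ⟨p, hp, hxp⟩ := Set.mem_iUnion₂.1 (ht hx)
  exact ⟨_, v p.1 p.2, Sieve.ofArrows_mk _ _ (⟨p, hp⟩ : {p // p ∈ t}), hxp⟩

theorem exists_nbhd_epi {G F : ModSite.Mod O} (φ : G ⟶ F) [F.IsFiniteType] (x : X)
    (hx : Function.Surjective (ModSite.stalkMap (Opens.pointGrothendieckTopology x) φ).hom) :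
    ∃ U : Opens X, x ∈ U ∧ Epi ((ModSite.restr O U).map φ) := by
  classical
  let p := Opens.pointGrothendieckTopology x
  obtain ⟨S, hS, hgen⟩ := exists_genAt_cover F (⊤ : Opens X)
  obtain ⟨U, f, hf, hxU⟩ := hS x trivial
  obtain ⟨ι, _, a, ha⟩ := hgen f hf
  have hlift : ∀ i, ∃ (W : Opens X) (g : W ⟶ U) (_ : p.fiber.obj W) (b : (pre G).obj (op W)),
      ap φ b = res (pre F) g.op (a i) := by
    intro i
    obtain ⟨m, hm⟩ := hx (grm p F U ⟨⟨hxU⟩⟩ (a i))
    obtain ⟨X', x', s, rfl⟩ := exists_germ p G m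
    rw [stalkMap_grm] at hm
    let W₀ := X' ⊓ U
    let l : W₀ ⟶ X' := homOfLE inf_le_left
    let r : W₀ ⟶ U := homOfLE inf_le_right
    let w : p.fiber.obj W₀ := ⟨⟨⟨x'.down.down, hxU⟩⟩⟩
    have h1 : grm p F W₀ w (res (pre F) l.op (ap φ s)) = grm p F W₀ w (res (pre F) r.op (a i)) := by
      rw [germ_res, germ_res]
      exact hm
    obtain ⟨Y, g, y, -, hy⟩ := exists_res_eq_of_germ_eq p F w h1
    refine ⟨Y, g ≫ r, y, res (pre G) (g ≫ l).op s, ?_⟩
    rw [← res_ap, op_comp, op_comp, ← res_res, ← res_res]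
    exact hy
  choose W g w b hb using hlift
  obtain ⟨Y, y, π, -⟩ := exists_nbhd p W w
  let Y' := Y ⊓ U
  let l : Y' ⟶ Y := homOfLE inf_le_left
  let k : Y' ⟶ U := homOfLE inf_le_right
  refine ⟨Y', ⟨y.down.down, hxU⟩, ?_⟩
  rw [epi_iff_locSurj, locSurj_over_iff]
  intro W' z
  obtain ⟨T, hT, hc⟩ := ha.pullback k W'.left W'.hom z
  refine ⟨T, hT, fun V v hv => ?_⟩
  obtain ⟨c, hc⟩ := hc v hv
  refine ⟨∑ i, c i • res (pre G) (v ≫ W'.hom ≫ l ≫ π i).op (b i), ?_⟩
  refine Eq.trans ?_ hc.symm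
  refine (ap_lincomb φ c _).trans (Finset.sum_congr rfl fun i _ => congrArg (c i • ·) ?_)
  rw [← res_ap, hb, res_res, res_res]
  exact congrArg (fun q => res (pre F) q (a i)) (Subsingleton.elim _ _)

theorem isIso_iff_epi_of_locallyFree {r : ℕ} {F G : ModSite.Mod O}
    (hF : ∀ x : X, ∃ U : Opens X, x ∈ U ∧
      Nonempty ((ModSite.restr O U).obj F ≅ SheafOfModules.free (ULift.{u} (Fin r))))
    (hG : ∀ x : X, ∃ U : Opens X, x ∈ U ∧
      Nonempty ((ModSite.restr O U).obj G ≅ SheafOfModules.free (ULift.{u} (Fin r))))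
    (φ : F ⟶ G) : IsIso φ ↔ Epi φ := by
  classical
  refine ⟨fun _ => inferInstance, fun hφ => ?_⟩
  have : Mono φ := by
    refine mono_of_ap_injective φ fun W z hz => ?_
    have hloc : ∀ y ∈ W, ∃ (V : Opens X) (v : V ⟶ W), y ∈ V ∧ res (pre F) v.op z = 0 := by
      intro y hy
      obtain ⟨U, hyU, ⟨e⟩⟩ := hF y
      obtain ⟨U', hyU', ⟨e'⟩⟩ := hG y
      obtain ⟨a, ha⟩ := exists_basis_of_restr_iso e
      obtain ⟨b, hb⟩ := exists_basis_of_restr_iso e'
      let W₁ := W ⊓ (U ⊓ U')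
      let kF : W₁ ⟶ U := homOfLE (inf_le_right.trans inf_le_left)
      let kG : W₁ ⟶ U' := homOfLE (inf_le_right.trans inf_le_right)
      let kW : W₁ ⟶ W := homOfLE inf_le_left
      obtain ⟨T, hT, hl⟩ := exists_lifts φ fun i => res (pre G) kG.op (b i)
      obtain ⟨V, v, hv, hyV⟩ := hT y ⟨hy, hyU, hyU'⟩
      refine ⟨V, v ≫ kW, hyV, ?_⟩
      refine exists_matrix_inverse φ ((ha.pullback kF).pullback v) ((hb.pullback kG).pullback v)
        (hl v hv) (𝟙 V) _ ?_
      rw [← res_ap, hz]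
      exact res_zero _ _
    choose V v hyV hv using hloc
    refine eq_zero_of_locally (S := Sieve.ofArrows (fun y : W => V y.1 y.2) (fun y => v y.1 y.2)) ?_ ?_
    · exact fun y hy => ⟨_, v y hy, Sieve.ofArrows_mk _ _ (⟨y, hy⟩ : W), hyV y hy⟩
    · intro Y g hg
      obtain ⟨i, q, rfl⟩ := (Sieve.mem_ofArrows_iff _ _ g).1 hg
      rw [op_comp, ← res_res, hv i.1 i.2]
      exact res_zero _ _
  exact isIso_of_mono_of_epi φ

theorem coproduct_sections {I : Type u} (F : I → ModSite.Mod O) [HasCoproduct F] (U : Opens X)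
    (hU : IsCompact (U : Set X)) :
    (∀ s : (pre (∐ F)).obj (op U), ∃ (S : Finset I) (t : ∀ i, (pre (F i)).obj (op U)),
        s = ∑ i ∈ S, ap (Sigma.ι F i) (t i)) ∧
      ∀ (S : Finset I) (t : ∀ i, (pre (F i)).obj (op U)),
        ∑ i ∈ S, ap (Sigma.ι F i) (t i) = 0 → ∀ i ∈ S, t i = 0 := by
  classical
  let π : ∀ i, (∐ F) ⟶ F i := fun i =>
    Sigma.desc fun j => if h : j = i then eqToHom (congrArg F h) else 0
  have hπ : ∀ (i j : I) (V : Opens X) (t : (pre (F j)).obj (op V)), j ≠ i →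
      ap (π i) (ap (Sigma.ι F j) t) = 0 := by
    intro i j V t h
    rw [← ap_comp, show Sigma.ι F j ≫ π i = 0 from (Sigma.ι_desc _ _).trans (dif_neg h)]
    rfl
  have hπ' : ∀ (i : I) (V : Opens X) (t : (pre (F i)).obj (op V)), ap (π i) (ap (Sigma.ι F i) t) = t := by
    intro i V t
    rw [← ap_comp, show Sigma.ι F i ≫ π i = 𝟙 _ from (Sigma.ι_desc _ _).trans (by simp)]
    rfl
  have hcomp : ∀ (V : Opens X) (S : Finset I) (t : ∀ i, (pre (F i)).obj (op V)) (i : I),
      ap (π i) (∑ j ∈ S, ap (Sigma.ι F j) (t j)) = if i ∈ S then t i else 0 := by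
    intro V S t i
    rw [ap_sum]
    by_cases hi : i ∈ S
    · rw [if_pos hi, Finset.sum_eq_single_of_mem i hi fun j _ hj => hπ i j V _ hj, hπ']
    · rw [if_neg hi]
      exact Finset.sum_eq_zero fun j hj => hπ i j V _ fun h => hi (h ▸ hj)
  refine ⟨fun s => ?_, fun S t h i hi => ?_⟩
  · obtain ⟨T, hT, hsum⟩ := exists_local_sum (coproductIsCoproduct F) s
    obtain ⟨ι, _, V, v, hvT, hcov⟩ := exists_finite_cover hU hT
    choose S y hy using fun k => hsum (v k) (hvT k)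
    let S' : Finset I := Finset.univ.biUnion fun k => (S k).image Discrete.as
    refine ⟨S', fun i => ap (π i) s, ext_of_sieve (X := op U) hcov fun Y g hg => ?_⟩
    obtain ⟨k, q, rfl⟩ := (Sieve.mem_ofArrows_iff V v g).1 hg
    rw [op_comp, ← res_res, ← res_res]
    refine congrArg (res (pre (∐ F)) q.op) ?_
    rw [res_sum]
    have hy' : res (pre (∐ F)) (v k).op s =
        ∑ i ∈ (S k).image Discrete.as, ap (Sigma.ι F i) (y k ⟨i⟩) := by
      rw [Finset.sum_image (fun a _ b _ h => Discrete.ext h)]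
      exact hy k
    have hterm : ∀ i, res (pre (∐ F)) (v k).op (ap (Sigma.ι F i) (ap (π i) s)) =
        ap (Sigma.ι F i) (if i ∈ (S k).image Discrete.as then y k ⟨i⟩ else 0) := by
      intro i
      rw [res_ap, res_ap, hy', hcomp]
    simp only [hterm]
    rw [hy']
    refine Eq.trans ?_ (Finset.sum_subset (Finset.subset_biUnion_of_mem (fun k => (S k).image Discrete.as)
      (Finset.mem_univ k)) fun i _ hi => ?_)
    · exact Finset.sum_congr rfl fun i hi => by rw [if_pos hi]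
    · rw [if_neg hi]
      exact map_zero _
  · have h1 := hcomp U S t i
    rw [h, if_pos hi] at h1
    exact h1.symm.trans (map_zero _)

theorem exists_stage_epi [CompactSpace X] {I : Type u} [Preorder I] [Nonempty I] [IsDirected I (· ≤ ·)]
    (D : I ⥤ ModSite.Mod O) (c : Cocone D) (hc : IsColimit c) [c.pt.IsFiniteType] :
    ∃ i : I, Epi (c.ι.app i) := by
  classical
  have : IsFiltered I := inferInstance
  obtain ⟨S, hS, hgen⟩ := exists_genAt_cover c.pt (⊤ : Opens X)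
  obtain ⟨ι, _, V, v, hvS, hcov⟩ := exists_finite_cover (U := (⊤ : Opens X)) isCompact_univ hS
  choose η hη a ha using fun k => hgen (v k) (hvS k)
  have hstage : ∀ k, ∀ y ∈ V k, ∃ (W : Opens X) (w : W ⟶ V k), y ∈ W ∧
      ∃ j : I, ∀ i, ∃ z : (pre (D.obj j)).obj (op W), ap (c.ι.app j) z = res (pre c.pt) w.op (a k i) := by
    intro k y hy
    choose T hT hrep using fun i => exists_local_rep hc (a k i)
    have hTi : (Finset.univ.inf T) ∈ Opens.grothendieckTopology X (V k) :=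
      Finset.inf_induction ((Opens.grothendieckTopology X).top_mem _)
        (fun _ ha _ hb => (Opens.grothendieckTopology X).intersection_covering ha hb) (fun i _ => hT i)
    obtain ⟨W, w, hw, hyW⟩ := hTi y hy
    choose j z hz using fun i => hrep i w (mem_of_mem_inf hw i)
    obtain ⟨l, hl⟩ := Finset.exists_le (Finset.univ.image j)
    refine ⟨W, w, hyW, l, fun i => ?_⟩
    let f : j i ⟶ l := homOfLE (hl _ (Finset.mem_image_of_mem j (Finset.mem_univ i)))
    exact ⟨ap (D.map f) (z i), by rw [← ap_comp, c.w]; exact hz i⟩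
  choose W w hyW j hj using hstage
  have hWcov : Sieve.ofArrows (fun p : Σ k, V k => W p.1 p.2.1 p.2.2)
      (fun p => w p.1 p.2.1 p.2.2 ≫ v p.1) ∈ Opens.grothendieckTopology X ⊤ := by
    intro y hy
    obtain ⟨Y, g, hg, hyY⟩ := hcov y hy
    obtain ⟨k, q, rfl⟩ := (Sieve.mem_ofArrows_iff V v g).1 hg
    have hyk : y ∈ V k := leOfHom q hyY
    exact ⟨_, w k y hyk ≫ v k, Sieve.ofArrows_mk _ _ (⟨k, ⟨y, hyk⟩⟩ : Σ k, V k), hyW k y hyk⟩
  obtain ⟨μ, _, V', v', hv', hcov'⟩ := exists_finite_cover (U := (⊤ : Opens X)) isCompact_univ hWcov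
  choose p q hq using fun m => (Sieve.mem_ofArrows_iff _ _ (v' m)).1 (hv' m)
  obtain ⟨l, hl⟩ := Finset.exists_le (Finset.univ.image fun m => j (p m).1 (p m).2.1 (p m).2.2)
  refine ⟨l, (epi_iff_locSurj _).2 fun A z => ?_⟩
  have hA : ∀ y ∈ A, ∃ (B : Opens X) (b : B ⟶ A), y ∈ B ∧
      ∃ t : (pre (D.obj l)).obj (op B), ap (c.ι.app l) t = res (pre c.pt) b.op z := by
    intro y hy
    obtain ⟨Y, g, hg, hyY⟩ := hcov' y trivial
    obtain ⟨m, e, rfl⟩ := (Sieve.mem_ofArrows_iff V' v' g).1 hg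
    let k := (p m).1
    let y₀ := (p m).2
    have hym : y ∈ W k y₀.1 y₀.2 := leOfHom (e ≫ q m) hyY
    let A' := A ⊓ W k y₀.1 y₀.2
    let l₁ : A' ⟶ A := homOfLE inf_le_left
    let l₂ : A' ⟶ W k y₀.1 y₀.2 := homOfLE inf_le_right
    obtain ⟨T, hT, hco⟩ := (ha k).pullback (w k y₀.1 y₀.2) A' l₂ (res (pre c.pt) l₁.op z)
    obtain ⟨B, b, hb, hyB⟩ := hT y ⟨hy, hym⟩
    obtain ⟨co, hco⟩ := hco b hb
    choose s hs using hj k y₀.1 y₀.2
    let f : j k y₀.1 y₀.2 ⟶ l := homOfLE (hl _ (Finset.mem_image_of_mem _ (Finset.mem_univ m)))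
    refine ⟨B, b ≫ l₁, hyB, ∑ i, co i • res (pre (D.obj l)) (b ≫ l₂).op (ap (D.map f) (s i)), ?_⟩
    rw [show res (pre c.pt) (b ≫ l₁).op z = res (pre c.pt) b.op (res (pre c.pt) l₁.op z) from
      (res_res _ _ _ _).symm, hco, ap_lincomb]
    refine Finset.sum_congr rfl fun i _ => congrArg (co i • ·) ?_
    rw [← res_ap, ← ap_comp, c.w, hs]
    rfl
  choose B b hyB hB using hA
  refine ⟨Sieve.ofArrows (fun y : A => B y.1 y.2) (fun y => b y.1 y.2),
    fun y hy => ⟨_, b y hy, Sieve.ofArrows_mk _ _ (⟨y, hy⟩ : A), hyB y hy⟩, fun Y g hg => ?_⟩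
  obtain ⟨i, q, rfl⟩ := (Sieve.mem_ofArrows_iff _ _ g).1 hg
  obtain ⟨t, ht⟩ := hB i.1 i.2
  exact ⟨res (pre (D.obj l)) q.op t,
    (res_ap _ _ _).symm.trans ((congrArg (res (pre c.pt) q.op) ht).trans (res_res _ _ _ _))⟩

theorem exists_stage_iso [CompactSpace X] {I : Type u} [Preorder I] [Nonempty I] [IsDirected I (· ≤ ·)]
    (D : I ⥤ ModSite.Mod O) (c : Cocone D) (hc : IsColimit c) [c.pt.IsFiniteType]
    (hmono : ∀ (i j : I) (f : i ⟶ j), Mono (D.map f)) : ∃ i : I, IsIso (c.ι.app i) := by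
  have : IsFiltered I := inferInstance
  obtain ⟨l, hl⟩ := exists_stage_epi D c hc
  have : Mono (c.ι.app l) := by
    refine mono_of_ap_injective _ fun W z hz => ?_
    obtain ⟨T, hT, hzero⟩ := exists_local_zero hc z hz
    refine eq_zero_of_locally hT fun V v hv => ?_
    obtain ⟨m, f, hf⟩ := hzero v hv
    have := hmono l m f
    apply PresheafOfModules.injective_of_mono (fgt.map (D.map f)) (op V)
    exact hf.trans (map_zero _).symm
  exact ⟨l, isIso_of_mono_of_epi _⟩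

end Groth.Agent.SiteMod
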