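import Groth.Agent.SiteMod.PullModelIso
import Groth.Agent.SiteMod.OpensMod
import Mathlib.RingTheory.Flat.EquationalCriterion
import Mathlib.RingTheory.RingHom.Flat
import Mathlib.Topology.Sheaves.Stalks
import Mathlib.Algebra.Homology.ShortComplex.ExactFunctor
import Mathlib.CategoryTheory.Abelian.Exact

/-!
The inverse image of modules along a flat morphism of ringed spaces preserves monomorphisms.

The sheafified model `pullModel` is used: a formal sum whose image in the model of `N` dies is, near a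
point, a combination of relations between sections of `N`; flatness of the stalk map turns it into a
combination of relations between sections of `M`.
-/

universe u

open CategoryTheory CategoryTheory.Limits Opposite TopologicalSpace

namespace Groth.Agent.SiteMod

open Mod48

/-- The equational criterion for a system of linear equations along a flat ring map. -/
lemma flat_system {A B : Type u} [CommRing A] [CommRing B] (α : A →+* B) (hα : α.Flat)
    {τ K : Type*} [Fintype τ] [Fintype K] (κ : τ → K → A) (c : τ → B)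
    (h : ∀ k, ∑ t, c t * α (κ t k) = 0) :
    ∃ (n : ℕ) (d : Fin n → τ → A) (e : Fin n → B),
      (∀ t, c t = ∑ l, e l * α (d l t)) ∧ ∀ l k, ∑ t, d l t * κ t k = 0 := by
  classical
  algebraize [α]
  let f : (K → A) →ₗ[A] (τ → A) := Fintype.linearCombination A fun k t => κ t k
  let x : (τ → A) →ₗ[A] B := Fintype.linearCombination A c
  have hx : x ∘ₗ f = 0 := by
    refine LinearMap.ext fun v => ?_
    simp only [LinearMap.comp_apply, f, x, Fintype.linearCombination_apply, LinearMap.zero_apply,
      Finset.sum_apply, Pi.smul_apply, smul_eq_mul, Finset.sum_smul, mul_smul]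
    rw [Finset.sum_comm]
    refine Finset.sum_eq_zero fun k _ => ?_
    rw [← Finset.smul_sum, show ∑ t, κ t k • c t = ∑ t, c t * α (κ t k) from
      Finset.sum_congr rfl fun t _ => (Algebra.smul_def _ _).trans (mul_comm _ _), h k, smul_zero]
  obtain ⟨n, a, y, hy, ha⟩ := Module.Flat.exists_factorization_of_comp_eq_zero_of_free hx
  refine ⟨n, fun l t => a (Pi.single t 1) l, fun l => y (Finsupp.single l 1), fun t => ?_, fun l k => ?_⟩
  · have h1 : x (Pi.single t 1) = c t := by simp [x]
    have h2 := LinearMap.congr_fun hy (Pi.single t 1)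
    rw [h1, LinearMap.comp_apply] at h2
    rw [h2]
    conv_lhs => rw [show a (Pi.single t 1) = ∑ l, a (Pi.single t 1) l • Finsupp.single l 1 from by simp]
    rw [map_sum]
    exact Finset.sum_congr rfl fun l _ => by
      rw [map_smul, Algebra.smul_def, mul_comm]
      rfl
  · have h3 : f (Pi.single k 1) = fun t => κ t k := by simp [f]
    have h4 := LinearMap.congr_fun ha (Pi.single k 1)
    rw [LinearMap.comp_apply, h3, LinearMap.zero_apply,
      show (fun t => κ t k) = ∑ t, κ t k • (Pi.single t (1 : A) : τ → A) from by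
        ext t; simp [Pi.single_apply], map_sum] at h4
    simp only [map_smul] at h4
    simpa [mul_comm] using congrArg (fun z : Fin n →₀ A => z l) h4

/-- A common neighbourhood. -/
lemma exists_common_nbhd {X : TopCat.{u}} {W : Opens X} {y : X} (hy : y ∈ W) {ι : Type*} [Fintype ι]
    (U : ι → Opens X) (hU : ∀ i, y ∈ U i) : ∃ W' : Opens X, y ∈ W' ∧ W' ≤ W ∧ ∀ i, W' ≤ U i := by
  classical
  refine ⟨W ⊓ Finset.univ.inf U, ⟨hy, ?_⟩, inf_le_left,
    fun i => inf_le_right.trans (Finset.inf_le (Finset.mem_univ i))⟩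
  exact Finset.inf_induction (p := fun V : Opens X => y ∈ V) trivial (fun _ ha _ hb => ⟨ha, hb⟩)
    (fun i _ => hU i)

/-- Finitely many germs come from sections over one neighbourhood. -/
lemma exists_lift_germs {X : TopCat.{u}} (F : TopCat.Presheaf CommRingCat.{u} X) {W : Opens X} {y : X}
    (hy : y ∈ W) {ι : Type*} [Fintype ι] (s : ι → F.stalk y) :
    ∃ (W' : Opens X) (_ : W' ≤ W) (hy' : y ∈ W') (r : ι → F.obj (op W')),
      ∀ i, F.germ W' y hy' (r i) = s i := by
  choose U hU r hr using fun i => TopCat.Presheaf.exists_germ_eq F (s i)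
  obtain ⟨W', hy', hle, hle'⟩ := exists_common_nbhd hy U hU
  exact ⟨W', hle, hy', fun i => F.map (homOfLE (hle' i)).op (r i), fun i =>
    (TopCat.Presheaf.germ_res_apply F _ y hy' (r i)).trans (hr i)⟩

/-- Finitely many equalities of germs hold on one neighbourhood. -/
lemma exists_res_eq_of_germs {X : TopCat.{u}} (F : TopCat.Presheaf CommRingCat.{u} X) {W : Opens X}
    {y : X} (hy : y ∈ W) {ι : Type*} [Fintype ι] (r r' : ι → F.obj (op W))
    (h : ∀ i, F.germ W y hy (r i) = F.germ W y hy (r' i)) :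
    ∃ (W' : Opens X) (le : W' ≤ W), y ∈ W' ∧
      ∀ i, F.map (homOfLE le).op (r i) = F.map (homOfLE le).op (r' i) := by
  choose U hU iU iU' he using fun i => TopCat.Presheaf.germ_eq F y hy hy (r i) (r' i) (h i)
  obtain ⟨W', hy', hle, hle'⟩ := exists_common_nbhd hy U hU
  refine ⟨W', hle, hy', fun i => ?_⟩
  rw [show (homOfLE hle).op = (iU i).op ≫ (homOfLE (hle' i)).op from Subsingleton.elim _ _,
    F.map_comp]
  conv_rhs => rw [show (iU i).op = (iU' i).op from Subsingleton.elim _ _]
  exact congrArg (F.map (homOfLE (hle' i)).op) (he i)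

section

variable {X Y : TopCat.{u}} {f : X ⟶ Y} {O_X : TopCat.Sheaf CommRingCat.{u} X}
  {O_Y : TopCat.Sheaf CommRingCat.{u} Y}
  (c : O_Y ⟶ ((Opens.map f).sheafPushforwardContinuous CommRingCat.{u}
    (Opens.grothendieckTopology Y) (Opens.grothendieckTopology X)).obj O_X)

/-- The morphism of ringed sites. -/
noncomputable abbrev ringedMap : ModSite.RMor O_X O_Y := ModSite.RMor.ofFlat (Opens.map f) c

/-- The map of stalks. -/
noncomputable abbrev stalkα (x : X) :
    ↥(TopCat.Presheaf.stalk (C := CommRingCat.{u}) O_Y.presheaf (f x)) →+* ↥(TopCat.Presheaf.stalk (C := CommRingCat.{u}) O_X.presheaf x) :=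
  ((TopCat.Presheaf.stalkFunctor CommRingCat.{u} (f x)).map
      (show O_Y.presheaf ⟶ (TopCat.Presheaf.pushforward CommRingCat.{u} f).obj O_X.presheaf from c.hom) ≫
    TopCat.Presheaf.stalkPushforward CommRingCat.{u} f O_X.presheaf x).hom

lemma germ_sig {x : X} {V : Opens X} {W : Opens Y} (g : V ⟶ (Opens.map f).obj W) (hx : x ∈ V)
    (r : O_Y.presheaf.obj (op W)) :
    O_X.presheaf.germ V x hx (sig (ringedMap c) g r) =
      stalkα c x (O_Y.presheaf.germ W (f x) (leOfHom g hx) r) := by
  change O_X.presheaf.germ V x hx (O_X.presheaf.map g.op _) = _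
  rw [TopCat.Presheaf.germ_res_apply]
  let c' : O_Y.presheaf ⟶ (TopCat.Presheaf.pushforward CommRingCat.{u} f).obj O_X.presheaf := c.hom
  refine Eq.trans ?_ (congrArg (TopCat.Presheaf.stalkPushforward CommRingCat.{u} f O_X.presheaf x).hom
    (TopCat.Presheaf.stalkFunctor_map_germ_apply W (f x) (leOfHom g hx) c' r).symm)
  exact (TopCat.Presheaf.stalkPushforward_germ_apply CommRingCat.{u} f O_X.presheaf W x
    (leOfHom g hx) (c'.app (op W) r)).symm

/-- Sections of a module. -/
noncomputable abbrev sectMap {M N : ModSite.Mod O_Y} (φ : M ⟶ N) (W : Opens Y) :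
    (pre M).obj (op W) → (pre N).obj (op W) := fun m => ap φ m

variable (hflat : ∀ x : X, (stalkα c x).Flat) {M N : ModSite.Mod O_Y} (φ : M ⟶ N) [Mono φ]

lemma sectMap_injective (W : Opens Y) : Function.Injective (sectMap φ W) :=
  fun _ _ h => PresheafOfModules.injective_of_mono (fgt.map φ) (op W) h

include hflat in
/-- Relations descend near a point. -/
lemma exists_rels_preimage {x : X} {V : Opens X} {W : Opens Y} (g : V ⟶ (Opens.map f).obj W)
    (hx : x ∈ V) (μ : Comb (O_C := O_X) (pre M) W V)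
    (hμ : Finsupp.mapDomain (sectMap φ W) μ ∈ rels (ringedMap c) (pre N) g) :
    ∃ (V' : Opens X) (v : V' ⟶ V) (W' : Opens Y) (k : W' ⟶ W) (g' : V' ⟶ (Opens.map f).obj W'),
      x ∈ V' ∧ combRes (pre M) v k μ ∈ rels (ringedMap c) (pre M) g' := by
  classical
  obtain ⟨T, c₀, hsub, hsum⟩ : ∃ (T : Finset ((pre N).obj (op W) →₀ O_Y.presheaf.obj (op W)))
      (c₀ : ((pre N).obj (op W) →₀ O_Y.presheaf.obj (op W)) → O_X.presheaf.obj (op V)),
      (∀ κ ∈ T, Finsupp.linearCombination (O_Y.presheaf.obj (op W)) id κ = (0 : (pre N).obj (op W))) ∧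
        ∑ κ ∈ T, c₀ κ • Finsupp.mapRange (sig (ringedMap c) g) (map_zero _) κ =
          Finsupp.mapDomain (sectMap φ W) μ := by
    obtain ⟨l, hl, hl'⟩ := (Finsupp.mem_span_image_iff_linearCombination _).1 hμ
    exact ⟨l.support, l, fun κ hκ => hl hκ, by rw [← hl', Finsupp.linearCombination_apply]; rfl⟩
  let ψ := sectMap φ W
  have hψ : Function.Injective ψ := sectMap_injective φ W
  let K : Finset ((pre N).obj (op W)) := (T.biUnion fun κ => κ.support).filter fun q => q ∉ Set.range ψ
  let lam : T → ((pre M).obj (op W) →₀ O_Y.presheaf.obj (op W)) :=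
    fun t => Finsupp.comapDomain ψ t.1 hψ.injOn
  have hdec : ∀ t : T, t.1 = Finsupp.mapDomain ψ (lam t) +
      ∑ q : K, Finsupp.single q.1 (t.1 q.1) := by
    intro t
    refine Finsupp.ext fun q => ?_
    rw [Finsupp.add_apply, Finsupp.finsetSum_apply]
    by_cases hq : q ∈ Set.range ψ
    · obtain ⟨m, rfl⟩ := hq
      rw [Finsupp.mapDomain_apply hψ, Finset.sum_eq_zero fun (k : K) _ =>
        Finsupp.single_eq_of_ne fun e => (Finset.mem_filter.1 k.2).2 ⟨m, e⟩, add_zero]
      simp [lam]
    · rw [Finsupp.mapDomain_notin_range _ _ hq, zero_add]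
      by_cases hs : q ∈ K
      · rw [Finset.sum_eq_single ⟨q, hs⟩ (fun k _ hk => Finsupp.single_eq_of_ne fun e => hk (Subtype.ext e.symm))
          (fun h => absurd (Finset.mem_univ _) h), Finsupp.single_eq_same]
      · have h0 : t.1 q = 0 := by
          by_contra h
          exact hs (Finset.mem_filter.2 ⟨Finset.mem_biUnion.2 ⟨t.1, t.2, Finsupp.mem_support_iff.2 h⟩, hq⟩)
        rw [h0, Finset.sum_eq_zero fun k _ => Finsupp.single_eq_of_ne fun e => hs (by rw [e]; exact k.2)]
  have hsys : ∀ q : K, ∑ t : T, c₀ t.1 * sig (ringedMap c) g (t.1 q.1) = 0 := by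
    intro q
    have h1 := congrArg (fun z : Comb (O_C := O_X) (pre N) W V => z q.1) hsum
    simp only [Finsupp.finsetSum_apply, Finsupp.smul_apply, Finsupp.mapRange_apply, smul_eq_mul] at h1
    refine Eq.trans ?_ (h1.trans (Finsupp.mapDomain_of_notMem_range _ _ (Finset.mem_filter.1 q.2).2))
    exact Finset.sum_coe_sort T fun κ => c₀ κ * sig (ringedMap c) g (κ q.1)
  obtain ⟨n, d, e, hc, hd⟩ := flat_system (stalkα c x) (hflat x)
    (fun (t : T) (q : K) => O_Y.presheaf.germ W (f x) (leOfHom g hx) (t.1 q.1))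
    (fun t : T => O_X.presheaf.germ V x hx (c₀ t.1)) fun q => by
      have h2 := congrArg (O_X.presheaf.germ V x hx) (hsys q)
      rw [map_zero, map_sum] at h2
      rw [← h2]
      exact Finset.sum_congr rfl fun t _ => by rw [map_mul, germ_sig]
  obtain ⟨W₁, hW₁, hy₁, d₁, hd₁⟩ := exists_lift_germs O_Y.presheaf (leOfHom g hx)
    (fun p : Fin n × T => d p.1 p.2)
  obtain ⟨W', hW', hy', hdeq⟩ := exists_res_eq_of_germs O_Y.presheaf hy₁
    (fun p : Fin n × K => ∑ t : T, d₁ (p.1, t) * O_Y.presheaf.map (homOfLE hW₁).op (t.1 p.2.1))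
    (fun _ => 0) fun p => by
      rw [map_sum, map_zero, ← hd p.1 p.2]
      exact Finset.sum_congr rfl fun t _ => by rw [map_mul, hd₁, TopCat.Presheaf.germ_res_apply]
  have hW : W' ≤ W := hW'.trans hW₁
  let k : W' ⟶ W := homOfLE hW
  let d' : Fin n → T → O_Y.presheaf.obj (op W') := fun l t =>
    O_Y.presheaf.map (homOfLE hW').op (d₁ (l, t))
  have hker : ∀ (l : Fin n) (q : K), ∑ t : T, d' l t * rres k.op (t.1 q.1) = 0 := by
    intro l q
    have h3 := hdeq (l, q)
    rw [map_sum, map_zero] at h3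
    rw [← h3]
    refine Finset.sum_congr rfl fun t _ => ?_
    rw [map_mul]
    refine congrArg (d' l t * ·) ?_
    change O_Y.presheaf.map k.op _ = _
    rw [show k.op = (homOfLE hW₁).op ≫ (homOfLE hW').op from Subsingleton.elim _ _, O_Y.presheaf.map_comp]
    rfl
  let V₀ : Opens X := V ⊓ (Opens.map f).obj W'
  have hx₀ : x ∈ V₀ := ⟨hx, hy'⟩
  obtain ⟨V₁, hV₁, hx₁, e₁, he₁⟩ := exists_lift_germs O_X.presheaf hx₀ e
  let g₁ : V₁ ⟶ (Opens.map f).obj W' := homOfLE (hV₁.trans inf_le_right)
  let v₁ : V₁ ⟶ V := homOfLE (hV₁.trans inf_le_left)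
  obtain ⟨V', hV', hx', hceq⟩ := exists_res_eq_of_germs O_X.presheaf hx₁
    (fun t : T => O_X.presheaf.map v₁.op (c₀ t.1))
    (fun t : T => ∑ l, e₁ l * sig (ringedMap c) g₁ (d' l t)) fun t => by
      rw [TopCat.Presheaf.germ_res_apply, hc t, map_sum]
      refine Finset.sum_congr rfl fun l _ => ?_
      rw [map_mul, he₁, germ_sig]
      refine congrArg (fun z => e l * stalkα c x z) ?_
      exact ((TopCat.Presheaf.germ_res_apply _ _ _ _ _).trans (hd₁ (l, t))).symm
  let w : V' ⟶ V₁ := homOfLE hV'
  let g' : V' ⟶ (Opens.map f).obj W' := w ≫ g₁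
  let v : V' ⟶ V := w ≫ v₁
  refine ⟨V', v, W', k, g', hx', ?_⟩
  let lam' : T → ((pre M).obj (op W') →₀ O_Y.presheaf.obj (op W')) := fun t =>
    combRes (O_C := O_Y) (pre M) (k : W' ⟶ W) k (lam t)
  have hrel : ∀ l, Finsupp.linearCombination (O_Y.presheaf.obj (op W')) id
      (∑ t, d' l t • lam' t) = (0 : (pre M).obj (op W')) := by
    intro l
    have hlc : ∀ t, Finsupp.linearCombination (O_Y.presheaf.obj (op W')) id (lam' t) =
        res (pre M) k.op (Finsupp.linearCombination (O_Y.presheaf.obj (op W)) id (lam t)) := by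
      intro t
      simp only [lam']
      generalize lam t = z
      induction z using Finsupp.induction_linear with
      | zero => simp [res_zero]
      | add a b ha hb => rw [map_add, map_add, ha, hb, map_add, res_add]
      | single q b =>
        rw [combRes_single, Finsupp.linearCombination_single, Finsupp.linearCombination_single, id, id,
          res_smul]
    have hval : ∀ t : T, ap φ (Finsupp.linearCombination (O_Y.presheaf.obj (op W)) id (lam t)) =
        - ∑ q : K, t.1 q.1 • q.1 := by
      intro t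
      have h4 := hsub t.1 t.2
      rw [hdec t, map_add, Finsupp.linearCombination_mapDomain, map_sum] at h4
      simp only [Finsupp.linearCombination_single, id] at h4
      rw [eq_neg_iff_add_eq_zero]
      refine Eq.trans (congrArg (· + _) ?_) h4
      simp only [Finsupp.linearCombination_apply, Finsupp.sum]
      exact (map_sum _ _ _).trans (Finset.sum_congr rfl fun m _ => map_smul _ _ _)
    apply sectMap_injective φ W'
    change ap φ _ = ap φ 0
    rw [map_sum]
    simp only [map_smul, hlc, ap_sum, ap_smul, ← res_ap, hval]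
    refine Eq.trans ?_ (map_zero _).symm
    have h5 : ∀ t : T, res (pre N) k.op (- ∑ q : K, t.1 q.1 • q.1) =
        - ∑ q : K, rres k.op (t.1 q.1) • res (pre N) k.op q.1 := fun t =>
      (map_neg ((pre N).map k.op).hom _).trans (congrArg Neg.neg (res_lincomb (pre N) k _ _))
    simp only [h5, smul_neg, Finset.smul_sum, smul_smul, Finset.sum_neg_distrib]
    rw [Finset.sum_comm, neg_eq_zero]
    exact Finset.sum_eq_zero fun q _ => by rw [← Finset.sum_smul, hker l q, zero_smul]
  have hμ' : μ = ∑ t : T, c₀ t.1 • Finsupp.mapRange (sig (ringedMap c) g) (map_zero _) (lam t) := by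
    refine Finsupp.ext fun m => ?_
    have h6 := congrArg (fun z : Comb (O_C := O_X) (pre N) W V => z (ψ m)) hsum
    simp only [Finsupp.finsetSum_apply, Finsupp.smul_apply, Finsupp.mapRange_apply] at h6
    refine ((h6.trans (Finsupp.mapDomain_apply hψ μ m)).symm).trans ?_
    rw [Finsupp.finsetSum_apply]
    refine ((Finset.sum_coe_sort T fun κ => c₀ κ • sig (ringedMap c) g (κ (ψ m))).symm).trans ?_
    exact Finset.sum_congr rfl fun t _ => by simp [lam]
  have hc' : ∀ t : T, rres v.op (c₀ t.1) = ∑ l, rres w.op (e₁ l) * sig (ringedMap c) g' (d' l t) := by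
    intro t
    have h7 : rres v.op (c₀ t.1) = rres w.op (∑ l, e₁ l * sig (ringedMap c) g₁ (d' l t)) :=
      (rres_rres v₁.op w.op (c₀ t.1)).symm.trans (hceq t)
    rw [h7, map_sum]
    refine Finset.sum_congr rfl fun l _ => ?_
    rw [map_mul]
    exact congrArg (rres w.op (e₁ l) * ·) (rres_rres g₁.op w.op _)
  have hcomb : ∀ t : T, combRes (pre M) v k (c₀ t.1 • Finsupp.mapRange (sig (ringedMap c) g) (map_zero _) (lam t)) =
      rres v.op (c₀ t.1) • Finsupp.mapRange (sig (ringedMap c) g') (map_zero _) (lam' t) := by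
    intro t
    simp only [lam']
    generalize lam t = z
    induction z using Finsupp.induction_linear with
    | zero => simp
    | add a b ha hb =>
      rw [Finsupp.mapRange_add (map_add _), smul_add, map_add, ha, hb, map_add,
        Finsupp.mapRange_add (map_add _), smul_add]
    | single q b =>
      rw [Finsupp.mapRange_single, Finsupp.smul_single, combRes_single, combRes_single,
        Finsupp.mapRange_single, Finsupp.smul_single, smul_eq_mul, smul_eq_mul, map_mul,
        rres_sig (ringedMap c) (g' := g') (k := k) (Subsingleton.elim _ _) b]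
  rw [hμ', map_sum]
  simp only [hcomb, hc', Finset.sum_smul]
  rw [Finset.sum_comm]
  refine Submodule.sum_mem _ fun l _ => ?_
  have h8 : ∑ t : T, (rres w.op (e₁ l) * sig (ringedMap c) g' (d' l t)) •
      Finsupp.mapRange (sig (ringedMap c) g') (map_zero _) (lam' t) =
      rres w.op (e₁ l) • Finsupp.mapRange (sig (ringedMap c) g') (map_zero _) (∑ t, d' l t • lam' t) := by
    refine Finsupp.ext fun m => ?_
    simp [Finset.mul_sum, mul_assoc]
  rw [h8]
  exact Submodule.smul_mem _ _ (mem_rels_of_relation _ _ _ _ (hrel l))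

/-- The map of formal sums. -/
noncomputable def mapTrip {V : Opens X} (t : Trip (ringedMap c) (pre M) V) : Trip (ringedMap c) (pre N) V :=
  ⟨t.X, t.g, ap φ t.m⟩

/-- Collapse to a smaller chart. -/
noncomputable def colT {V : Opens X} (P : PreM O_Y) (W : Opens Y) (t : Trip (ringedMap c) P V) :
    Comb (O_C := O_X) P W V :=
  open Classical in
  if h : W ≤ t.X then Finsupp.single (res P (homOfLE h).op t.m) 1 else 0

include hflat in
lemma vanAt_of_vanAt_map {x : X} {V : Opens X} (hx : x ∈ V) (ξ : Sums (ringedMap c) (pre M) V)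
    (h : VanAt (ringedMap c) (pre N) (Finsupp.mapDomain (mapTrip c φ) ξ)) :
    ∃ (V' : Opens X) (v : V' ⟶ V), x ∈ V' ∧ VanAt (ringedMap c) (pre M) (sumsRes _ _ v ξ) := by
  classical
  obtain ⟨W₀, g₀, m, t₀, b₀, h₀, -, hsum, hmem⟩ := h
  let e := ξ.support.equivFin.symm
  let t : Fin ξ.support.card → Trip (ringedMap c) (pre M) V := fun j => (e j).1
  obtain ⟨W, hyW, hW₀, hW⟩ := exists_common_nbhd (y := f x) (leOfHom g₀ hx) (fun j => (t j).X)
    (fun j => leOfHom (t j).g hx)
  let V₀ : Opens X := V ⊓ (Opens.map f).obj W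
  let i₀ : V₀ ⟶ V := homOfLE inf_le_left
  let g : V₀ ⟶ (Opens.map f).obj W := homOfLE inf_le_right
  have hξ : ξ = ∑ j, Finsupp.single (t j) (ξ (t j)) := by
    conv_lhs => rw [← Finsupp.sum_single ξ]
    rw [Finsupp.sum, ← Finset.sum_coe_sort]
    exact (Equiv.sum_comp e fun s => Finsupp.single s.1 (ξ s.1)).symm
  let μ : Comb (O_C := O_X) (pre M) W V₀ :=
    ∑ j, Finsupp.single (res (pre M) (homOfLE (hW j)).op (t j).m) (rres i₀.op (ξ (t j)))
  let col : Sums (ringedMap c) (pre N) V₀ →ₗ[O_X.presheaf.obj (op V₀)] Comb (O_C := O_X) (pre N) W V₀ :=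
    Finsupp.linearCombination _ (colT c (pre N) W)
  have hμ : Finsupp.mapDomain (sectMap φ W) μ ∈ rels (ringedMap c) (pre N) g := by
    have h1 : col (sumsRes _ _ i₀ (Finsupp.mapDomain (mapTrip c φ) ξ)) =
        Finsupp.mapDomain (sectMap φ W) μ := by
      rw [hξ, Finsupp.mapDomain_finsetSum, map_sum, map_sum, Finsupp.mapDomain_finsetSum]
      refine Finset.sum_congr rfl fun j _ => ?_
      rw [Finsupp.mapDomain_single, sumsRes_single, Finsupp.linearCombination_single, Finsupp.mapDomain_single]
      rw [colT, dif_pos (show W ≤ ((mapTrip c φ (t j)).res _ _ i₀).X from hW j), Finsupp.smul_single,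
        smul_eq_mul, mul_one]
      exact congrArg (fun z => Finsupp.single z (rres i₀.op (ξ (t j)))) (res_ap φ (homOfLE (hW j)) (t j).m)
    have h2 : col (sumsRes _ _ i₀ (Finsupp.mapDomain (mapTrip c φ) ξ)) =
        combRes (pre N) i₀ (homOfLE hW₀ : W ⟶ W₀)
          (∑ j, Finsupp.single (res (pre N) (h₀ j).op (t₀ j).m) (b₀ j)) := by
      rw [hsum, map_sum, map_sum, map_sum]
      refine Finset.sum_congr rfl fun j _ => ?_
      rw [sumsRes_single, Finsupp.linearCombination_single, combRes_single,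
        colT, dif_pos (show W ≤ ((t₀ j).res _ _ i₀).X from hW₀.trans (leOfHom (h₀ j))), Finsupp.smul_single,
        smul_eq_mul, mul_one, res_res]
      rfl
    rw [← h1, h2]
    exact combRes_mem _ _ (Subsingleton.elim _ _) hmem
  obtain ⟨V', v, W', k, g', hx', hmem'⟩ :=
    exists_rels_preimage c hflat φ g (⟨hx, hyW⟩ : x ∈ V₀) μ hμ
  refine ⟨V', v ≫ i₀, hx', W', g', ξ.support.card, fun j => (t j).res _ _ (v ≫ i₀),
    fun j => rres (v ≫ i₀).op (ξ (t j)), fun j => k ≫ homOfLE (hW j), fun j => Subsingleton.elim _ _, ?_, ?_⟩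
  · conv_lhs => rw [hξ]
    simp [map_sum, sumsRes_single]
  · convert hmem' using 1
    rw [map_sum]
    refine Finset.sum_congr rfl fun j _ => ?_
    rw [combRes_single, res_res, rres_rres]
    rfl

include hflat in
lemma van_of_van_map {V : Opens X} (ξ : Sums (ringedMap c) (pre M) V)
    (h : Van (ringedMap c) (pre N) (Finsupp.mapDomain (mapTrip c φ) ξ)) :
    Van (ringedMap c) (pre M) ξ := by
  classical
  obtain ⟨S, hS, hS'⟩ := h
  have hloc : ∀ x ∈ V, ∃ (V' : Opens X) (v : V' ⟶ V), x ∈ V' ∧
      VanAt (ringedMap c) (pre M) (sumsRes _ _ v ξ) := by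
    intro x hx
    obtain ⟨V₁, v₁, hv₁, hx₁⟩ := hS x hx
    have h1 : Finsupp.mapDomain (mapTrip c φ) (sumsRes (ringedMap c) (pre M) v₁ ξ) =
        sumsRes (ringedMap c) (pre N) v₁ (Finsupp.mapDomain (mapTrip c φ) ξ) := by
      clear hS'
      induction ξ using Finsupp.induction_linear with
      | zero => simp
      | add a b ha hb => simp only [map_add, Finsupp.mapDomain_add, ha, hb]
      | single t b => simp only [sumsRes_single, Finsupp.mapDomain_single]; rfl
    obtain ⟨V', v, hx', hv⟩ := vanAt_of_vanAt_map c hflat φ hx₁ _ (h1 ▸ hS' v₁ hv₁)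
    rw [sumsRes_sumsRes] at hv
    exact ⟨V', v ≫ v₁, hx', hv⟩
  choose V' v hx hv using hloc
  have hcov : Sieve.ofArrows (fun x : V => V' x.1 x.2) (fun x => v x.1 x.2) ∈
      Opens.grothendieckTopology X V :=
    fun x h => ⟨_, v x h, Sieve.ofArrows_mk _ _ (⟨x, h⟩ : V), hx x h⟩
  refine ⟨_, hcov, fun Z p hp => ?_⟩
  obtain ⟨i, q, rfl⟩ := (Sieve.mem_ofArrows_iff _ _ p).1 hp
  rw [← sumsRes_sumsRes]
  exact (hv i.1 i.2).sumsRes q

end

section Cmp

variable {C D : Type u} [SmallCategory C] [SmallCategory D] {J : GrothendieckTopology C}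
  {K : GrothendieckTopology D} {O_C : Sheaf J CommRingCat.{u}} {O_D : Sheaf K CommRingCat.{u}}
  (f : ModSite.RMor O_C O_D) (M : ModSite.Mod O_D)

/-- The comparison of the model with the inverse image. -/
noncomputable def cmpPull : pullModel f (pre M) ⟶ pre (f.pull.obj M) :=
  pushToModel f M (f.pull.obj M) (fgt.map (f.adj.unit.app M))

lemma isLocalIso_cmpPull : IsLocalIso (cmpPull f M) := by
  rw [← isIso_shf_map_iff_isLocalIso]
  have h : (shfPullModelIso f M).hom = shf.map (cmpPull f M) ≫ shfCounitIso.hom.app (f.pull.obj M) := by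
    change ((shfHomEquiv (pullModel f (pre M)) (f.pull.obj M)).symm) _ = _
    rw [shfHomEquiv, Adjunction.homEquiv_counit]
    refine congrArg (fun z => shf.map z ≫ _) (congrArg (pushToModel f M _) ?_)
    exact congrArg fgt.map (show (⟨fgt.map (f.adj.unit.app M)⟩ : M ⟶ f.push.obj (f.pull.obj M)) = f.adj.unit.app M from rfl)
  have : IsIso (shf.map (cmpPull f M) ≫ shfCounitIso.hom.app (f.pull.obj M)) := h ▸ inferInstance
  exact IsIso.of_isIso_comp_right _ (shfCounitIso.hom.app (f.pull.obj M))

lemma cmpPull_cls {V : C} (ξ : Sums f (pre M) V) :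
    (cmpPull f M).app (op V) (cls f (pre M) ξ) =
      Finsupp.linearCombination (O_C.obj.obj (op V))
        (tripVal f M (f.pull.obj M) (fgt.map (f.adj.unit.app M))) ξ := rfl

lemma cmpPull_naturality {N : ModSite.Mod O_D} (φ : M ⟶ N) {V : C} (ξ : Sums f (pre M) V) :
    ap (f.pull.map φ) ((cmpPull f M).app (op V) (cls f (pre M) ξ)) =
      (cmpPull f N).app (op V) (cls f (pre N)
        (Finsupp.mapDomain (fun t : Trip f (pre M) V => (⟨t.X, t.g, ap φ t.m⟩ : Trip f (pre N) V)) ξ)) := by
  induction ξ using Finsupp.induction_linear with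
  | zero => simp only [Finsupp.mapDomain_zero, map_zero]
  | add a b ha hb =>
    simp only [map_add, Finsupp.mapDomain_add]
    exact congrArg₂ (fun a b => a + b) ha hb
  | single t b =>
    simp only [Finsupp.mapDomain_single, cmpPull_cls, Finsupp.linearCombination_single]
    refine (ap_smul _ b _).trans (congrArg (b • ·) ?_)
    refine (res_ap (f.pull.map φ) t.g _).symm.trans (congrArg (res (pre (f.pull.obj N)) t.g.op) ?_)
    exact (congrArg (fun z : M ⟶ f.push.obj (f.pull.obj N) => ap z t.m) (f.adj.unit.naturality φ)).symm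

end Cmp

section

variable {X Y : TopCat.{u}} {f : X ⟶ Y} {O_X : TopCat.Sheaf CommRingCat.{u} X}
  {O_Y : TopCat.Sheaf CommRingCat.{u} Y}
  (c : O_Y ⟶ ((Opens.map f).sheafPushforwardContinuous CommRingCat.{u}
    (Opens.grothendieckTopology Y) (Opens.grothendieckTopology X)).obj O_X)

theorem mono_pull_map (hflat : ∀ x : X, (stalkα c x).Flat) {M N : ModSite.Mod O_Y} (φ : M ⟶ N)
    [Mono φ] : Mono ((ringedMap c).pull.map φ) := by
  refine mono_of_ap_injective _ fun V z hz => ?_
  obtain ⟨S, hS, hS'⟩ := locally_preimage (isLocalIso_cmpPull (ringedMap c) M) (op V) z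
  refine eq_zero_of_locally hS fun V' v hv => ?_
  obtain ⟨q, hq⟩ := hS' v hv
  obtain ⟨ξ, rfl⟩ := cls_surjective (ringedMap c) (pre M) q
  rw [← hq, show cls (ringedMap c) (pre M) ξ = 0 from ?_, map_zero]
  rw [cls_eq_zero]
  refine van_of_van_map c hflat φ ξ ?_
  have h0 : (cmpPull (ringedMap c) N).app (op V')
      (cls (ringedMap c) (pre N) (Finsupp.mapDomain (mapTrip c φ) ξ)) = 0 := by
    refine (cmpPull_naturality (ringedMap c) M φ ξ).symm.trans ?_
    rw [hq, ← res_ap, hz]
    exact res_zero _ _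
  obtain ⟨T, hT, he⟩ := locally_eq (isLocalIso_cmpPull (ringedMap c) N) (op V') _ 0
    (h0.trans (map_zero _).symm)
  refine van_of_local hT fun V'' w hw => ?_
  have h1 := (he w hw).trans (res_zero _ _)
  rw [res_cls, cls_eq_zero] at h1
  exact h1

theorem isFlat_ringedMap (hflat : ∀ x : X, (stalkα c x).Flat) : ModSite.RMor.IsFlat (ringedMap c) := by
  let L := (ringedMap c).pull
  have : PreservesColimitsOfSize.{0, 0} L := (ringedMap c).adj.leftAdjoint_preservesColimits
  have : L.Additive := Adjunction.left_adjoint_additive (ringedMap c).adj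
  have : L.PreservesMonomorphisms := ⟨fun φ _ => mono_pull_map c hflat φ⟩
  have := L.preservesHomology_of_preservesMonos_and_cokernels
  exact L.preservesFiniteLimits_of_preservesHomology

end

end Groth.Agent.SiteMod
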