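import Groth.Agent.SiteMod.Basics
import Mathlib.CategoryTheory.Sites.EpiMono
import Mathlib.Algebra.Homology.ShortComplex.Exact
import Mathlib.Algebra.Homology.ShortComplex.ModuleCat
import Mathlib.Algebra.Homology.ShortComplex.Abelian
import Mathlib.Algebra.Category.ModuleCat.Presheaf.Limits

/-!
Epimorphisms and exact sequences of sheaves of modules, locally on sections.
-/

universe u

open CategoryTheory CategoryTheory.Limits Opposite

namespace Groth.Agent.SiteMod

open Mod48

variable {C : Type u} [SmallCategory C] {J : GrothendieckTopology C} {O : Sheaf J CommRingCat.{u}}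

/-- The value of a map of modules on a section. -/
noncomputable abbrev ap {M N : ModSite.Mod O} (φ : M ⟶ N) {W : C} (x : (pre M).obj (op W)) :
    (pre N).obj (op W) :=
  (fgt.map φ).app (op W) x

lemma ap_comp {M N L : ModSite.Mod O} (φ : M ⟶ N) (ψ : N ⟶ L) {W : C} (x : (pre M).obj (op W)) :
    ap (φ ≫ ψ) x = ap ψ (ap φ x) := rfl

lemma res_ap {M N : ModSite.Mod O} (φ : M ⟶ N) {W W' : C} (g : W' ⟶ W) (x : (pre M).obj (op W)) :
    res (pre N) g.op (ap φ x) = ap φ (res (pre M) g.op x) := (app_res (fgt.map φ) g.op x).symm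

/-- Every section comes locally from a section. -/
def LocSurj {M N : ModSite.Mod O} (φ : M ⟶ N) : Prop :=
  ∀ (W : C) (x : (pre N).obj (op W)), ∃ S ∈ J W, ∀ ⦃V : C⦄ (v : V ⟶ W), S v →
    ∃ y : (pre M).obj (op V), ap φ y = res (pre N) v.op x

lemma toAb_isLocallySurjective_iff {M N : ModSite.Mod O} (φ : M ⟶ N) :
    Presheaf.IsLocallySurjective J ((SheafOfModules.toSheaf (ModSite.ringSh O)).map φ).hom ↔ LocSurj φ := by
  constructor
  · intro h W x
    exact ⟨_, h.imageSieve_mem (U := W) x, fun V v hv => hv⟩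
  · intro h
    refine ⟨fun {W} x => ?_⟩
    obtain ⟨S, hS, hy⟩ := h W x
    exact J.superset_covering (fun V v hv => hy v hv) hS

theorem epi_iff_locSurj {M N : ModSite.Mod O} (φ : M ⟶ N) : Epi φ ↔ LocSurj φ := by
  let T := SheafOfModules.toSheaf.{u} (ModSite.ringSh O)
  have hT := toSheaf_preservesColimits' (ModSite.ringSh O)
  rw [← toAb_isLocallySurjective_iff]
  constructor
  · intro
    exact (Sheaf.isLocallySurjective_iff_epi' AddCommGrpCat.{u} (T.map φ)).2 inferInstance
  · intro h
    have : Epi (T.map φ) := (Sheaf.isLocallySurjective_iff_epi' AddCommGrpCat.{u} (T.map φ)).1 h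
    exact T.epi_of_epi_map this

instance : PreservesLimitsOfSize.{u, u} (fgt : ModSite.Mod O ⥤ PreM O) :=
  shfAdj.rightAdjoint_preservesLimits

instance : PreservesFiniteLimits (fgt : ModSite.Mod O ⥤ PreM O) :=
  PreservesLimitsOfSize.preservesFiniteLimits.{u, u} _

/-- Sections over an object, as a functor to modules. -/
noncomputable abbrev sectF (W : C) : ModSite.Mod O ⥤ ModuleCat.{u} (O.obj.obj (op W)) :=
  fgt ⋙ PresheafOfModules.evaluation _ (op W)

lemma exists_preimage_of_ap_eq_zero {S : ShortComplex (ModSite.Mod O)} (hS : S.Exact) [Mono S.f]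
    {W : C} {x : (pre S.X₂).obj (op W)} (hx : ap S.g x = 0) : ∃ y, ap S.f y = x := by
  let F := sectF (O := O) W
  have : PreservesFiniteLimits (PresheafOfModules.evaluation
      (O.obj ⋙ forget₂ CommRingCat.{u} RingCat.{u}) (op W)) :=
    PresheafOfModules.evaluation_preservesFiniteLimits _ (op W)
  have : PreservesFiniteLimits F := comp_preservesFiniteLimits _ _
  have : F.Additive := ⟨rfl⟩
  have := ShortComplex.exact_of_f_is_kernel (S.map F) (KernelFork.mapIsLimit _ hS.fIsKernel F)
  exact (ShortComplex.moduleCat_exact_iff _).1 this x hx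

lemma exists_of_ap_kernel {M N : ModSite.Mod O} (φ : M ⟶ N) {W : C} {x : (pre M).obj (op W)}
    (hx : ap φ x = 0) : ∃ y : (pre (kernel φ)).obj (op W), ap (kernel.ι φ) y = x :=
  exists_preimage_of_ap_eq_zero (S := ShortComplex.mk (kernel.ι φ) φ (kernel.condition φ))
    (ShortComplex.exact_of_f_is_kernel _ (kernelIsKernel φ)) hx

/-- Exactness from local preimages. -/
theorem exact_of_local (S : ShortComplex (ModSite.Mod O))
    (h : ∀ (W : C) (x : (pre S.X₂).obj (op W)), ap S.g x = 0 → ∃ T ∈ J W, ∀ ⦃V : C⦄ (v : V ⟶ W), T v →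
      ∃ y : (pre S.X₁).obj (op V), ap S.f y = res (pre S.X₂) v.op x) : S.Exact := by
  rw [S.exact_iff_epi_kernel_lift]
  rw [epi_iff_locSurj]
  intro W z
  have hz : ap S.g (ap (kernel.ι S.g) z) = 0 := by
    rw [← ap_comp, kernel.condition]
    rfl
  obtain ⟨T, hT, hy⟩ := h W _ hz
  refine ⟨T, hT, fun V v hv => ?_⟩
  obtain ⟨y, hy⟩ := hy v hv
  refine ⟨y, PresheafOfModules.injective_of_mono (fgt.map (kernel.ι S.g)) (op V) ?_⟩
  change ap (kernel.ι S.g) (ap (kernel.lift S.g S.f S.zero) y) = ap (kernel.ι S.g) (res (pre _) v.op z)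
  rw [← ap_comp, kernel.lift_ι, hy, res_ap]

end Groth.Agent.SiteMod
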