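import Groth.Agent.SiteMod.LocPres

/-!
Finite type and finite presentation from sections, and their behaviour in exact sequences.
-/

universe u

open CategoryTheory CategoryTheory.Limits Opposite

namespace Groth.Agent.SiteMod

open Mod48

variable {C : Type u} [SmallCategory C] {J : GrothendieckTopology C} {O : Sheaf J CommRingCat.{u}}

lemma mem_of_mem_inf {X : C} {ι : Type*} [Fintype ι] {T : ι → Sieve X} {Y : C} {v : Y ⟶ X}
    (hv : (Finset.univ.inf T) v) (i : ι) : T i v :=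
  (Finset.inf_le (f := T) (Finset.mem_univ i)) _ hv

theorem exists_genAt_cover (F : ModSite.Mod O) [F.IsFiniteType] (X : C) :
    ∃ S ∈ J X, ∀ ⦃Y : C⦄ (g : Y ⟶ X), S g →
      ∃ (ι : Type u) (_ : Fintype ι) (a : ι → (pre F).obj (op Y)), GenAt (pre F) Y a := by
  obtain ⟨q, hq⟩ := SheafOfModules.IsFiniteType.exists_localGeneratorsData F
  refine ⟨_, q.coversTop X, fun Y g hg => ?_⟩
  obtain ⟨i, ⟨h⟩⟩ := (Sieve.mem_ofObjects_iff ..).mp hg
  have : Finite (q.generators i).I := (hq.isFiniteType i).finite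
  exact ⟨(q.generators i).I, Fintype.ofFinite _, _,
    @exists_genAt C _ J O F (q.X i) Y h (q.generators i) (Fintype.ofFinite _)⟩

lemma GenAt.epi {F : ModSite.Mod O} {Y : C} {ι : Type u} [Fintype ι] {a : ι → (pre F).obj (op Y)}
    (ha : GenAt (pre F) Y a) :
    Epi (freeTo (O := O.over Y) (topO.isTerminal Y) (G := (ModSite.restr O Y).obj F) a) := by
  classical
  rw [epi_iff_locSurj, locSurj_over_iff]
  intro W x
  obtain ⟨S, hS, hc⟩ := ha W.left W.hom x
  refine ⟨S, hS, fun V v hv => ?_⟩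
  obtain ⟨c, hc⟩ := hc v hv
  refine ⟨ofCoord fun i => toO (W := Over.mk (v ≫ W.hom)) (c i), ?_⟩
  rw [ap_freeTo_ofCoord]
  refine Eq.trans ?_ hc.symm
  exact Finset.sum_congr rfl fun i _ =>
    congrArg (fun z : (pre ((ModSite.restr O Y).obj F)).obj (op (Over.mk (v ≫ W.hom))) =>
      toO (W := Over.mk (v ≫ W.hom)) (c i) • z) (res_top F (a i) (Over.mk (v ≫ W.hom)))

/-- The generating sections given by a generating family. -/
noncomputable def GenAt.generators {F : ModSite.Mod O} {Y : C} {ι : Type u} [Fintype ι]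
    {a : ι → (pre F).obj (op Y)} (ha : GenAt (pre F) Y a) :
    ((ModSite.restr O Y).obj F).GeneratingSections where
  I := ι
  s := ((ModSite.restr O Y).obj F).freeHomEquiv
    (freeTo (O := O.over Y) (topO.isTerminal Y) (G := (ModSite.restr O Y).obj F) a)
  epi := by
    rw [Equiv.symm_apply_apply]
    exact ha.epi

theorem isFiniteType_of_genAt (F : ModSite.Mod O)
    (h : ∀ X : C, ∃ S ∈ J X, ∀ ⦃Y : C⦄ (g : Y ⟶ X), S g →
      ∃ (ι : Type u) (_ : Fintype ι) (a : ι → (pre F).obj (op Y)), GenAt (pre F) Y a) :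
    F.IsFiniteType := by
  let I : Type u := {Y : C // ∃ (ι : Type u) (_ : Fintype ι) (a : ι → (pre F).obj (op Y)), GenAt (pre F) Y a}
  have hI : ∀ i : I, ∃ σ : ((ModSite.restr O i.1).obj F).GeneratingSections, σ.IsFiniteType := by
    rintro ⟨Y, ι, hι, a, ha⟩
    exact ⟨ha.generators, ⟨inferInstanceAs (Finite ι)⟩⟩
  choose σ hσ using hI
  have hcov : J.CoversTop (fun i : I => i.1) := fun X => by
    obtain ⟨S, hS, hg⟩ := h X
    refine J.superset_covering (fun Y g hgS => ?_) hS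
    exact (Sieve.mem_ofObjects_iff ..).mpr ⟨⟨Y, hg g hgS⟩, ⟨𝟙 Y⟩⟩
  let q := SheafOfModules.LocalGeneratorsData.mk.{u, u, u, u} (M := F) I (fun i : I => i.1) hcov σ
  have hq : q.IsFiniteType := SheafOfModules.LocalGeneratorsData.IsFiniteType.mk.{u, u, u, u} (p := q) hσ
  exact SheafOfModules.IsFiniteType.mk.{u, u, u} (M := F) ⟨q, hq⟩

/-- The presentation given by finitely many sections. -/
noncomputable def LocPres.presentation {F : ModSite.Mod O} {Y : C} (d : LocPres (pre F) Y) :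
    ((ModSite.restr O Y).obj F).Presentation :=
  have := d.epi_genMap
  SheafOfModules.presentationOfIsCokernelFree d.relMap d.genMap d.relMap_genMap d.exact.gIsCokernel

lemma LocPres.isFinite_presentation {F : ModSite.Mod O} {Y : C} (d : LocPres (pre F) Y) :
    d.presentation.IsFinite :=
  ⟨⟨inferInstanceAs (Finite d.ι)⟩, ⟨inferInstanceAs (Finite d.κ)⟩⟩

theorem isFinitePresentation_of_locPres (F : ModSite.Mod O)
    (h : ∀ X : C, ∃ S ∈ J X, ∀ ⦃Y : C⦄ (g : Y ⟶ X), S g → Nonempty (LocPres (pre F) Y)) :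
    F.IsFinitePresentation := by
  let I : Type u := {Y : C // Nonempty (LocPres (pre F) Y)}
  have hcov : J.CoversTop (fun i : I => i.1) := fun X => by
    obtain ⟨S, hS, hg⟩ := h X
    refine J.superset_covering (fun Y g hgS => ?_) hS
    exact (Sieve.mem_ofObjects_iff ..).mpr ⟨⟨Y, hg g hgS⟩, ⟨𝟙 Y⟩⟩
  let p : ∀ i : I, ((ModSite.restr O i.1).obj F).Presentation := fun i => i.2.some.presentation
  let q := SheafOfModules.QuasicoherentData.mk.{u, u, u, u} (M := F) I (fun i : I => i.1) hcov p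
  have hq : q.IsFinitePresentation :=
    SheafOfModules.QuasicoherentData.IsFinitePresentation.mk.{u, u, u, u} (q := q) (fun i : I => i.2.some.isFinite_presentation)
  exact SheafOfModules.IsFinitePresentation.mk.{u, u, u} (M := F) ⟨q, hq⟩

/-! ### Exact sequences -/

lemma exists_local_preimage {S : ShortComplex (ModSite.Mod O)} (hS : S.Exact) {W : C}
    {x : (pre S.X₂).obj (op W)} (hx : ap S.g x = 0) :
    ∃ T ∈ J W, ∀ ⦃V : C⦄ (v : V ⟶ W), T v →
      ∃ y : (pre S.X₁).obj (op V), ap S.f y = res (pre S.X₂) v.op x := by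
  obtain ⟨z, hz⟩ := exists_of_ap_kernel S.g hx
  obtain ⟨T, hT, hy⟩ := (epi_iff_locSurj _).1 hS.epi_kernelLift W z
  refine ⟨T, hT, fun V v hv => ?_⟩
  obtain ⟨y, hy⟩ := hy v hv
  refine ⟨y, ?_⟩
  rw [← hz, res_ap, ← hy, ← ap_comp, kernel.lift_ι]

lemma ap_sum {M N : ModSite.Mod O} (φ : M ⟶ N) {W : C} {ι : Type*} (s : Finset ι)
    (x : ι → (pre M).obj (op W)) : ap φ (∑ i ∈ s, x i) = ∑ i ∈ s, ap φ (x i) :=
  map_sum _ _ _

lemma ap_smul {M N : ModSite.Mod O} (φ : M ⟶ N) {W : C} (r : O.obj.obj (op W))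
    (x : (pre M).obj (op W)) : ap φ (r • x) = r • ap φ x :=
  map_smul _ _ _

lemma ap_lincomb {M N : ModSite.Mod O} (φ : M ⟶ N) {W : C} {ι : Type*} [Fintype ι]
    (c : ι → O.obj.obj (op W)) (x : ι → (pre M).obj (op W)) :
    ap φ (∑ i, c i • x i) = ∑ i, c i • ap φ (x i) := by
  simp only [ap_sum, ap_smul]

lemma res_lincomb (P : PreM O) {W V : C} (v : V ⟶ W) {ι : Type*} [Fintype ι]
    (c : ι → O.obj.obj (op W)) (x : ι → P.obj (op W)) :
    res P v.op (∑ i, c i • x i) = ∑ i, rres v.op (c i) • res P v.op (x i) := by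
  simp only [res_sum, res_smul]

/-- Lifts of finitely many sections through an epimorphism, on one covering. -/
lemma exists_lifts {M N : ModSite.Mod O} (φ : M ⟶ N) [Epi φ] {W : C} {ι : Type*} [Finite ι]
    (x : ι → (pre N).obj (op W)) :
    ∃ T ∈ J W, ∀ ⦃V : C⦄ (v : V ⟶ W), T v →
      ∃ y : ι → (pre M).obj (op V), ∀ i, ap φ (y i) = res (pre N) v.op (x i) := by
  classical
  choose T hT hy using fun i => (epi_iff_locSurj φ).1 ‹_› W (x i)
  have := Fintype.ofFinite ι
  refine ⟨Finset.univ.inf T, Finset.inf_induction (J.top_mem _)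
    (fun _ ha _ hb => J.intersection_covering ha hb) (fun i _ => hT i), fun V v hv => ?_⟩
  exact ⟨fun i => (hy i v (mem_of_mem_inf hv i)).choose,
    fun i => (hy i v (mem_of_mem_inf hv i)).choose_spec⟩

theorem isFiniteType_X₂ (S : ShortComplex (ModSite.Mod O)) (hS : S.ShortExact) [S.X₁.IsFiniteType]
    [S.X₃.IsFiniteType] : S.X₂.IsFiniteType := by
  classical
  have := hS.epi_g
  refine isFiniteType_of_genAt _ fun X => ?_
  obtain ⟨S₁, hS₁, h₁⟩ := exists_genAt_cover S.X₁ X
  obtain ⟨S₃, hS₃, h₃⟩ := exists_genAt_cover S.X₃ X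
  have step : ∀ ⦃Y : C⦄ (g : Y ⟶ X), (S₁ ⊓ S₃) g → ∃ T ∈ J Y, ∀ ⦃Y' : C⦄ (k : Y' ⟶ Y), T k →
      ∃ (ι : Type u) (_ : Fintype ι) (a : ι → (pre S.X₂).obj (op Y')), GenAt (pre S.X₂) Y' a := by
    intro Y g hg
    obtain ⟨ι, _, a, ha⟩ := h₁ g hg.1
    obtain ⟨κ, _, b, hb⟩ := h₃ g hg.2
    obtain ⟨T, hT, hlift⟩ := exists_lifts S.g b
    refine ⟨T, hT, fun Y' k hk => ?_⟩
    obtain ⟨c, hc⟩ := hlift k hk
    refine ⟨ι ⊕ κ, inferInstance, Sum.elim (fun i => ap S.f (res (pre S.X₁) k.op (a i))) c, ?_⟩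
    intro W h x
    obtain ⟨U, hU, hx⟩ := hb.pullback k W h (ap S.g x)
    have hgood : ∀ ⦃V : C⦄ (v : V ⟶ W), U v → ∃ U' ∈ J V, ∀ ⦃V' : C⦄ (v' : V' ⟶ V), U' v' →
        ∃ e : ι ⊕ κ → O.obj.obj (op V'), res (pre S.X₂) (v' ≫ v).op x = ∑ i, e i •
          res (pre S.X₂) ((v' ≫ v) ≫ h).op
            (Sum.elim (fun i => ap S.f (res (pre S.X₁) k.op (a i))) c i) := by
      intro V v hv
      obtain ⟨d, hd⟩ := hx v hv
      let x' := res (pre S.X₂) v.op x - ∑ j, d j • res (pre S.X₂) (v ≫ h).op (c j)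
      have hx' : ap S.g x' = 0 := by
        rw [show ap S.g x' = ap S.g (res (pre S.X₂) v.op x) -
            ap S.g (∑ j, d j • res (pre S.X₂) (v ≫ h).op (c j)) from map_sub _ _ _,
          ← res_ap, hd, ap_lincomb, sub_eq_zero]
        exact Finset.sum_congr rfl fun j _ => congrArg (d j • ·) (by rw [← res_ap, hc j])
      obtain ⟨U', hU', hpre⟩ := exists_local_preimage hS.exact hx'
      have hgood' : ∀ ⦃V' : C⦄ (v' : V' ⟶ V), U' v' → ∃ U'' ∈ J V', ∀ ⦃V'' : C⦄ (v'' : V'' ⟶ V'), U'' v'' →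
          ∃ e : ι ⊕ κ → O.obj.obj (op V''), res (pre S.X₂) ((v'' ≫ v') ≫ v).op x = ∑ i, e i •
            res (pre S.X₂) (((v'' ≫ v') ≫ v) ≫ h).op
              (Sum.elim (fun i => ap S.f (res (pre S.X₁) k.op (a i))) c i) := by
        intro V' v' hv'
        obtain ⟨y, hy⟩ := hpre v' hv'
        obtain ⟨U'', hU'', hy'⟩ := ha.pullback k V' ((v' ≫ v) ≫ h) y
        refine ⟨U'', hU'', fun V'' v'' hv'' => ?_⟩
        obtain ⟨e, he⟩ := hy' v'' hv''
        refine ⟨Sum.elim e (fun j => rres (v'' ≫ v').op (d j)), ?_⟩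
        rw [Fintype.sum_sum_type]
        simp only [Sum.elim_inl, Sum.elim_inr]
        have h1 : res (pre S.X₂) (v'' ≫ v').op x' =
            ∑ i, e i • res (pre S.X₂) (((v'' ≫ v') ≫ v) ≫ h).op (ap S.f (res (pre S.X₁) k.op (a i))) := by
          rw [op_comp, ← res_res, ← hy, res_ap, he, ap_lincomb]
          refine Finset.sum_congr rfl fun i _ => congrArg (e i • ·) ?_
          rw [← res_ap, Category.assoc, Category.assoc, Category.assoc]
        have h2 : res (pre S.X₂) (v'' ≫ v').op x' = res (pre S.X₂) ((v'' ≫ v') ≫ v).op x -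
            ∑ j, rres (v'' ≫ v').op (d j) • res (pre S.X₂) (((v'' ≫ v') ≫ v) ≫ h).op (c j) := by
          refine (map_sub ((pre S.X₂).map (v'' ≫ v').op).hom _ _).trans ?_
          change res (pre S.X₂) (v'' ≫ v').op _ - res (pre S.X₂) (v'' ≫ v').op _ = _
          rw [res_lincomb, res_res, ← op_comp]
          simp only [res_res, ← op_comp, Category.assoc]
        rw [← h1, h2, sub_add_cancel]
      choose U'' hU'' hgood'' using hgood'
      refine ⟨Sieve.bind U'.1 fun V' v' hv' => U'' v' hv', J.bind_covering hU' fun V' v' hv' => hU'' v' hv', ?_⟩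
      rintro V'' _ ⟨V', v'', v', hv', hv'', rfl⟩
      exact hgood'' v' hv' v'' hv''
    choose U' hU' hgood' using hgood
    refine ⟨Sieve.bind U.1 fun V v hv => U' v hv, J.bind_covering hU fun V v hv => hU' v hv, ?_⟩
    rintro V' _ ⟨V, v', v, hv, hv', rfl⟩
    exact hgood' v hv v' hv'
  choose T hT hgen using step
  refine ⟨Sieve.bind (S₁ ⊓ S₃).1 fun Y g hg => T g hg,
    J.bind_covering (J.intersection_covering hS₁ hS₃) fun Y g hg => hT g hg, ?_⟩
  rintro Y' _ ⟨Y, k, g, hg, hk, rfl⟩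
  exact hgen g hg k hk

theorem isFinitePresentation_cokernel {G F : ModSite.Mod O} (φ : G ⟶ F) [G.IsFiniteType]
    [F.IsFinitePresentation] : (cokernel φ).IsFinitePresentation := by
  classical
  refine isFinitePresentation_of_locPres _ fun X => ?_
  obtain ⟨S₁, hS₁, h₁⟩ := exists_locPres_cover F X
  obtain ⟨S₂, hS₂, h₂⟩ := exists_genAt_cover G X
  have step : ∀ ⦃Y : C⦄ (g : Y ⟶ X), (S₁ ⊓ S₂) g → ∃ T ∈ J Y, ∀ ⦃Y' : C⦄ (k : Y' ⟶ Y), T k →
      Nonempty (LocPres (pre (cokernel φ)) Y') := by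
    intro Y g hg
    obtain ⟨d⟩ := h₁ g hg.1
    obtain ⟨μ, _, b, hb⟩ := h₂ g hg.2
    choose T hT hc using fun j => d.gen Y (𝟙 Y) (ap φ (b j))
    refine ⟨Finset.univ.inf T, Finset.inf_induction (J.top_mem _)
      (fun _ ha _ hb => J.intersection_covering ha hb) (fun j _ => hT j), fun Y' k hk => ?_⟩
    choose c hc using fun j => hc j k (mem_of_mem_inf hk j)
    let e := d.pullback k
    have hφ : ∀ j, ap φ (res (pre G) k.op (b j)) = ∑ i, c j i • e.a i := fun j => by
      rw [← res_ap, hc j]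
      exact Finset.sum_congr rfl fun i _ => congrArg (c j i • ·) (by rw [Category.comp_id]; rfl)
    let π := cokernel.π φ
    refine ⟨{
      ι := e.ι
      κ := e.κ ⊕ μ
      a := fun i => ap π (e.a i)
      r := Sum.elim e.r c
      rel := ?_
      gen := ?_
      kerr := ?_ }⟩
    · rintro (t | j)
      · exact (ap_lincomb π _ _).symm.trans ((congrArg (ap π) (e.rel t)).trans (map_zero _))
      · refine (ap_lincomb π _ _).symm.trans ?_
        exact ((congrArg (ap π) (hφ j)).symm.trans ((ap_comp φ π _).symm.trans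
          (congrArg (fun z => ap z (res (pre G) k.op (b j))) (cokernel.condition φ))))
    · intro W h x
      obtain ⟨U, hU, hy⟩ := (epi_iff_locSurj π).1 inferInstance W x
      have hgood : ∀ ⦃V : C⦄ (v : V ⟶ W), U v → ∃ U' ∈ J V, ∀ ⦃V' : C⦄ (v' : V' ⟶ V), U' v' →
          ∃ q : e.ι → O.obj.obj (op V'), res (pre (cokernel φ)) (v' ≫ v).op x =
            ∑ i, q i • res (pre (cokernel φ)) ((v' ≫ v) ≫ h).op (ap π (e.a i)) := by
        intro V v hv
        obtain ⟨y, hy⟩ := hy v hv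
        obtain ⟨U', hU', hq⟩ := e.gen V (v ≫ h) y
        refine ⟨U', hU', fun V' v' hv' => ?_⟩
        obtain ⟨q, hq⟩ := hq v' hv'
        refine ⟨q, ?_⟩
        rw [op_comp, ← res_res, ← hy, res_ap, hq, ap_lincomb]
        refine Finset.sum_congr rfl fun i _ => congrArg (q i • ·) ?_
        rw [res_ap, Category.assoc]
      choose U' hU' hgood' using hgood
      refine ⟨Sieve.bind U.1 fun V v hv => U' v hv, J.bind_covering hU fun V v hv => hU' v hv, ?_⟩
      rintro V' _ ⟨V, v', v, hv, hv', rfl⟩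
      exact hgood' v hv v' hv'
    · intro W h q hq
      let y := ∑ i, q i • res (pre F) h.op (e.a i)
      have hy : ap π y = 0 := by
        refine (ap_lincomb π _ _).trans (Eq.trans ?_ hq)
        exact Finset.sum_congr rfl fun i _ => congrArg (q i • ·) (res_ap π h (e.a i)).symm
      obtain ⟨U, hU, hz⟩ := exists_local_preimage
        (S := ShortComplex.mk φ π (cokernel.condition φ))
        (ShortComplex.exact_of_g_is_cokernel _ (cokernelIsCokernel φ)) hy
      have hgood : ∀ ⦃V : C⦄ (v : V ⟶ W), U v → ∃ U' ∈ J V, ∀ ⦃V' : C⦄ (v' : V' ⟶ V), U' v' →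
          ∃ U'' ∈ J V', ∀ ⦃V'' : C⦄ (v'' : V'' ⟶ V'), U'' v'' →
            ∃ p : e.κ ⊕ μ → O.obj.obj (op V''), ∀ i, rres ((v'' ≫ v') ≫ v).op (q i) =
              ∑ t, p t * rres (((v'' ≫ v') ≫ v) ≫ h).op (Sum.elim e.r c t i) := by
        intro V v hv
        obtain ⟨z, hz⟩ := hz v hv
        obtain ⟨U', hU', hco⟩ := (hb.pullback k) V (v ≫ h) z
        refine ⟨U', hU', fun V' v' hv' => ?_⟩
        obtain ⟨s, hs⟩ := hco v' hv'
        let u' : e.ι → O.obj.obj (op V') := fun i =>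
          rres (v' ≫ v).op (q i) - ∑ j, s j * rres ((v' ≫ v) ≫ h).op (c j i)
        have hu : ∑ i, u' i • res (pre F) ((v' ≫ v) ≫ h).op (e.a i) = 0 := by
          have h1 : res (pre F) (v' ≫ v).op y =
              ∑ i, rres (v' ≫ v).op (q i) • res (pre F) ((v' ≫ v) ≫ h).op (e.a i) := by
            rw [res_lincomb]
            simp only [res_res, ← op_comp]
          have h2 : res (pre F) (v' ≫ v).op y =
              ∑ j, s j • res (pre F) ((v' ≫ v) ≫ h).op (∑ i, c j i • e.a i) := by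
            rw [op_comp, ← res_res, ← hz, res_ap, hs, ap_lincomb]
            refine Finset.sum_congr rfl fun j _ => congrArg (s j • ·) ?_
            rw [← res_ap, hφ, Category.assoc]
          simp only [u', sub_smul, Finset.sum_sub_distrib]
          rw [← h1, h2, sub_eq_zero]
          simp only [res_lincomb, Finset.smul_sum, smul_smul, Finset.sum_smul]
          exact Finset.sum_comm
        obtain ⟨U'', hU'', hd⟩ := e.kerr V' ((v' ≫ v) ≫ h) u' hu
        refine ⟨U'', hU'', fun V'' v'' hv'' => ?_⟩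
        obtain ⟨p, hp⟩ := hd v'' hv''
        refine ⟨Sum.elim p fun j => rres v''.op (s j), fun i => ?_⟩
        rw [Fintype.sum_sum_type]
        simp only [Sum.elim_inl, Sum.elim_inr]
        have h3 := hp i
        simp only [u', map_sub, map_sum, map_mul, rres_rres, ← op_comp, Category.assoc] at h3 ⊢
        rw [← h3, sub_add_cancel]
      choose U' hU' hgood' using hgood
      choose U'' hU'' hgood'' using hgood'
      refine ⟨Sieve.bind U.1 fun V v hv => Sieve.bind (U' v hv).1 fun V' v' hv' => U'' v hv v' hv',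
        J.bind_covering hU fun V v hv => J.bind_covering (hU' v hv) fun V' v' hv' => hU'' v hv v' hv', ?_⟩
      rintro V'' _ ⟨V, _, v, hv, ⟨V', v'', v', hv', hv'', rfl⟩, rfl⟩
      exact hgood'' v hv v' hv' v'' hv''
  choose T hT hgen using step
  refine ⟨Sieve.bind (S₁ ⊓ S₂).1 fun Y g hg => T g hg,
    J.bind_covering (J.intersection_covering hS₁ hS₂) fun Y g hg => hT g hg, ?_⟩
  rintro Y' _ ⟨Y, k, g, hg, hk, rfl⟩
  exact hgen g hg k hk

theorem isFiniteType_kernel {G F : ModSite.Mod O} (θ : G ⟶ F) [Epi θ] [G.IsFiniteType]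
    [F.IsFinitePresentation] : (kernel θ).IsFiniteType := by
  classical
  refine isFiniteType_of_genAt _ fun X => ?_
  obtain ⟨S₁, hS₁, h₁⟩ := exists_locPres_cover F X
  obtain ⟨S₂, hS₂, h₂⟩ := exists_genAt_cover G X
  have step : ∀ ⦃Y : C⦄ (g : Y ⟶ X), (S₁ ⊓ S₂) g → ∃ T ∈ J Y, ∀ ⦃Y' : C⦄ (k : Y' ⟶ Y), T k →
      ∃ (ι : Type u) (_ : Fintype ι) (a : ι → (pre (kernel θ)).obj (op Y')), GenAt (pre (kernel θ)) Y' a := by
    intro Y g hg
    obtain ⟨d⟩ := h₁ g hg.1
    obtain ⟨μ, _, b, hb⟩ := h₂ g hg.2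
    obtain ⟨T₀, hT₀, hlift⟩ := exists_lifts θ d.a
    choose T hT hc using fun j => d.gen Y (𝟙 Y) (ap θ (b j))
    refine ⟨T₀ ⊓ Finset.univ.inf T, J.intersection_covering hT₀ (Finset.inf_induction (J.top_mem _)
      (fun _ ha _ hb => J.intersection_covering ha hb) (fun j _ => hT j)), fun Y' k hk => ?_⟩
    obtain ⟨w, hw⟩ := hlift k hk.1
    choose c hc using fun j => hc j k (mem_of_mem_inf hk.2 j)
    let e := d.pullback k
    have hθ : ∀ j, ap θ (res (pre G) k.op (b j)) = ∑ i, c j i • e.a i := fun j => by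
      rw [← res_ap, hc j]
      exact Finset.sum_congr rfl fun i _ => congrArg (c j i • ·) (by rw [Category.comp_id]; rfl)
    let v₀ : e.κ ⊕ μ → (pre G).obj (op Y') :=
      Sum.elim (fun t => ∑ i, e.r t i • w i) (fun j => res (pre G) k.op (b j) - ∑ i, c j i • w i)
    have hv₀ : ∀ s, ap θ (v₀ s) = 0 := by
      rintro (t | j)
      · refine (ap_lincomb θ _ _).trans (Eq.trans ?_ (e.rel t))
        exact Finset.sum_congr rfl fun i _ => congrArg (e.r t i • ·) (hw i)
      · refine (map_sub _ _ _).trans ?_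
        rw [sub_eq_zero]
        refine (hθ j).trans (Eq.trans ?_ (ap_lincomb θ _ _).symm)
        exact Finset.sum_congr rfl fun i _ => congrArg (c j i • ·) (hw i).symm
    choose a ha using fun s => exists_of_ap_kernel θ (hv₀ s)
    refine ⟨e.κ ⊕ μ, inferInstance, a, fun W h x => ?_⟩
    obtain ⟨U, hU, hco⟩ := hb.pullback k W h (ap (kernel.ι θ) x)
    have hgood : ∀ ⦃V : C⦄ (v : V ⟶ W), U v → ∃ U' ∈ J V, ∀ ⦃V' : C⦄ (v' : V' ⟶ V), U' v' →
        ∃ p : e.κ ⊕ μ → O.obj.obj (op V'), res (pre (kernel θ)) (v' ≫ v).op x =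
          ∑ s, p s • res (pre (kernel θ)) ((v' ≫ v) ≫ h).op (a s) := by
      intro V v hv
      obtain ⟨s, hs⟩ := hco v hv
      let u' : e.ι → O.obj.obj (op V) := fun i => ∑ j, s j * rres (v ≫ h).op (c j i)
      have hu : ∑ i, u' i • res (pre F) (v ≫ h).op (e.a i) = 0 := by
        have h1 : ap θ (res (pre G) v.op (ap (kernel.ι θ) x)) = 0 := by
          rw [← res_ap, ← ap_comp, kernel.condition]
          exact res_zero _ _
        rw [← h1, hs, ap_lincomb]
        simp only [u', Finset.sum_smul, mul_smul]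
        rw [Finset.sum_comm]
        refine Finset.sum_congr rfl fun j _ => ?_
        rw [← Finset.smul_sum]
        refine congrArg (s j • ·) ?_
        rw [← res_ap, hθ, res_lincomb]
        rfl
      obtain ⟨U', hU', hd⟩ := e.kerr V (v ≫ h) u' hu
      refine ⟨U', hU', fun V' v' hv' => ?_⟩
      obtain ⟨p, hp⟩ := hd v' hv'
      refine ⟨Sum.elim p fun j => rres v'.op (s j),
        PresheafOfModules.injective_of_mono (fgt.map (kernel.ι θ)) (op V') ?_⟩
      change ap (kernel.ι θ) _ = ap (kernel.ι θ) _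
      rw [ap_lincomb, ← res_ap]
      simp only [← res_ap, ha, Fintype.sum_sum_type, Sum.elim_inl, Sum.elim_inr, v₀]
      rw [op_comp, ← res_res, hs, res_lincomb]
      simp only [res_res, ← op_comp, Category.assoc]
      have h2 : ∀ j : μ, res (pre G) (v' ≫ v ≫ h).op (res (pre G) k.op (b j) - ∑ i, c j i • w i) =
          res (pre G) (v' ≫ v ≫ h).op (res (pre G) k.op (b j)) -
            ∑ i, rres (v' ≫ v ≫ h).op (c j i) • res (pre G) (v' ≫ v ≫ h).op (w i) := fun j => by
        refine (map_sub ((pre G).map (v' ≫ v ≫ h).op).hom _ _).trans ?_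
        exact congrArg (res (pre G) (v' ≫ v ≫ h).op (res (pre G) k.op (b j)) - ·)
          (res_lincomb (pre G) (v' ≫ v ≫ h) (c j) w)
      simp only [h2, smul_sub, Finset.sum_sub_distrib, Finset.smul_sum, smul_smul, res_lincomb]
      rw [Finset.sum_comm (s := (Finset.univ : Finset e.κ)),
        Finset.sum_comm (s := (Finset.univ : Finset μ))]
      simp only [← Finset.sum_smul]
      have h3 : ∀ i, ∑ t, p t * rres (v' ≫ v ≫ h).op (e.r t i) =
          ∑ j, rres v'.op (s j) * rres (v' ≫ v ≫ h).op (c j i) := fun i => by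
        rw [← hp i]
        simp only [u', map_sum, map_mul, rres_rres, ← op_comp, Category.assoc]
      simp only [h3, res_res, ← op_comp, Category.assoc]
      exact (add_sub_cancel _ _).symm
    choose U' hU' hgood' using hgood
    refine ⟨Sieve.bind U.1 fun V v hv => U' v hv, J.bind_covering hU fun V v hv => hU' v hv, ?_⟩
    rintro V' _ ⟨V, v', v, hv, hv', rfl⟩
    exact hgood' v hv v' hv'
  choose T hT hgen using step
  refine ⟨Sieve.bind (S₁ ⊓ S₂).1 fun Y g hg => T g hg,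
    J.bind_covering (J.intersection_covering hS₁ hS₂) fun Y g hg => hT g hg, ?_⟩
  rintro Y' _ ⟨Y, k, g, hg, hk, rfl⟩
  exact hgen g hg k hk

end Groth.Agent.SiteMod
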