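import Groth.Agent.Mod48.Flat
import Mathlib.LinearAlgebra.TensorProduct.Finiteness
import Mathlib.LinearAlgebra.TensorProduct.RightExactness
import Mathlib.LinearAlgebra.Finsupp.LinearCombination
import Mathlib.CategoryTheory.Sites.LocallyBijective
import Mathlib.CategoryTheory.Sites.EpiMono

/-!
The local equational criterion of flatness for modules on a ringed site.
-/

universe u

open CategoryTheory CategoryTheory.Limits Opposite MonoidalCategory
open scoped TensorProduct

namespace Groth.Agent.SiteMod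

open Mod48

variable {C : Type u} [SmallCategory C] {J : GrothendieckTopology C} {O : Sheaf J CommRingCat.{u}}

/-- Restriction of functions. -/
noncomputable abbrev rres {X Y : Cᵒᵖ} (g : X ⟶ Y) : O.obj.obj X →+* O.obj.obj Y := (O.obj.map g).hom

lemma rres_rres {X Y Z : Cᵒᵖ} (g : X ⟶ Y) (k : Y ⟶ Z) (r : O.obj.obj X) :
    rres k (rres g r) = rres (g ≫ k) r :=
  (congr($(O.obj.map_comp g k).hom r)).symm

lemma res_sum (M : PreM O) {X Y : Cᵒᵖ} (g : X ⟶ Y) {ι : Type*} (s : Finset ι) (m : ι → M.obj X) :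
    res M g (∑ i ∈ s, m i) = ∑ i ∈ s, res M g (m i) :=
  map_sum (M.map g).hom m s

lemma res_zero (M : PreM O) {X Y : Cᵒᵖ} (g : X ⟶ Y) : res M g 0 = 0 := map_zero (M.map g).hom

/-- The relation `∑ f i • s i = 0` is locally a consequence of relations among functions. -/
def LocTriv (P : PreM O) {X : C} {n : ℕ} (f : Fin n → O.obj.obj (op X)) (s : Fin n → P.obj (op X)) :
    Prop :=
  ∃ S ∈ J X, ∀ ⦃Y : C⦄ (g : Y ⟶ X), S g →
    ∃ (m : ℕ) (a : Fin n → Fin m → O.obj.obj (op Y)) (t : Fin m → P.obj (op Y)),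
      (∀ i, res P g.op (s i) = ∑ j, a i j • t j) ∧ ∀ j, ∑ i, rres g.op (f i) * a i j = 0

/-- The local equational criterion of flatness. -/
def LocFlat (P : PreM O) : Prop :=
  ∀ (X : C) (n : ℕ) (f : Fin n → O.obj.obj (op X)) (s : Fin n → P.obj (op X)),
    ∑ i, f i • s i = 0 → LocTriv P f s

/-! ### Killing finitely many relations -/

lemma kill {P : PreM O} (hP : LocFlat P) {X : C} (Q : Finset (P.obj (op X))) :
    ∀ L : List (P.obj (op X) → O.obj.obj (op X)), (∀ κ ∈ L, ∑ q ∈ Q, κ q • q = 0) →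
      ∃ S ∈ J X, ∀ ⦃Y : C⦄ (g : Y ⟶ X), S g →
        ∃ (m : ℕ) (A : P.obj (op X) → Fin m → O.obj.obj (op Y)) (t : Fin m → P.obj (op Y)),
          (∀ q ∈ Q, res P g.op q = ∑ l, A q l • t l) ∧
            ∀ κ ∈ L, ∀ l, ∑ q ∈ Q, rres g.op (κ q) * A q l = 0 := by
  intro L
  induction L with
  | nil =>
    intro _
    refine ⟨⊤, J.top_mem X, fun Y g _ => ?_⟩
    classical
    let e := Q.equivFin
    refine ⟨Q.card, fun q l => if (e.symm l).val = q then 1 else 0,
      fun l => res P g.op (e.symm l).val, fun q hq => ?_, fun κ hκ => absurd hκ (List.not_mem_nil)⟩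
    rw [Finset.sum_eq_single (e ⟨q, hq⟩)]
    · simp
    · intro l _ hl
      dsimp only
      rw [if_neg, zero_smul]
      intro h
      exact hl (e.symm.injective (Subtype.ext (h.trans (by simp))))
    · intro h
      exact absurd (Finset.mem_univ _) h
  | cons κ₀ L ih =>
    intro hL
    obtain ⟨S, hS, hgood⟩ := ih fun κ hκ => hL κ (List.mem_cons_of_mem _ hκ)
    choose m A t hA hκ using hgood
    have hrel : ∀ ⦃Y : C⦄ (g : Y ⟶ X) (hg : S g),
        ∑ l, (∑ q ∈ Q, rres g.op (κ₀ q) * A g hg q l) • t g hg l = 0 := by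
      intro Y g hg
      simp only [Finset.sum_smul, mul_smul]
      rw [Finset.sum_comm]
      refine Eq.trans (Finset.sum_congr rfl fun q hq => ?_)
        ((res_sum P g.op Q _).symm.trans ((congrArg (res P g.op) (hL κ₀ (List.mem_cons_self ..))).trans
          (res_zero P g.op)))
      rw [← Finset.smul_sum, ← hA g hg q hq, res_smul]
    choose S' hS' hgood' using fun (Y : C) (g : Y ⟶ X) (hg : S g) => hP Y _ _ _ (hrel g hg)
    refine ⟨Sieve.bind S.1 fun Y g hg => S' Y g hg,
      J.bind_covering hS fun Y g hg => hS' Y g hg, ?_⟩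
    rintro Z _ ⟨Y, h, g, hg, hh, rfl⟩
    obtain ⟨m', a, t', ht', ha⟩ := hgood' Y g hg h hh
    have key (κ : P.obj (op X) → O.obj.obj (op X)) (j : Fin m') :
        ∑ q ∈ Q, rres (h ≫ g).op (κ q) * (∑ l, rres h.op (A g hg q l) * a l j) =
          ∑ l, rres h.op (∑ q ∈ Q, rres g.op (κ q) * A g hg q l) * a l j := by
      simp only [map_sum, map_mul, rres_rres, ← op_comp, Finset.mul_sum, Finset.sum_mul]
      rw [Finset.sum_comm]
      exact Finset.sum_congr rfl fun l _ => Finset.sum_congr rfl fun q _ => (mul_assoc _ _ _).symm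
    refine ⟨m', fun q j => ∑ l, rres h.op (A g hg q l) * a l j, t', fun q hq => ?_, ?_⟩
    · rw [op_comp, ← res_res, hA g hg q hq, res_sum]
      simp only [res_smul, ht', Finset.smul_sum, Finset.sum_smul, mul_smul]
      exact Finset.sum_comm
    · intro κ hκmem j
      rw [key]
      rcases List.mem_cons.1 hκmem with rfl | hmem
      · exact ha j
      · simp [hκ g hg κ hmem]

/-! ### The criterion gives flatness -/

/-- A vanishing sum of tensors comes from finitely many relations in the right factor. -/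
lemma exists_relations {R : Type u} [CommRing R] {B P : Type u} [AddCommGroup B] [Module R B]
    [AddCommGroup P] [Module R P] {ι : Type u} (I : Finset ι) (b : ι → B) (p : ι → P)
    (h : ∑ i ∈ I, b i ⊗ₜ[R] p i = 0) :
    ∃ T : Finset (B × (P →₀ R)), (∀ t ∈ T, Finsupp.linearCombination R id t.2 = 0) ∧
      ∑ i ∈ I, b i ⊗ₜ[R] Finsupp.single (p i) (1 : R) = ∑ t ∈ T, t.1 ⊗ₜ[R] t.2 := by
  classical
  let π : (P →₀ R) →ₗ[R] P := Finsupp.linearCombination R id
  have hπ : Function.Surjective π := fun q => ⟨Finsupp.single q 1, by simp [π]⟩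
  have hex := @lTensor_exact R ↥(LinearMap.ker π) (P →₀ R) P _ _ _ _ _ _ _ (LinearMap.ker π).subtype π
    B _ _ π.exact_subtype_ker_map hπ
  obtain ⟨z, hz⟩ := (hex (∑ i ∈ I, b i ⊗ₜ[R] Finsupp.single (p i) (1 : R))).1 (by simpa [π] using h)
  obtain ⟨T, rfl⟩ := TensorProduct.exists_finset z
  refine ⟨T.image fun t => (t.1, t.2.val), ?_, ?_⟩
  · intro t ht
    obtain ⟨t', _, rfl⟩ := Finset.mem_image.1 ht
    exact t'.2.property
  · rw [Finset.sum_image (fun x _ y _ h => by
      obtain ⟨x1, x2⟩ := x; obtain ⟨y1, y2⟩ := y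
      simp only [Prod.mk.injEq] at h
      exact Prod.ext h.1 (Subtype.ext h.2)), ← hz, map_sum]
    rfl

lemma locally_zero_of_locFlat {P : PreM O} (hP : LocFlat P) {M N : PreM O} (k : M ⟶ N)
    (hk : ∀ (X : Cᵒᵖ), Function.Injective (k.app X)) {X : C} (x : (M ⊗ P).obj (op X))
    (hx : (k ▷ P).app (op X) x = 0) :
    ∃ S ∈ J X, ∀ ⦃Y : C⦄ (g : Y ⟶ X), S g → res (M ⊗ P) g.op x = 0 := by
  classical
  obtain ⟨I, rfl⟩ : ∃ I : Finset (M.obj (op X) × P.obj (op X)), x = ∑ i ∈ I, tp i.1 i.2 :=
    TensorProduct.exists_finset (R := O.obj.obj (op X)) (M := M.obj (op X)) (N := P.obj (op X)) x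
  rw [map_sum] at hx
  obtain ⟨T, hT, hTsum⟩ := exists_relations (R := O.obj.obj (op X)) I
    (fun i => k.app (op X) i.1) (fun i => i.2) hx
  let Q : Finset (P.obj (op X)) := I.image Prod.snd ∪ T.biUnion fun t => t.2.support
  obtain ⟨S, hS, hgood⟩ := kill hP Q (T.toList.map fun t => fun q => t.2 q) (by
    intro κ hκ
    obtain ⟨t, ht, rfl⟩ := List.mem_map.1 hκ
    have h0 := hT t (Finset.mem_toList.1 ht)
    rw [Finsupp.linearCombination_apply, Finsupp.sum_of_support_subset _ (s := Q) ?_ _
      (fun q _ => zero_smul _ q)] at h0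
    · exact h0
    · exact fun q hq => Finset.mem_union_right _
        (Finset.mem_biUnion.2 ⟨t, Finset.mem_toList.1 ht, hq⟩))
  refine ⟨S, hS, fun Y g hg => ?_⟩
  obtain ⟨m, A, t, hA, hκ⟩ := hgood g hg
  have hzero (l : Fin m) : ∑ i ∈ I, A i.2 l • res M g.op i.1 = 0 := by
    apply hk (op Y)
    rw [map_sum, map_zero]
    let Φ : N.obj (op X) ⊗[O.obj.obj (op X)] (P.obj (op X) →₀ O.obj.obj (op X)) →+ N.obj (op Y) :=
      TensorProduct.liftAddHom
        (AddMonoidHom.mk' (fun b => AddMonoidHom.mk'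
            (fun κ : P.obj (op X) →₀ O.obj.obj (op X) =>
              (∑ q ∈ Q, rres g.op (κ q) * A q l : O.obj.obj (op Y)) • (res N g.op b : N.obj (op Y)))
            (fun κ κ' => by simp [map_add, add_mul, Finset.sum_add_distrib, add_smul]))
          (fun b b' => by
            ext κ
            simp [res_add, smul_add]))
        (fun r b κ => by
          change (∑ q ∈ Q, rres g.op (κ q) * A q l : O.obj.obj (op Y)) • res N g.op (r • b) =
            (∑ q ∈ Q, rres g.op ((r • κ) q) * A q l : O.obj.obj (op Y)) • res N g.op b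
          rw [res_smul, smul_smul]
          congr 1
          simp only [Finsupp.smul_apply, smul_eq_mul, map_mul, Finset.sum_mul]
          exact Finset.sum_congr rfl fun q _ => by ring)
    have h1 : Φ (∑ i ∈ I, k.app (op X) i.1 ⊗ₜ Finsupp.single i.2 1) =
        ∑ i ∈ I, A i.2 l • res N g.op (k.app (op X) i.1) := by
      simp only [map_sum]
      refine Finset.sum_congr rfl fun i hi => ?_
      change (∑ q ∈ Q, rres g.op (Finsupp.single i.2 1 q) * A q l : O.obj.obj (op Y)) •
        res N g.op (k.app (op X) i.1) = _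
      rw [Finset.sum_eq_single i.2]
      · simp
      · intro q _ hq
        simp [Finsupp.single_eq_of_ne hq]
      · intro h
        exact absurd (Finset.mem_union_left _ (Finset.mem_image_of_mem _ hi)) h
    have h2 : Φ (∑ i ∈ I, k.app (op X) i.1 ⊗ₜ Finsupp.single i.2 1) = 0 := by
      rw [hTsum]
      simp only [map_sum]
      refine Finset.sum_eq_zero fun t ht => ?_
      change (∑ q ∈ Q, rres g.op (t.2 q) * A q l : O.obj.obj (op Y)) • res N g.op t.1 = 0
      rw [hκ _ (List.mem_map.2 ⟨t, Finset.mem_toList.2 ht, rfl⟩) l, zero_smul]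
    refine Eq.trans (Finset.sum_congr rfl fun i _ => ?_) (h1.symm.trans h2)
    rw [map_smul, app_res]
  rw [res_sum]
  have hexp : ∀ i ∈ I, res (M ⊗ P) g.op (tp i.1 i.2) =
      ∑ l, tp (A i.2 l • res M g.op i.1) (t l) := fun i hi => by
    change tp (res M g.op i.1) (res P g.op i.2) = _
    rw [hA i.2 (Finset.mem_union_left _ (Finset.mem_image_of_mem _ hi))]
    refine Eq.trans (TensorProduct.tmul_sum _ _ _) (Finset.sum_congr rfl fun l _ => ?_)
    exact (tp_smul_right _ _ _).trans (tp_smul_left _ _ _).symm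
  rw [Finset.sum_congr rfl hexp, Finset.sum_comm]
  refine Finset.sum_eq_zero fun l _ => ?_
  refine Eq.trans ?_ (TensorProduct.zero_tmul _ (t l))
  rw [← hzero l]
  exact (TensorProduct.sum_tmul _ _ _).symm

lemma isLocallyInjective_whiskerRight {P : PreM O} (hP : LocFlat P) {M N : PreM O} (k : M ⟶ N)
    (hk : ∀ (X : Cᵒᵖ), Function.Injective (k.app X)) :
    Presheaf.IsLocallyInjective J ((PresheafOfModules.toPresheaf _).map (k ▷ P)) := by
  refine ⟨fun {X} x y h => ?_⟩
  obtain ⟨S, hS, hg⟩ := locally_zero_of_locFlat hP k hk (X := X.unop)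
    ((show (M ⊗ P).obj X from x) - (show (M ⊗ P).obj X from y)) (by
      rw [map_sub]
      exact sub_eq_zero.2 h)
  refine J.superset_covering (fun Y g hgS => ?_) hS
  have := hg g hgS
  exact sub_eq_zero.1 ((map_sub ((M ⊗ P).map g.op).hom _ _).symm.trans this)

lemma mono_shf_map_of_isLocallyInjective {P Q : PreM O} (f : P ⟶ Q)
    [Presheaf.IsLocallyInjective J ((PresheafOfModules.toPresheaf _).map f)] : Mono (shf.map f) := by
  apply (SheafOfModules.toSheaf (ModSite.ringSh O)).mono_of_mono_map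
  have : Sheaf.IsLocallyInjective ((presheafToSheaf J AddCommGrpCat.{u}).map
      ((PresheafOfModules.toPresheaf _).map f)) :=
    (Presheaf.isLocallyInjective_presheafToSheaf_map_iff _ _).2 inferInstance
  have := Sheaf.mono_of_isLocallyInjective ((presheafToSheaf J AddCommGrpCat.{u}).map
      ((PresheafOfModules.toPresheaf _).map f))
  exact ((MorphismProperty.monomorphisms _).arrow_mk_iso_iff
    (((Functor.mapArrowFunctor _ _).mapIso
      (PresheafOfModules.sheafificationCompToSheaf (𝟙 (ModSite.ringSh O).obj))).app (Arrow.mk f))).2 this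

/-- The local criterion implies flatness of the associated sheaf. -/
theorem isFlat_shf_of_locFlat {P : PreM O} (hP : LocFlat P) : ModSite.IsFlat (shf.obj P) := by
  rw [isFlat_iff_mono]
  intro A B k _
  have := isLocallyInjective_whiskerRight hP (fgt.map k)
    (fun X => PresheafOfModules.injective_of_mono (fgt.map k) X)
  have := mono_shf_map_of_isLocallyInjective (fgt.map k ▷ P)
  have : Mono ((fgt ⋙ tensorRight P ⋙ shf).map k) :=
    inferInstanceAs (Mono (shf.map (fgt.map k ▷ P)))
  rw [← NatIso.naturality_1 (tRShfIso P) k]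
  infer_instance

lemma isFlat_of_locFlat {F : ModSite.Mod O} (hF : LocFlat (pre F)) : ModSite.IsFlat F :=
  isFlat_of_iso (shfCounitIso.app F) (isFlat_shf_of_locFlat hF)

end Groth.Agent.SiteMod
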