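import Groth.Agent.SiteMod.GenTensor

/-!
The comparison morphisms between tensor products and direct and inverse images of modules.
-/

universe u

open CategoryTheory CategoryTheory.Limits Opposite MonoidalCategory

namespace Groth.Agent.SiteMod

open Mod48

variable {C D : Type u} [SmallCategory C] [SmallCategory D] {J : GrothendieckTopology C}
  {K : GrothendieckTopology D} {O_C : Sheaf J CommRingCat.{u}} {O_D : Sheaf K CommRingCat.{u}}
  (f : ModSite.RMor O_C O_D)

/-- A section of `A` over `fn W` as a section of the direct image. -/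
abbrev toPush (A : ModSite.Mod O_C) {W : D} (a : (pre A).obj (op (f.fn.obj W))) :
    (pre (f.push.obj A)).obj (op W) := a

/-- A section of the direct image as a section over `fn W`. -/
abbrev ofPush (A : ModSite.Mod O_C) {W : D} (a : (pre (f.push.obj A)).obj (op W)) :
    (pre A).obj (op (f.fn.obj W)) := a

/-- The structure map on sections over `W`. -/
abbrev shp (W : D) (r : O_D.obj.obj (op W)) : O_C.obj.obj (op (f.fn.obj W)) :=
  (f.sharp.hom.app (op W)).hom r

lemma ofPush_smul (A : ModSite.Mod O_C) {W : D} (r : O_D.obj.obj (op W))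
    (a : (pre (f.push.obj A)).obj (op W)) :
    ofPush f A (r • a) = shp f W r • ofPush f A a := rfl

lemma res_ofPush (A : ModSite.Mod O_C) {W W' : D} (g : W' ⟶ W) (a : (pre (f.push.obj A)).obj (op W)) :
    ofPush f A (res (pre (f.push.obj A)) g.op a) = res (pre A) (f.fn.map g).op (ofPush f A a) := rfl

/-- The lax monoidal structure of the direct image, on presheaves. -/
noncomputable def pushTens (A B : ModSite.Mod O_C) :
    pre (f.push.obj A) ⊗ pre (f.push.obj B) ⟶ pre (f.push.obj (tens A B)) where
  app W := ModuleCat.MonoidalCategory.tensorLift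
    (fun a b => toPush f (tens A B) (W := W.unop)
      ((shfU (pre A ⊗ pre B)).app (op (f.fn.obj W.unop)) (tp (ofPush f A a) (ofPush f B b))))
    (fun a₁ a₂ b => (congrArg ((shfU (pre A ⊗ pre B)).app (op (f.fn.obj W.unop)))
        (tp_add_left (ofPush f A a₁) (ofPush f A a₂) (ofPush f B b))).trans (map_add _ _ _))
    (fun r a b => (congrArg ((shfU (pre A ⊗ pre B)).app (op (f.fn.obj W.unop)))
        (tp_smul_left (shp f W.unop r) (ofPush f A a) (ofPush f B b))).trans (map_smul _ _ _))
    (fun a b₁ b₂ => (congrArg ((shfU (pre A ⊗ pre B)).app (op (f.fn.obj W.unop)))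
        (tp_add_right (ofPush f A a) (ofPush f B b₁) (ofPush f B b₂))).trans (map_add _ _ _))
    (fun r a b => (congrArg ((shfU (pre A ⊗ pre B)).app (op (f.fn.obj W.unop)))
        (tp_smul_right (shp f W.unop r) (ofPush f A a) (ofPush f B b))).trans (map_smul _ _ _))
  naturality {W W'} g := by
    refine ModuleCat.MonoidalCategory.tensor_ext fun a b => ?_
    exact app_res (shfU (pre A ⊗ pre B)) (f.fn.map g.unop).op (tp (ofPush f A a) (ofPush f B b))

lemma pushTens_tp (A B : ModSite.Mod O_C) {W : D} (a : (pre (f.push.obj A)).obj (op W))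
    (b : (pre (f.push.obj B)).obj (op W)) :
    (pushTens f A B).app (op W) (tp a b) =
      toPush f (tens A B) ((shfU (pre A ⊗ pre B)).app (op (f.fn.obj W)) (tp (ofPush f A a) (ofPush f B b))) :=
  rfl

/-- The comparison morphism `f^*(M ⊗ N) ⟶ f^* M ⊗ f^* N`. -/
noncomputable def pullTensHom (M N : ModSite.Mod O_D) :
    f.pull.obj (tens M N) ⟶ tens (f.pull.obj M) (f.pull.obj N) :=
  (f.adj.homEquiv _ _).symm
    ((shfHomEquiv _ _).symm
      ((fgt.map (f.adj.unit.app M) ⊗ₘ fgt.map (f.adj.unit.app N)) ≫
        pushTens f (f.pull.obj M) (f.pull.obj N)))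

/-- The adjoint of a map out of `f^* M ⊗ f^* N` after the comparison, on pure tensors. -/
lemma pullTensHom_comp_tp (M N : ModSite.Mod O_D) {G : ModSite.Mod O_C}
    (φ : tens (f.pull.obj M) (f.pull.obj N) ⟶ G) {W : D} (a : (pre M).obj (op W)) (b : (pre N).obj (op W)) :
    ofPush f G ((shfHomEquiv _ (f.push.obj G) (f.adj.homEquiv _ G (pullTensHom f M N ≫ φ))).app (op W) (tp a b)) =
      (shfHomEquiv _ G φ).app (op (f.fn.obj W))
        (tp (ofPush f (f.pull.obj M) ((fgt.map (f.adj.unit.app M)).app (op W) a))
          (ofPush f (f.pull.obj N) ((fgt.map (f.adj.unit.app N)).app (op W) b))) := by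
  rw [pullTensHom, Adjunction.homEquiv_naturality_right, Equiv.apply_symm_apply,
    Adjunction.homEquiv_naturality_right, Equiv.apply_symm_apply, Adjunction.homEquiv_unit]
  rfl

end Groth.Agent.SiteMod
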