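import Groth.Agent.SiteMod.HomEval
import Groth.Agent.SiteMod.FlatCritConv

/-!
The canonical map `Hom(F, G) ⊗ H ⟶ Hom(F, G ⊗ H)` for `F` of finite presentation and `H` flat.
-/

universe u

open CategoryTheory CategoryTheory.Limits Opposite MonoidalCategory
open scoped TensorProduct

namespace Groth.Agent.SiteMod

open Mod48

variable {C : Type u} [SmallCategory C] {J : GrothendieckTopology C} {O : Sheaf J CommRingCat.{u}}

lemma exists_covering_forall {ι : Type*} [Finite ι] {X : C} (S : ι → Sieve X) (hS : ∀ i, S i ∈ J X) :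
    ∃ T ∈ J X, ∀ i, T ≤ S i := by
  classical
  have := Fintype.ofFinite ι
  suffices ∀ I : Finset ι, ∃ T ∈ J X, ∀ i ∈ I, T ≤ S i by
    obtain ⟨T, hT, h⟩ := this Finset.univ
    exact ⟨T, hT, fun i => h i (Finset.mem_univ i)⟩
  intro I
  induction I using Finset.induction with
  | empty => exact ⟨⊤, J.top_mem X, fun i hi => absurd hi (Finset.notMem_empty i)⟩
  | insert a I _ ih =>
    obtain ⟨T, hT, h⟩ := ih
    refine ⟨T ⊓ S a, J.intersection_covering hT (hS a), fun i hi => ?_⟩
    rcases Finset.mem_insert.1 hi with rfl | hi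
    · exact inf_le_right
    · exact inf_le_left.trans (h i hi)

/-- Finitely many vanishing sums of tensors with common right factors vanish through one matrix. -/
lemma exists_kill_tensor {P : PreM O} (hP : LocFlat P) (G : PreM O) {W : C} {ι K : Type u} [Fintype ι]
    [Fintype K] (v : ι → K → G.obj (op W)) (h : K → P.obj (op W))
    (hv : ∀ i, ∑ k, tp (v i k) (h k) = 0) :
    ∃ S ∈ J W, ∀ ⦃V : C⦄ (g : V ⟶ W), S g →
      ∃ (m : ℕ) (A : K → Fin m → O.obj.obj (op V)) (t : Fin m → P.obj (op V)),
        (∀ k, res P g.op (h k) = ∑ l, A k l • t l) ∧ ∀ i l, ∑ k, A k l • res G g.op (v i k) = 0 := by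
  classical
  choose T hT hTsum using fun i => exists_relations (R := O.obj.obj (op W)) Finset.univ (v i) h (hv i)
  let Q : Finset (P.obj (op W)) :=
    Finset.univ.image h ∪ Finset.univ.biUnion fun i => (T i).biUnion fun t => t.2.support
  obtain ⟨S, hS, hgood⟩ := kill hP Q
    (Finset.univ.toList.flatMap fun i => (T i).toList.map fun t => fun q => t.2 q) (by
      intro κ hκ
      obtain ⟨i, _, hκ⟩ := List.mem_flatMap.1 hκ
      obtain ⟨t, ht, rfl⟩ := List.mem_map.1 hκ
      have h0 := hT i t (Finset.mem_toList.1 ht)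
      rw [Finsupp.linearCombination_apply, Finsupp.sum_of_support_subset _ (s := Q) ?_ _
        (fun q _ => zero_smul _ q)] at h0
      · exact h0
      · exact fun q hq => Finset.mem_union_right _ (Finset.mem_biUnion.2
          ⟨i, Finset.mem_univ i, Finset.mem_biUnion.2 ⟨t, Finset.mem_toList.1 ht, hq⟩⟩))
  refine ⟨S, hS, fun V g hg => ?_⟩
  obtain ⟨m, A, t, hA, hκ⟩ := hgood g hg
  refine ⟨m, fun k => A (h k), t,
    fun k => hA _ (Finset.mem_union_left _ (Finset.mem_image_of_mem h (Finset.mem_univ k))),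
    fun i l => ?_⟩
  let Φ : G.obj (op W) ⊗[O.obj.obj (op W)] (P.obj (op W) →₀ O.obj.obj (op W)) →+ G.obj (op V) :=
    TensorProduct.liftAddHom
      (AddMonoidHom.mk' (fun b => AddMonoidHom.mk'
          (fun κ : P.obj (op W) →₀ O.obj.obj (op W) =>
            (∑ q ∈ Q, rres g.op (κ q) * A q l : O.obj.obj (op V)) • (res G g.op b : G.obj (op V)))
          (fun κ κ' => by simp [map_add, add_mul, Finset.sum_add_distrib, add_smul]))
        (fun b b' => by
          ext κ
          simp [res_add, smul_add]))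
      (fun r b κ => by
        change (∑ q ∈ Q, rres g.op (κ q) * A q l : O.obj.obj (op V)) • res G g.op (r • b) =
          (∑ q ∈ Q, rres g.op ((r • κ) q) * A q l : O.obj.obj (op V)) • res G g.op b
        rw [res_smul, smul_smul]
        congr 1
        simp only [Finsupp.smul_apply, smul_eq_mul, map_mul, Finset.sum_mul]
        exact Finset.sum_congr rfl fun q _ => by ring)
  have h1 : Φ (∑ k, v i k ⊗ₜ Finsupp.single (h k) 1) = ∑ k, A (h k) l • res G g.op (v i k) := by
    simp only [map_sum]
    refine Finset.sum_congr rfl fun k _ => ?_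
    change (∑ q ∈ Q, rres g.op (Finsupp.single (h k) 1 q) * A q l : O.obj.obj (op V)) •
      res G g.op (v i k) = _
    rw [Finset.sum_eq_single (h k)]
    · simp
    · intro q _ hq
      simp [Finsupp.single_eq_of_ne hq]
    · intro hk
      exact absurd (Finset.mem_union_left _ (Finset.mem_image_of_mem h (Finset.mem_univ k))) hk
  refine h1.symm.trans ?_
  rw [hTsum i]
  simp only [map_sum]
  refine Finset.sum_eq_zero fun s hs => ?_
  change (∑ q ∈ Q, rres g.op (s.2 q) * A q l : O.obj.obj (op V)) • res G g.op s.1 = 0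
  rw [hκ _ (List.mem_flatMap.2 ⟨i, Finset.mem_toList.2 (Finset.mem_univ i),
    List.mem_map.2 ⟨s, Finset.mem_toList.2 hs, rfl⟩⟩) l, zero_smul]

variable (F G H : ModSite.Mod O) [ModSite.HasSheafHom F]

/-- Evaluation, tensored with `H`. -/
noncomputable def evTens :
    (pre ((ModSite.sheafHom F).obj G) ⊗ pre H) ⊗ pre F ⟶ pre (tens G H) :=
  (α_ _ _ _).hom ≫ pre ((ModSite.sheafHom F).obj G) ◁ (β_ (pre H) (pre F)).hom ≫ (α_ _ _ _).inv ≫
    evp F G ▷ pre H ≫ shfU _

lemma evTens_tp {W : C} (s : (pre ((ModSite.sheafHom F).obj G)).obj (op W)) (h : (pre H).obj (op W))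
    (x : (pre F).obj (op W)) :
    (evTens F G H).app (op W) (tp (tp s h) x) =
      (shfU (pre G ⊗ pre H)).app (op W) (tp (evAt F G s x) h) := rfl

/-- The canonical map. -/
noncomputable def canHom :
    tens ((ModSite.sheafHom F).obj G) H ⟶ (ModSite.sheafHom F).obj (tens G H) :=
  (homAdj F).homEquiv _ _
    ((@asIso _ _ _ _ (shf.map (shfU (pre ((ModSite.sheafHom F).obj G) ⊗ pre H) ▷ pre F))
        (isIso_shf_map_whiskerRight _ _)).inv ≫ (shfHomEquiv _ _).symm (evTens F G H))

/-- The canonical map on presheaves. -/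
noncomputable abbrev canPre :
    pre ((ModSite.sheafHom F).obj G) ⊗ pre H ⟶ pre ((ModSite.sheafHom F).obj (tens G H)) :=
  shfHomEquiv _ _ (canHom F G H)

lemma homAdj_symm_eq {M N : ModSite.Mod O} (α : M ⟶ (ModSite.sheafHom F).obj N) :
    ((homAdj F).homEquiv M N).symm α = shf.map (fgt.map α ▷ pre F) ≫ (homAdj F).counit.app N :=
  Adjunction.homEquiv_counit _ _ _ α

lemma canPre_evp : canPre F G H ▷ pre F ≫ evp F (tens G H) = evTens F G H := by
  have h1 : shf.map (shfU (pre ((ModSite.sheafHom F).obj G) ⊗ pre H) ▷ pre F) ≫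
      shf.map (fgt.map (canHom F G H) ▷ pre F) ≫ (homAdj F).counit.app (tens G H) =
        (shfHomEquiv _ _).symm (evTens F G H) := by
    rw [← homAdj_symm_eq, canHom, Equiv.symm_apply_apply]
    exact (@asIso _ _ _ _ (shf.map (shfU (pre ((ModSite.sheafHom F).obj G) ⊗ pre H) ▷ pre F))
      (isIso_shf_map_whiskerRight _ _)).hom_inv_id_assoc _
  have h3 := congrArg (shfHomEquiv _ (tens G H)) h1
  rw [Equiv.apply_symm_apply, shfHomEquiv_naturality_left, shfHomEquiv_naturality_left,
    ← Category.assoc, ← MonoidalCategory.comp_whiskerRight] at h3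
  rw [← h3]
  refine congrArg (fun z => z ▷ pre F ≫ evp F (tens G H)) ?_
  exact Adjunction.homEquiv_unit _ _ _ _

lemma evAt_canPre {W : C} (s : (pre ((ModSite.sheafHom F).obj G)).obj (op W)) (h : (pre H).obj (op W))
    (x : (pre F).obj (op W)) :
    evAt F (tens G H) ((canPre F G H).app (op W) (tp s h)) x =
      (shfU (pre G ⊗ pre H)).app (op W) (tp (evAt F G s x) h) :=
  (congrArg (fun z => z.app (op W) (tp (tp s h) x)) (canPre_evp F G H)).trans (evTens_tp F G H s h x)

lemma evAt_sum_left {N : ModSite.Mod O} {W : C} {K : Type*} (I : Finset K)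
    (s : K → (pre ((ModSite.sheafHom F).obj N)).obj (op W)) (x : (pre F).obj (op W)) :
    evAt F N (∑ k ∈ I, s k) x = ∑ k ∈ I, evAt F N (s k) x :=
  (congrArg ((evp F N).app (op W)) (TensorProduct.sum_tmul _ _ _)).trans (map_sum _ _ _)

lemma evAt_smul_left {N : ModSite.Mod O} {W : C} (r : O.obj.obj (op W))
    (s : (pre ((ModSite.sheafHom F).obj N)).obj (op W)) (x : (pre F).obj (op W)) :
    evAt F N (r • s) x = r • evAt F N s x :=
  (congrArg ((evp F N).app (op W)) (tp_smul_left _ _ _)).trans (map_smul _ _ _)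

lemma evAt_canPre_sum {W : C} {K : Type u} [Fintype K]
    (s : K → (pre ((ModSite.sheafHom F).obj G)).obj (op W)) (h : K → (pre H).obj (op W))
    (x : (pre F).obj (op W)) :
    evAt F (tens G H) ((canPre F G H).app (op W) (∑ k, tp (s k) (h k))) x =
      (shfU (pre G ⊗ pre H)).app (op W) (∑ k, tp (evAt F G (s k) x) (h k)) := by
  rw [map_sum, evAt_sum_left, map_sum]
  exact Finset.sum_congr rfl fun k _ => evAt_canPre F G H (s k) (h k) x

variable {F G H}

/-- A factorization through generators satisfying the relations gives a section. -/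
lemma exists_sect_of_values {W : C} (d : LocPres (pre F) W) (v : d.ι → (pre G).obj (op W))
    (hv : ∀ k, ∑ i, d.r k i • v i = 0) :
    ∃ s : (pre ((ModSite.sheafHom F).obj G)).obj (op W), ∀ i, evAt F G s (d.a i) = v i := by
  classical
  have := d.epi_genMap
  let α : freeM (O := O.over W) d.ι ⟶ (ModSite.restr O W).obj G :=
    freeTo (topO.isTerminal W) (G := (ModSite.restr O W).obj G) v
  have hα : d.relMap ≫ α = 0 := by
    refine free_hom_ext (topO.isTerminal W) fun k => ?_
    rw [ap_comp, LocPres.relMap, ap_freeTo_gen₀]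
    refine (ap_freeTo_ofCoord (topO.isTerminal W) (G := (ModSite.restr O W).obj G) v
      (W := topO W) fun i => toO (W := topO W) (d.r k i)).trans ?_
    simp only [res_self _ _ (topO.isTerminal W)]
    exact hv k
  obtain ⟨s, hs⟩ := exists_sect_of_hom (d.exact.desc α hα)
  refine ⟨s, fun i => (hs (d.a i)).trans ?_⟩
  have h1 : d.a i = ap d.genMap (gen₀ (T := topO W) i) :=
    (ap_freeTo_gen₀ (topO.isTerminal W) (G := (ModSite.restr O W).obj F) d.a i).symm
  refine (congrArg (ap (d.exact.desc α hα)) h1).trans ?_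
  refine ((ap_comp d.genMap (d.exact.desc α hα) _).symm.trans ?_)
  exact (congrArg (fun z => ap z (gen₀ (T := topO W) i)) (d.exact.g_desc α hα)).trans
    (ap_freeTo_gen₀ (topO.isTerminal W) (G := (ModSite.restr O W).obj G) v i)

lemma locally_zero_of_canPre_eq_zero [F.IsFinitePresentation] (hH : LocFlat (pre H)) {X : C}
    (x : (pre ((ModSite.sheafHom F).obj G) ⊗ pre H).obj (op X))
    (hx : (canPre F G H).app (op X) x = 0) :
    ∃ S ∈ J X, ∀ ⦃V : C⦄ (g : V ⟶ X), S g →
      res (pre ((ModSite.sheafHom F).obj G) ⊗ pre H) g.op x = 0 := by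
  classical
  obtain ⟨I, rfl⟩ : ∃ I : Finset (((pre ((ModSite.sheafHom F).obj G)).obj (op X)) × (pre H).obj (op X)),
      x = ∑ i ∈ I, tp i.1 i.2 :=
    TensorProduct.exists_finset (R := O.obj.obj (op X))
      (M := (pre ((ModSite.sheafHom F).obj G)).obj (op X)) (N := (pre H).obj (op X)) x
  obtain ⟨S₀, hS₀, hd⟩ := exists_locPres_cover F X
  have step : ∀ ⦃W : C⦄ (g : W ⟶ X), S₀ g → ∃ T ∈ J W, ∀ ⦃V : C⦄ (k : V ⟶ W), T k →
      res (pre ((ModSite.sheafHom F).obj G) ⊗ pre H) (k ≫ g).op (∑ i ∈ I, tp i.1 i.2) = 0 := by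
    intro W g hg
    obtain ⟨d⟩ := hd g hg
    let s : I → (pre ((ModSite.sheafHom F).obj G)).obj (op W) := fun i => res _ g.op i.1.1
    let h : I → (pre H).obj (op W) := fun i => res (pre H) g.op i.1.2
    have hres : res (pre ((ModSite.sheafHom F).obj G) ⊗ pre H) g.op (∑ i ∈ I, tp i.1 i.2) =
        ∑ i, tp (s i) (h i) :=
      (res_sum _ g.op I _).trans ((Finset.sum_congr rfl fun i _ => res_tp g.op i.1 i.2).trans
        (Finset.sum_coe_sort I fun i => tp (res _ g.op i.1) (res (pre H) g.op i.2)).symm)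
    have hz : ∀ j, (shfU (pre G ⊗ pre H)).app (op W) (∑ i, tp (evAt F G (s i) (d.a j)) (h i)) = 0 := by
      intro j
      rw [← evAt_canPre_sum, ← hres, app_res, hx, res_zero]
      exact (congrArg ((evp F (tens G H)).app (op W)) (TensorProduct.zero_tmul _ _)).trans (map_zero _)
    have hloc : ∀ j, ∃ T ∈ J W, ∀ ⦃V : C⦄ (k : V ⟶ W), T k →
        res (pre G ⊗ pre H) k.op (∑ i, tp (evAt F G (s i) (d.a j)) (h i)) = res (pre G ⊗ pre H) k.op 0 :=
      fun j => locally_eq ((isIso_shf_map_iff_isLocalIso _).1 (isIso_shf_map_shfU (pre G ⊗ pre H)))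
        (op W) _ 0 ((hz j).trans (map_zero _).symm)
    choose T hT hTj using hloc
    obtain ⟨T₁, hT₁, hle⟩ := exists_covering_forall T hT
    have hk : ∀ ⦃V : C⦄ (k : V ⟶ W), T₁ k → ∃ U ∈ J V, ∀ ⦃V' : C⦄ (k' : V' ⟶ V), U k' →
        res (pre ((ModSite.sheafHom F).obj G) ⊗ pre H) (k' ≫ k ≫ g).op (∑ i ∈ I, tp i.1 i.2) = 0 := by
      intro V k hk
      obtain ⟨U, hU, hAt⟩ := exists_kill_tensor hH (pre G) (W := V)
        (fun j i => res (pre G) k.op (evAt F G (s i) (d.a j))) (fun i => res (pre H) k.op (h i)) (fun j => by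
          refine Eq.trans ?_ ((hTj j k (hle j k hk)).trans (res_zero _ _))
          rw [res_sum]
          exact Finset.sum_congr rfl fun i _ => (res_tp k.op _ _).symm)
      refine ⟨U, hU, fun V' k' hk' => ?_⟩
      obtain ⟨m, A, t, hA, hker⟩ := hAt k' hk'
      have hzero : ∀ l, ∑ i, A i l • res _ (k' ≫ k).op (s i) = 0 := by
        intro l
        refine hom_sect_ext (d.pullback (k' ≫ k)).gen fun j => ?_
        rw [evAt_sum_left]
        refine Eq.trans (Finset.sum_congr rfl fun i _ => ?_)
          ((hker j l).trans ((map_zero _).symm.trans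
            (congrArg ((evp F G).app (op V')) (TensorProduct.zero_tmul _ _)).symm))
        rw [evAt_smul_left]
        refine congrArg (A i l • ·) ?_
        change evAt F G _ (res (pre F) (k' ≫ k).op (d.a j)) = _
        rw [← res_evAt, res_res, op_comp]
      rw [← Category.assoc, op_comp, ← res_res, hres, res_sum]
      have hexp : ∀ i, res (pre ((ModSite.sheafHom F).obj G) ⊗ pre H) (k' ≫ k).op (tp (s i) (h i)) =
          ∑ l, tp (A i l • res _ (k' ≫ k).op (s i)) (t l) := fun i => by
        rw [res_tp]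
        have hh : res (pre H) (k' ≫ k).op (h i) = ∑ l, A i l • t l := by
          rw [op_comp, ← res_res]
          exact hA i
        rw [hh]
        refine (TensorProduct.tmul_sum _ _ _).trans (Finset.sum_congr rfl fun l _ => ?_)
        exact (tp_smul_right _ _ _).trans (tp_smul_left _ _ _).symm
      rw [Finset.sum_congr rfl fun i _ => hexp i, Finset.sum_comm]
      refine Finset.sum_eq_zero fun l _ => ?_
      refine Eq.trans ?_ (TensorProduct.zero_tmul _ (t l))
      rw [← hzero l]
      exact (TensorProduct.sum_tmul _ _ _).symm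
    choose U hU hUgood using hk
    refine ⟨Sieve.bind T₁.1 fun V k hk => U k hk, J.bind_covering hT₁ fun V k hk => hU k hk, ?_⟩
    rintro V' _ ⟨V, k', k, hk, hk', rfl⟩
    rw [Category.assoc]
    exact hUgood k hk k' hk'
  choose T hT hTgood using step
  refine ⟨Sieve.bind S₀.1 fun W g hg => T g hg, J.bind_covering hS₀ fun W g hg => hT g hg, ?_⟩
  rintro V _ ⟨W, k, g, hg, hk, rfl⟩
  exact hTgood g hg k hk

lemma locally_canPre_preimage [F.IsFinitePresentation] (hH : LocFlat (pre H)) {X : C}
    (y : (pre ((ModSite.sheafHom F).obj (tens G H))).obj (op X)) :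
    ∃ S ∈ J X, ∀ ⦃V : C⦄ (g : V ⟶ X), S g → ∃ z : (pre ((ModSite.sheafHom F).obj G) ⊗ pre H).obj (op V),
      (canPre F G H).app (op V) z = res (pre ((ModSite.sheafHom F).obj (tens G H))) g.op y := by
  classical
  have hloc := (isIso_shf_map_iff_isLocalIso _).1 (isIso_shf_map_shfU (pre G ⊗ pre H))
  obtain ⟨S₀, hS₀, hd⟩ := exists_locPres_cover F X
  have step : ∀ ⦃W : C⦄ (g : W ⟶ X), S₀ g → ∃ T ∈ J W, ∀ ⦃V : C⦄ (k : V ⟶ W), T k →
      ∃ z : (pre ((ModSite.sheafHom F).obj G) ⊗ pre H).obj (op V),
        (canPre F G H).app (op V) z = res (pre ((ModSite.sheafHom F).obj (tens G H))) (k ≫ g).op y := by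
    intro W g hg
    obtain ⟨d⟩ := hd g hg
    let y₀ := res (pre ((ModSite.sheafHom F).obj (tens G H))) g.op y
    choose T hT hTj using fun i => locally_preimage hloc (op W) (evAt F (tens G H) y₀ (d.a i))
    obtain ⟨T₁, hT₁, hle⟩ := exists_covering_forall T hT
    have hk : ∀ ⦃V : C⦄ (k : V ⟶ W), T₁ k → ∃ U ∈ J V, ∀ ⦃V₂ : C⦄ (k₂ : V₂ ⟶ V), U k₂ →
        ∃ z : (pre ((ModSite.sheafHom F).obj G) ⊗ pre H).obj (op V₂),
          (canPre F G H).app (op V₂) z =
            res (pre ((ModSite.sheafHom F).obj (tens G H))) (k₂ ≫ k ≫ g).op y := by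
      intro V k hk
      let e := d.pullback k
      choose w hw using fun i => hTj i k (hle i k hk)
      choose Is hIs using fun i => TensorProduct.exists_finset (R := O.obj.obj (op V))
        (M := (pre G).obj (op V)) (N := (pre H).obj (op V)) (w i)
      let K := (i : d.ι) × (Is i)
      let gk : d.ι → K → (pre G).obj (op V) := fun i p => if p.1 = i then p.2.1.1 else 0
      let hk : K → (pre H).obj (op V) := fun p => p.2.1.2
      have hwi : ∀ i, w i = ∑ p, tp (gk i p) (hk p) := by
        intro i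
        refine (hIs i).trans ?_
        rw [Fintype.sum_sigma, Finset.sum_eq_single i]
        · refine Eq.trans (Finset.sum_coe_sort (Is i) fun q => tp q.1 q.2).symm
            (Finset.sum_congr rfl fun q _ => ?_)
          simp [gk, hk]
        · intro j _ hj
          refine Finset.sum_eq_zero fun q _ => ?_
          simp only [gk, if_neg hj]
          exact TensorProduct.zero_tmul _ _
        · simp
      have hval : ∀ i, (shfU (pre G ⊗ pre H)).app (op V) (∑ p, tp (gk i p) (hk p)) =
          evAt F (tens G H) (res (pre ((ModSite.sheafHom F).obj (tens G H))) (k ≫ g).op y) (e.a i) := by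
        intro i
        rw [← hwi, hw i, op_comp, ← res_res]
        exact res_evAt F (tens G H) k y₀ (d.a i)
      have hrel : ∀ j : d.κ, (shfU (pre G ⊗ pre H)).app (op V)
          (∑ p, tp (∑ i, e.r j i • gk i p) (hk p)) = 0 := by
        intro j
        have h1 : ∑ p, tp (∑ i, e.r j i • gk i p) (hk p) = ∑ i, e.r j i • ∑ p, tp (gk i p) (hk p) := by
          simp only [Finset.smul_sum, ← tp_smul_left]
          exact (Finset.sum_congr rfl fun p _ => TensorProduct.sum_tmul _ _ _).trans Finset.sum_comm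
        rw [h1, map_sum]
        refine Eq.trans (Finset.sum_congr rfl fun i _ => (map_smul _ _ _).trans
          (congrArg (e.r j i • ·) (hval i))) ?_
        refine Eq.trans ?_ ((congrArg (fun z => (evp F (tens G H)).app (op V)
          (tp (res (pre ((ModSite.sheafHom F).obj (tens G H))) (k ≫ g).op y) z)) (e.rel j)).trans
            ((congrArg ((evp F (tens G H)).app (op V)) (TensorProduct.tmul_zero _ _)).trans (map_zero _)))
        refine Eq.trans ?_ ((congrArg ((evp F (tens G H)).app (op V)) (TensorProduct.tmul_sum _ _ _)).trans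
          (map_sum _ _ _)).symm
        exact Finset.sum_congr rfl fun i _ =>
          ((congrArg ((evp F (tens G H)).app (op V)) (tp_smul_right _ _ _)).trans (map_smul _ _ _)).symm
      choose T₂ hT₂ hTz using fun j => locally_eq hloc (op V) (∑ p, tp (∑ i, e.r j i • gk i p) (hk p)) 0
        ((hrel j).trans (map_zero _).symm)
      obtain ⟨T₃, hT₃, hle₂⟩ := exists_covering_forall T₂ hT₂
      have hk' : ∀ ⦃V' : C⦄ (k' : V' ⟶ V), T₃ k' → ∃ U ∈ J V', ∀ ⦃V₂ : C⦄ (k₂ : V₂ ⟶ V'), U k₂ →
          ∃ z : (pre ((ModSite.sheafHom F).obj G) ⊗ pre H).obj (op V₂),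
            (canPre F G H).app (op V₂) z =
              res (pre ((ModSite.sheafHom F).obj (tens G H))) ((k₂ ≫ k') ≫ k ≫ g).op y := by
        intro V' k' hk'
        obtain ⟨U, hU, hAt⟩ := exists_kill_tensor hH (pre G) (W := V')
          (fun j p => res (pre G) k'.op (∑ i, e.r j i • gk i p)) (fun p => res (pre H) k'.op (hk p))
          (fun j => by
            refine Eq.trans ?_ ((hTz j k' (hle₂ j k' hk')).trans (res_zero _ _))
            rw [res_sum]
            exact Finset.sum_congr rfl fun p _ => (res_tp k'.op _ _).symm)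
        refine ⟨U, hU, fun V₂ k₂ hk₂ => ?_⟩
        obtain ⟨m, A, t, hA, hker⟩ := hAt k₂ hk₂
        let f := e.pullback (k₂ ≫ k')
        have hs : ∀ l, ∃ s : (pre ((ModSite.sheafHom F).obj G)).obj (op V₂),
            ∀ i, evAt F G s (f.a i) = ∑ p, A p l • res (pre G) (k₂ ≫ k').op (gk i p) := fun l => by
          refine exists_sect_of_values f _ fun j => ?_
          refine Eq.trans ?_ (hker j l)
          simp only [res_res, ← op_comp, res_sum, res_smul, Finset.smul_sum]
          rw [Finset.sum_comm]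
          exact Finset.sum_congr rfl fun p _ => Finset.sum_congr rfl fun i _ =>
            (smul_comm _ _ _).trans (congrArg (A p l • ·) (congrArg (· • _) (rres_rres k'.op k₂.op (e.r j i)).symm))
        choose s hs using hs
        let z₀ : (pre ((ModSite.sheafHom F).obj G) ⊗ pre H).obj (op V₂) :=
          ∑ l : ULift.{u} (Fin m), tp (s l.down) (t l.down)
        refine ⟨z₀, hom_sect_ext f.gen fun i => ?_⟩
        refine (evAt_canPre_sum F G H (fun l : ULift.{u} (Fin m) => s l.down)
          (fun l => t l.down) (f.a i)).trans ?_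
        have h2 : ∑ l : ULift.{u} (Fin m), tp (evAt F G (s l.down) (f.a i)) (t l.down) =
            res (pre G ⊗ pre H) (k₂ ≫ k').op (∑ p, tp (gk i p) (hk p)) := by
          rw [res_sum]
          refine Eq.trans (Fintype.sum_equiv Equiv.ulift
            (fun l : ULift.{u} (Fin m) => tp (evAt F G (s l.down) (f.a i)) (t l.down))
            (fun l : Fin m => tp (evAt F G (s l) (f.a i)) (t l)) fun l => rfl) ?_
          refine Eq.trans (Finset.sum_congr rfl fun l _ =>
            (congrArg (fun z => tp z (t l)) (hs l i)).trans (TensorProduct.sum_tmul _ _ _)) ?_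
          refine Finset.sum_comm.trans (Finset.sum_congr rfl fun p _ => ?_)
          have hh : res (pre H) (k₂ ≫ k').op (hk p) = ∑ l, A p l • t l := by
            rw [op_comp, ← res_res]
            exact hA p
          rw [res_tp, hh]
          refine Eq.trans ?_ (TensorProduct.tmul_sum _ _ _).symm
          exact Finset.sum_congr rfl fun l _ => (tp_smul_left _ _ _).trans (tp_smul_right _ _ _).symm
        rw [h2, app_res, hval, res_evAt, res_res]
        rfl
      choose U hU hUgood using hk'
      refine ⟨Sieve.bind T₃.1 fun V' k' hk' => U k' hk', J.bind_covering hT₃ fun V' k' hk' => hU k' hk', ?_⟩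
      rintro V₂ _ ⟨V', k₂, k', hk', hk₂, rfl⟩
      exact hUgood k' hk' k₂ hk₂
    choose U hU hUgood using hk
    refine ⟨Sieve.bind T₁.1 fun V k hk => U k hk, J.bind_covering hT₁ fun V k hk => hU k hk, ?_⟩
    rintro V₂ _ ⟨V, k₂, k, hk, hk₂, rfl⟩
    rw [Category.assoc]
    exact hUgood k hk k₂ hk₂
  choose T hT hTgood using step
  refine ⟨Sieve.bind S₀.1 fun W g hg => T g hg, J.bind_covering hS₀ fun W g hg => hT g hg, ?_⟩
  rintro V _ ⟨W, k, g, hg, hk, rfl⟩
  exact hTgood g hg k hk

theorem isIso_canHom [F.IsFinitePresentation] (hH : ModSite.IsFlat H) : IsIso (canHom F G H) := by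
  have hflat := locFlat_of_isFlat hH
  have hl : IsLocalIso (canPre F G H) := by
    refine ⟨⟨fun {X} a b hab => ?_⟩, ⟨fun {X} y => ?_⟩⟩
    · obtain ⟨S, hS, hg⟩ := locally_zero_of_canPre_eq_zero hflat (X := X.unop)
        ((show (pre ((ModSite.sheafHom F).obj G) ⊗ pre H).obj X from a) -
          (show (pre ((ModSite.sheafHom F).obj G) ⊗ pre H).obj X from b)) (by
            rw [map_sub]
            exact sub_eq_zero.2 hab)
      refine J.superset_covering (fun V g hgS => ?_) hS
      exact sub_eq_zero.1 ((map_sub ((pre ((ModSite.sheafHom F).obj G) ⊗ pre H).map g.op).hom _ _).symm.trans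
        (hg g hgS))
    · obtain ⟨S, hS, hg⟩ := locally_canPre_preimage hflat (X := X) y
      exact J.superset_covering (fun V g hgS => hg g hgS) hS
  have := (isIso_shf_map_iff_isLocalIso _).2 hl
  have h : canHom F G H = shf.map (canPre F G H) ≫ shfAdj.counit.app _ :=
    ((shfHomEquiv _ _).symm_apply_apply (canHom F G H)).symm.trans (Adjunction.homEquiv_counit _ _ _ _)
  rw [h]
  exact @IsIso.comp_isIso _ _ _ _ _ _ _ this (shfCounitIso.app _).isIso_hom

end Groth.Agent.SiteMod
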