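import Groth.Agent.SiteMod.FinType

/-!
Morphisms out of a sheaf of modules given on local generators.
-/

universe u

open CategoryTheory CategoryTheory.Limits Opposite

namespace Groth.Agent.SiteMod

open Mod48

variable {C : Type u} [SmallCategory C] {J : GrothendieckTopology C} {O : Sheaf J CommRingCat.{u}}
  {G F : ModSite.Mod O}

/-- Combinations of `y` follow the relations between the generators of a presentation. -/
lemma LocPres.lincomb_eq_zero {Y : C} (d : LocPres (pre G) Y) (y : d.ι → (pre F).obj (op Y))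
    (hy : ∀ t, ∑ i, d.r t i • y i = 0) {W : C} (g : W ⟶ Y) (c : d.ι → O.obj.obj (op W))
    (hc : ∑ i, c i • res (pre G) g.op (d.a i) = 0) :
    ∑ i, c i • res (pre F) g.op (y i) = 0 := by
  obtain ⟨S, hS, he⟩ := d.kerr W g c hc
  refine ext_of_sieve (X := op W) hS fun V v hv => ?_
  obtain ⟨e, he⟩ := he v hv
  refine Eq.trans ?_ (res_zero _ _).symm
  rw [res_lincomb]
  simp only [he, Finset.sum_smul, mul_smul, res_res, ← op_comp]
  rw [Finset.sum_comm]
  refine Finset.sum_eq_zero fun t _ => ?_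
  rw [← Finset.smul_sum, ← res_lincomb (pre F) (v ≫ g) (d.r t) y, hy t, res_zero, smul_zero]

variable {κ : Type u} {U : κ → C} {ι : κ → Type u} [∀ j, Fintype (ι j)]
  (a : ∀ j, ι j → (pre G).obj (op (U j)))

/-- Locally every section is a combination of one family of generators. -/
lemma exists_rep_sieve (hcov : J.CoversTop U) (ha : ∀ j, GenAt (pre G) (U j) (a j)) (W : C)
    (z : (pre G).obj (op W)) :
    ∃ S ∈ J W, ∀ ⦃V : C⦄ (v : V ⟶ W), S v → ∃ (j : κ) (g : V ⟶ U j) (c : ι j → O.obj.obj (op V)),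
      res (pre G) v.op z = ∑ i, c i • res (pre G) g.op (a j i) := by
  have key : ∀ ⦃W₁ : C⦄ (w : W₁ ⟶ W), Sieve.ofObjects U W w → ∃ T ∈ J W₁, ∀ ⦃V : C⦄ (v : V ⟶ W₁), T v →
      ∃ (j : κ) (g : V ⟶ U j) (c : ι j → O.obj.obj (op V)),
        res (pre G) (v ≫ w).op z = ∑ i, c i • res (pre G) g.op (a j i) := by
    intro W₁ w hw
    obtain ⟨j, ⟨h⟩⟩ := (Sieve.mem_ofObjects_iff ..).mp hw
    obtain ⟨T, hT, hc⟩ := ha j W₁ h (res (pre G) w.op z)
    refine ⟨T, hT, fun V v hv => ?_⟩
    obtain ⟨c, hc⟩ := hc v hv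
    exact ⟨j, v ≫ h, c, (res_res (pre G) w.op v.op z).symm.trans hc⟩
  choose T hT hrep using key
  refine ⟨Sieve.bind (Sieve.ofObjects U W).1 fun W₁ w hw => T w hw,
    J.bind_covering (hcov W) fun W₁ w hw => hT w hw, ?_⟩
  rintro V _ ⟨W₁, v, w, hw, hv, rfl⟩
  exact hrep w hw v hv

/-- Maps agreeing on local generators are equal. -/
theorem hom_ext_genAt (hcov : J.CoversTop U) (ha : ∀ j, GenAt (pre G) (U j) (a j)) {φ ψ : G ⟶ F}
    (h : ∀ j i, ap φ (a j i) = ap ψ (a j i)) : φ = ψ := by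
  apply fgt.map_injective
  refine PresheafOfModules.hom_ext fun W => ModuleCat.hom_ext (LinearMap.ext fun z => ?_)
  obtain ⟨S, hS, hrep⟩ := exists_rep_sieve a hcov ha W.unop z
  refine ext_of_sieve hS fun V v hv => ?_
  obtain ⟨j, g, c, hz⟩ := hrep v hv
  change res (pre F) v.op (ap φ (W := W.unop) z) = res (pre F) v.op (ap ψ (W := W.unop) z)
  rw [res_ap, res_ap, hz, ap_lincomb, ap_lincomb]
  exact Finset.sum_congr rfl fun i _ => congrArg (c i • ·) (by rw [← res_ap, ← res_ap, h])

variable (y : ∀ j, ι j → (pre F).obj (op (U j)))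

/-- `w` is the value at `z`. -/
def IsV {W : C} (z : (pre G).obj (op W)) (w : (pre F).obj (op W)) : Prop :=
  ∀ ⦃V : C⦄ (v : V ⟶ W) (j : κ) (g : V ⟶ U j) (c : ι j → O.obj.obj (op V)),
    res (pre G) v.op z = ∑ i, c i • res (pre G) g.op (a j i) →
    res (pre F) v.op w = ∑ i, c i • res (pre F) g.op (y j i)

/-- The values respect the relations. -/
def Compat : Prop :=
  ∀ (j j' : κ) ⦃W : C⦄ (g : W ⟶ U j) (g' : W ⟶ U j') (c : ι j → O.obj.obj (op W))
    (c' : ι j' → O.obj.obj (op W)),
    ∑ i, c i • res (pre G) g.op (a j i) = ∑ i, c' i • res (pre G) g'.op (a j' i) →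
      ∑ i, c i • res (pre F) g.op (y j i) = ∑ i, c' i • res (pre F) g'.op (y j' i)

variable {a y}

lemma isV_res {W W' : C} {z : (pre G).obj (op W)} {w : (pre F).obj (op W)} (h : IsV a y z w)
    (u : W' ⟶ W) : IsV a y (res (pre G) u.op z) (res (pre F) u.op w) := fun V v j g c e => by
  rw [res_res, ← op_comp] at e ⊢
  exact h (v ≫ u) j g c e

lemma isV_unique (hcov : J.CoversTop U) (ha : ∀ j, GenAt (pre G) (U j) (a j)) {W : C}
    {z : (pre G).obj (op W)} {w w' : (pre F).obj (op W)} (h : IsV a y z w) (h' : IsV a y z w') :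
    w = w' := by
  obtain ⟨S, hS, hrep⟩ := exists_rep_sieve a hcov ha W z
  refine ext_of_sieve (X := op W) hS fun V v hv => ?_
  obtain ⟨j, g, c, hz⟩ := hrep v hv
  exact (h v j g c hz).trans (h' v j g c hz).symm

lemma exists_isV (hy : Compat a y) (hcov : J.CoversTop U) (ha : ∀ j, GenAt (pre G) (U j) (a j))
    {W : C} (z : (pre G).obj (op W)) : ∃ w, IsV a y z w := by
  obtain ⟨S, hS, hrep⟩ := exists_rep_sieve a hcov ha W z
  choose j g c hz using hrep
  let P := ((CategoryTheory.sheafCompose J (forget AddCommGrpCat.{u})).obj (ModSite.toAb F))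
  let x₀ : ∀ ⦃V : C⦄ (v : V ⟶ W), S v → (pre F).obj (op V) := fun V v hv =>
    ∑ i, c v hv i • res (pre F) (g v hv).op (y (j v hv) i)
  let x : Presieve.FamilyOfElements P.obj S.arrows := fun V v hv => x₀ v hv
  have hx : x.Compatible := by
    intro Y₁ Y₂ Z g₁ g₂ f₁ f₂ h₁ h₂ comm
    change res (pre F) g₁.op (∑ i, _) = res (pre F) g₂.op (∑ i, _)
    simp only [res_lincomb, res_res, ← op_comp]
    apply hy
    have e₁ := congrArg (res (pre G) g₁.op) (hz f₁ h₁)
    have e₂ := congrArg (res (pre G) g₂.op) (hz f₂ h₂)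
    simp only [res_lincomb, res_res, ← op_comp] at e₁ e₂
    rw [← e₁, ← e₂, comm]
  have hP : Presieve.IsSheaf J P.obj := (isSheaf_iff_isSheaf_of_type _ _).1 P.2
  obtain ⟨w, hw, -⟩ := hP S hS x hx
  refine ⟨w, fun V v j' g' c' e => ?_⟩
  refine ext_of_sieve (X := op V) (J.pullback_stable v hS) fun Z k hk => ?_
  refine ((res_res (pre F) v.op k.op w).trans (hw (k ≫ v) hk)).trans ?_
  simp only [x₀, x, res_lincomb, res_res, ← op_comp]
  apply hy
  have e₂ := congrArg (res (pre G) k.op) e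
  simp only [res_lincomb, res_res, ← op_comp] at e₂
  rw [← hz (k ≫ v) hk, e₂]

/-- A map is determined by compatible values on local generators. -/
theorem exists_hom_genAt (hy : Compat a y) (hcov : J.CoversTop U)
    (ha : ∀ j, GenAt (pre G) (U j) (a j)) :
    ∃ φ : G ⟶ F, ∀ j i, ap φ (a j i) = y j i := by
  classical
  choose val hval using fun (W : Cᵒᵖ) (z : (pre G).obj W) => exists_isV hy hcov ha (W := W.unop) z
  have hadd : ∀ (W : Cᵒᵖ) (z z' : (pre G).obj W), val W (z + z') = val W z + val W z' := by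
    intro W z z'
    refine isV_unique hcov ha (hval W (z + z')) fun V v j g c e => ?_
    obtain ⟨T, hT, hd⟩ := ha j V g (res (pre G) v.op z)
    obtain ⟨T', hT', hd'⟩ := ha j V g (res (pre G) v.op z')
    refine ext_of_sieve (X := op V) (J.intersection_covering hT hT') fun Z k hk => ?_
    obtain ⟨d, hd⟩ := hd k hk.1
    obtain ⟨d', hd'⟩ := hd' k hk.2
    rw [res_res, ← op_comp] at hd hd'
    rw [res_res, ← op_comp, res_add, hval W z (k ≫ v) j (k ≫ g) d hd,
      hval W z' (k ≫ v) j (k ≫ g) d' hd', res_lincomb, ← Finset.sum_add_distrib]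
    simp only [← add_smul, res_res, ← op_comp]
    apply hy
    have e₂ := congrArg (res (pre G) k.op) e
    simp only [res_lincomb, res_res, ← op_comp] at e₂
    rw [← e₂, res_add, hd, hd', ← Finset.sum_add_distrib]
    simp only [add_smul]
  have hsmul : ∀ (W : Cᵒᵖ) (r : O.obj.obj W) (z : (pre G).obj W), val W (r • z) = r • val W z := by
    intro W r z
    refine isV_unique hcov ha (hval W (r • z)) fun V v j g c e => ?_
    obtain ⟨T, hT, hd⟩ := ha j V g (res (pre G) v.op z)
    refine ext_of_sieve (X := op V) hT fun Z k hk => ?_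
    obtain ⟨d, hd⟩ := hd k hk
    rw [res_res, ← op_comp] at hd
    rw [res_res, ← op_comp, res_smul, hval W z (k ≫ v) j (k ≫ g) d hd, res_lincomb, Finset.smul_sum]
    simp only [smul_smul, res_res, ← op_comp]
    apply hy
    have e₂ := congrArg (res (pre G) k.op) e
    simp only [res_lincomb, res_res, ← op_comp] at e₂
    rw [← e₂, res_smul, hd, Finset.smul_sum]
    simp only [smul_smul]
  let φ : pre G ⟶ pre F :=
    { app := fun W => ModuleCat.ofHom
        (Y := (pre F).obj W) { toFun := val W, map_add' := hadd W, map_smul' := hsmul W }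
      naturality := fun {W W'} f => ModuleCat.hom_ext (LinearMap.ext fun z =>
        isV_unique hcov ha (hval W' (res (pre G) f z)) (isV_res (hval W z) f.unop)) }
  refine ⟨⟨φ⟩, fun j i => ?_⟩
  refine isV_unique hcov ha (hval (op (U j)) (a j i)) fun V v j' g c e => ?_
  have h1 : ∀ (M : PreM O) (m : ι j → M.obj (op (U j))), res M v.op (m i) =
      ∑ k, (if k = i then (1 : O.obj.obj (op V)) else 0) • res M v.op (m k) := fun M m => by
    simp
  rw [h1 (pre F) (y j)]
  apply hy
  rw [← h1 (pre G) (a j), e]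

end Groth.Agent.SiteMod
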