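import Groth.Agent.SiteMod.FreeTop
import Groth.Agent.Mod48.FreeOn
import Mathlib.Algebra.Category.ModuleCat.Sheaf.Quasicoherent

/-!
Presentations by finitely many sections over an object.
-/

universe u

open CategoryTheory CategoryTheory.Limits Opposite

namespace Groth.Agent.SiteMod

open Mod48

variable {C : Type u} [SmallCategory C] {J : GrothendieckTopology C} {O : Sheaf J CommRingCat.{u}}

/-- Every section over `W ⟶ Y` is locally a combination of the `a i`. -/
def GenAt (P : PreM O) (Y : C) {ι : Type u} [Fintype ι] (a : ι → P.obj (op Y)) : Prop :=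
  ∀ (W : C) (g : W ⟶ Y) (x : P.obj (op W)), ∃ S ∈ J W, ∀ ⦃V : C⦄ (v : V ⟶ W), S v →
    ∃ c : ι → O.obj.obj (op V), res P v.op x = ∑ i, c i • res P (v ≫ g).op (a i)

/-- The relations `r` locally generate the relations between the `a i`. -/
def RelAt (P : PreM O) (Y : C) {ι κ : Type u} [Fintype ι] [Fintype κ] (a : ι → P.obj (op Y))
    (r : κ → ι → O.obj.obj (op Y)) : Prop :=
  ∀ (W : C) (g : W ⟶ Y) (c : ι → O.obj.obj (op W)), ∑ i, c i • res P g.op (a i) = 0 →
    ∃ S ∈ J W, ∀ ⦃V : C⦄ (v : V ⟶ W), S v →
      ∃ d : κ → O.obj.obj (op V), ∀ i, rres v.op (c i) = ∑ t, d t * rres (v ≫ g).op (r t i)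

/-- A presentation by finitely many sections over `Y`. -/
structure LocPres (P : PreM O) (Y : C) where
  /-- The generators. -/
  ι : Type u
  /-- The relations. -/
  κ : Type u
  [fι : Fintype ι]
  [fκ : Fintype κ]
  /-- The generating sections. -/
  a : ι → P.obj (op Y)
  /-- The coefficients of the relations. -/
  r : κ → ι → O.obj.obj (op Y)
  rel : ∀ t, ∑ i, r t i • a i = 0
  gen : GenAt P Y a
  kerr : RelAt P Y a r

attribute [instance] LocPres.fι LocPres.fκ

lemma GenAt.pullback {P : PreM O} {Y : C} {ι : Type u} [Fintype ι] {a : ι → P.obj (op Y)}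
    (h : GenAt P Y a) {Y' : C} (k : Y' ⟶ Y) : GenAt P Y' fun i => res P k.op (a i) := by
  intro W g x
  obtain ⟨S, hS, hc⟩ := h W (g ≫ k) x
  refine ⟨S, hS, fun V v hv => ?_⟩
  obtain ⟨c, hc⟩ := hc v hv
  refine ⟨c, hc.trans (Finset.sum_congr rfl fun i _ => congrArg (c i • ·) ?_)⟩
  rw [res_res, ← op_comp, Category.assoc]

/-- Restriction of a presentation. -/
noncomputable def LocPres.pullback {P : PreM O} {Y : C} (d : LocPres P Y) {Y' : C} (k : Y' ⟶ Y) : LocPres P Y' where
  ι := d.ι
  κ := d.κ
  a i := res P k.op (d.a i)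
  r t i := rres k.op (d.r t i)
  rel t := by
    refine Eq.trans ?_ ((congrArg (res P k.op) (d.rel t)).trans (res_zero P k.op))
    rw [res_sum]
    exact Finset.sum_congr rfl fun i _ => (res_smul P k.op _ _).symm
  gen := d.gen.pullback k
  kerr W g c hc := by
    obtain ⟨S, hS, hd⟩ := d.kerr W (g ≫ k) c (by
      refine Eq.trans (Finset.sum_congr rfl fun i _ => ?_) hc
      rw [res_res, op_comp])
    refine ⟨S, hS, fun V v hv => ?_⟩
    obtain ⟨e, he⟩ := hd v hv
    refine ⟨e, fun i => (he i).trans (Finset.sum_congr rfl fun t _ => congrArg (e t * ·) ?_)⟩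
    rw [rres_rres, ← op_comp, Category.assoc]

section Over

variable (Y : C)

/-- The final object of `C/Y`. -/
abbrev topO : Over Y := Over.mk (𝟙 Y)

/-- It is final. -/
noncomputable def topO.isTerminal : IsTerminal (topO Y) := Over.mkIdTerminal

lemma topO.from_left (W : Over Y) : ((topO.isTerminal Y).from W).left = W.hom := by
  have := Over.w ((topO.isTerminal Y).from W)
  exact (Category.comp_id _).symm.trans this

variable {Y}

lemma exists_sieve_of_over {W : Over Y} {S : Sieve W} (hS : S ∈ (J.over Y) W) :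
    ∃ T ∈ J W.left, ∀ ⦃V : C⦄ (v : V ⟶ W.left), T v →
      S (Over.homMk v : Over.mk (v ≫ W.hom) ⟶ W) :=
  ⟨Sieve.overEquiv W S, hS, fun _ v hv => (Sieve.overEquiv_iff S v).1 hv⟩

lemma locSurj_over_iff {M N : ModSite.Mod (O.over Y)} (φ : M ⟶ N) :
    LocSurj φ ↔ ∀ (W : Over Y) (x : (pre N).obj (op W)), ∃ T ∈ J W.left,
      ∀ ⦃V : C⦄ (v : V ⟶ W.left), T v → ∃ y : (pre M).obj (op (Over.mk (v ≫ W.hom))),
        ap φ y = res (pre N) (Over.homMk v : Over.mk (v ≫ W.hom) ⟶ W).op x := by
  constructor
  · intro h W x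
    obtain ⟨S, hS, hy⟩ := h W x
    obtain ⟨T, hT, hTS⟩ := exists_sieve_of_over hS
    exact ⟨T, hT, fun V v hv => hy _ (hTS v hv)⟩
  · intro h W x
    obtain ⟨T, hT, hy⟩ := h W x
    refine ⟨(Sieve.overEquiv W).symm T, by rw [J.mem_over_iff]; simpa using hT, ?_⟩
    intro V v hv
    have hv' : T v.left := hv
    obtain ⟨y, hy⟩ := hy v.left hv'
    let e : V ⟶ Over.mk (v.left ≫ W.hom) := Over.homMk (𝟙 V.left) (by simp)
    refine ⟨res (pre M) e.op y, ?_⟩
    rw [← res_ap, hy, res_res, ← op_comp]
    refine congrArg (fun q => res (pre N) q x) (congrArg Quiver.Hom.op ?_)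
    ext
    exact Category.id_comp _

variable {F : ModSite.Mod O}

/-- A function over `W.left` as a function over `W`. -/
abbrev toO {W : Over Y} (r : O.obj.obj (op W.left)) : (O.over Y).obj.obj (op W) := r

lemma res_top (G : ModSite.Mod O) (x : (pre G).obj (op Y)) (W : Over Y) :
    res (pre ((ModSite.restr O Y).obj G)) ((topO.isTerminal Y).from W).op x = res (pre G) W.hom.op x := by
  change res (pre G) ((topO.isTerminal Y).from W).left.op x = _
  rw [topO.from_left]

/-- The map from the free module of relations. -/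
noncomputable def LocPres.relMap (d : LocPres (pre F) Y) :
    freeM (O := O.over Y) d.κ ⟶ freeM (O := O.over Y) d.ι :=
  freeTo (topO.isTerminal Y) fun t => ∑ i, ap (inF i) (toU (O := O.over Y) (W := topO Y) (d.r t i))

/-- The map to the module. -/
noncomputable def LocPres.genMap (d : LocPres (pre F) Y) :
    freeM (O := O.over Y) d.ι ⟶ (ModSite.restr O Y).obj F :=
  freeTo (topO.isTerminal Y) (G := (ModSite.restr O Y).obj F) d.a

lemma LocPres.relMap_genMap (d : LocPres (pre F) Y) : d.relMap ≫ d.genMap = 0 := by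
  refine free_hom_ext (topO.isTerminal Y) fun t => ?_
  rw [ap_comp, relMap, ap_freeTo_gen₀, genMap]
  refine (ap_freeTo_ofCoord (topO.isTerminal Y) (G := (ModSite.restr O Y).obj F) d.a
    (W := topO Y) fun i => (d.r t i : (O.over Y).obj.obj (op (topO Y)))).trans ?_
  refine Eq.trans (Finset.sum_congr rfl fun i _ => ?_) (d.rel t)
  refine congrArg (fun z : (pre ((ModSite.restr O Y).obj F)).obj (op (topO Y)) =>
    toO (W := topO Y) (d.r t i) • z) ((res_top F (d.a i) (topO Y)).trans ?_)
  exact congr($((pre F).map_id (op Y)) (d.a i))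

lemma LocPres.epi_genMap (d : LocPres (pre F) Y) : Epi d.genMap := by
  classical
  rw [epi_iff_locSurj, locSurj_over_iff]
  intro W x
  obtain ⟨S, hS, hc⟩ := d.gen W.left W.hom x
  refine ⟨S, hS, fun V v hv => ?_⟩
  obtain ⟨c, hc⟩ := hc v hv
  refine ⟨ofCoord fun i => (c i : (O.over Y).obj.obj (op (Over.mk (v ≫ W.hom)))), ?_⟩
  rw [genMap, ap_freeTo_ofCoord]
  refine Eq.trans ?_ hc.symm
  exact Finset.sum_congr rfl fun i _ =>
    congrArg (fun z : (pre ((ModSite.restr O Y).obj F)).obj (op (Over.mk (v ≫ W.hom))) =>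
      toO (W := Over.mk (v ≫ W.hom)) (c i) • z) (res_top F (d.a i) (Over.mk (v ≫ W.hom)))

lemma LocPres.exact (d : LocPres (pre F) Y) :
    (ShortComplex.mk d.relMap d.genMap d.relMap_genMap).Exact := by
  classical
  refine exact_of_local _ fun W x hx => ?_
  have hx' : ∑ i, (ofU (ap (coord i) x) : (O.over Y).obj.obj (op W)) •
      res (pre ((ModSite.restr O Y).obj F)) ((topO.isTerminal Y).from W).op (d.a i) = 0 :=
    (ap_freeTo (topO.isTerminal Y) (G := (ModSite.restr O Y).obj F) d.a x).symm.trans hx
  obtain ⟨S, hS, hd⟩ := d.kerr W.left W.hom (fun i => (ofU (ap (coord i) x) : (O.over Y).obj.obj (op W))) (by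
    refine Eq.trans (Finset.sum_congr rfl fun i _ => ?_) hx'
    exact (congrArg (fun z : (pre ((ModSite.restr O Y).obj F)).obj (op W) =>
      ofU (ap (coord i) x) • z) (res_top F (d.a i) W)).symm)
  refine ⟨(Sieve.overEquiv W).symm S, by rw [J.mem_over_iff]; simpa using hS, fun V v hv => ?_⟩
  obtain ⟨e, he⟩ := hd v.left hv
  refine ⟨ofCoord fun t => toO (W := V) (e t), ?_⟩
  refine (ap_freeTo_ofCoord (topO.isTerminal Y) _ _).trans ?_
  conv_rhs => rw [eq_sum_coord (topO.isTerminal Y) x]
  rw [res_sum]
  simp only [res_sum, Finset.smul_sum]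
  rw [Finset.sum_comm]
  refine Finset.sum_congr rfl fun i _ => ?_
  have hi : ∀ t, toO (W := V) (e t) • res (pre (freeM (O := O.over Y) d.ι))
      ((topO.isTerminal Y).from V).op (ap (inF i) (toU (O := O.over Y) (W := topO Y) (d.r t i))) =
      toO (W := V) (e t * rres (v.left ≫ W.hom).op (d.r t i)) •
        ap (inF i) (toU (1 : (O.over Y).obj.obj (op V))) := fun t => by
    rw [res_ap]
    refine (congrArg (toO (W := V) (e t) • ·) (ap_unit_eq_smul (inF i)
      (ofU (res (pre (ModSite.unit (O.over Y))) ((topO.isTerminal Y).from V).op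
        (toU (O := O.over Y) (W := topO Y) (d.r t i)))))).trans ?_
    refine (smul_smul _ _ _).trans (congrArg (· • _) (congrArg (e t * ·) ?_))
    change rres ((topO.isTerminal Y).from V).left.op (d.r t i) = _
    rw [topO.from_left, Over.w v]
  rw [Finset.sum_congr rfl fun t _ => hi t, ← Finset.sum_smul]
  rw [res_smul, res_res, ← op_comp, (topO.isTerminal Y).hom_ext (v ≫ _) ((topO.isTerminal Y).from V),
    gen₀, res_ap_one]
  exact congrArg (· • _) (he i).symm

end Over

section Existence

variable {F : ModSite.Mod O} {U : C}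

/-- The value of a section of the restriction. -/
abbrev secV {M : ModSite.Mod (O.over U)} (s : M.sections) (o : Over U) : (pre M).obj (op o) :=
  s.val (op o)

lemma exists_genAt {Y : C} (h : Y ⟶ U) (σ : ((ModSite.restr O U).obj F).GeneratingSections) [Fintype σ.I] :
    GenAt (pre F) Y fun i => (σ.s i).val (op (Over.mk h)) := by
  classical
  intro W g x
  have hl : LocSurj σ.π := (epi_iff_locSurj _).1 σ.epi
  rw [locSurj_over_iff] at hl
  obtain ⟨T, hT, hy⟩ := hl (Over.mk (g ≫ h)) x
  refine ⟨T, hT, fun V v hv => ?_⟩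
  obtain ⟨y, hy⟩ := hy v hv
  let o : Over U := Over.mk (v ≫ g ≫ h)
  refine ⟨fun i => (ofU (ap (coord i) y) : (O.over U).obj.obj (op o)), ?_⟩
  refine hy.symm.trans ?_
  have h1 : y = ∑ i, ap (inF i) (ap (coord i) y) := by
    let ev : (freeM (O := O.over U) σ.I ⟶ freeM σ.I) →+ (pre (freeM (O := O.over U) σ.I)).obj (op o) :=
      AddMonoidHom.mk' (fun φ => ap φ y) fun _ _ => rfl
    refine (show ev (𝟙 _) = y from rfl).symm.trans ?_
    rw [← sum_coord, map_sum]
    rfl
  conv_lhs => rw [h1]
  refine (map_sum _ _ _).trans (Finset.sum_congr rfl fun i _ => ?_)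
  refine (ap_unit_eq_smul (inF i ≫ σ.π) (ofU (ap (coord i) y))).trans ?_
  refine congrArg (ofU (ap (coord i) y) • ·) ?_
  have hs : ap (inF i ≫ σ.π) (toU (1 : (O.over U).obj.obj (op o))) = (σ.s i).val (op o) :=
    congrArg (fun s : σ.I → ((ModSite.restr O U).obj F).sections => (s i).val (op o))
      ((SheafOfModules.freeHomEquiv _).apply_symm_apply σ.s)
  refine hs.trans ?_
  exact ((σ.s i).property (j := op (Over.mk h)) (j' := op o)
    (Over.homMk (v ≫ g) (by simp [o]) : o ⟶ Over.mk h).op).symm

variable (σ : ((ModSite.restr O U).obj F).Presentation) [σ.IsFinite]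

include σ

lemma exists_locPres_of_presentation {Y : C} (h : Y ⟶ U) : Nonempty (LocPres (pre F) Y) := by
  classical
  have := Fintype.ofFinite σ.generators.I
  have := Fintype.ofFinite σ.relations.I
  let o : Over U := Over.mk h
  let a : σ.generators.I → (pre F).obj (op Y) := fun i => secV (σ.generators.s i) o
  let κs : σ.relations.I → (pre (kernel σ.generators.π)).obj (op o) := fun t => (σ.relations.s t).val (op o)
  let r : σ.relations.I → σ.generators.I → O.obj.obj (op Y) := fun t i =>
    (ofU (ap (coord i) (ap (kernel.ι σ.generators.π) (κs t))) : (O.over U).obj.obj (op o))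
  have hπ : ∀ (o' : Over U) (i : σ.generators.I),
      ap (inF i ≫ σ.generators.π) (toU (1 : (O.over U).obj.obj (op o'))) = secV (σ.generators.s i) o' :=
    fun o' i => congrArg (fun s : σ.generators.I → ((ModSite.restr O U).obj F).sections => (s i).val (op o'))
      ((SheafOfModules.freeHomEquiv _).apply_symm_apply σ.generators.s)
  have hexp : ∀ {o' : Over U} (y : (pre (freeM (O := O.over U) σ.generators.I)).obj (op o')),
      y = ∑ i, ap (inF i) (ap (coord i) y) := fun {o'} y => by
    let ev : (freeM (O := O.over U) σ.generators.I ⟶ freeM σ.generators.I) →+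
        (pre (freeM (O := O.over U) σ.generators.I)).obj (op o') :=
      AddMonoidHom.mk' (fun φ => ap φ y) fun _ _ => rfl
    refine (show ev (𝟙 _) = y from rfl).symm.trans ?_
    rw [← sum_coord, map_sum]
    rfl
  have happ : ∀ {o' : Over U} (y : (pre (freeM (O := O.over U) σ.generators.I)).obj (op o')),
      ap σ.generators.π y = ∑ i, ofU (ap (coord i) y) • secV (σ.generators.s i) o' := fun {o'} y => by
    conv_lhs => rw [hexp y]
    refine (map_sum _ _ _).trans (Finset.sum_congr rfl fun i _ => ?_)
    exact (ap_unit_eq_smul (inF i ≫ σ.generators.π) _).trans (congrArg (_ • ·) (hπ o' i))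
  refine ⟨{
    ι := σ.generators.I
    κ := σ.relations.I
    a := a
    r := r
    rel := fun t => ?_
    gen := exists_genAt h σ.generators
    kerr := fun W g c hc => ?_ }⟩
  · refine ((happ _).symm.trans ?_)
    rw [← ap_comp, kernel.condition]
    rfl
  · let o' : Over U := Over.mk (g ≫ h)
    have hsec : ∀ i, res (pre F) g.op (a i) = secV (σ.generators.s i) o' := fun i =>
      (σ.generators.s i).property (j := op o) (j' := op o') (Over.homMk g : o' ⟶ o).op
    let y : (pre (freeM (O := O.over U) σ.generators.I)).obj (op o') :=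
      ofCoord fun i => toO (W := o') (c i)
    have hy : ap σ.generators.π y = 0 := by
      rw [happ]
      refine Eq.trans (Finset.sum_congr rfl fun i _ => ?_) hc
      exact congrArg₂ (· • ·) (ap_coord_ofCoord (fun i => toO (W := o') (c i)) i) (hsec i).symm
    obtain ⟨z, hz⟩ := exists_of_ap_kernel _ hy
    obtain ⟨S, hS, hw⟩ := (locSurj_over_iff σ.relations.π).1 ((epi_iff_locSurj _).1 σ.relations.epi) o' z
    refine ⟨S, hS, fun V v hv => ?_⟩
    obtain ⟨w, hw⟩ := hw v hv
    let o'' : Over U := Over.mk (v ≫ o'.hom)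
    refine ⟨fun t => (ofU (ap (coord t) w) : (O.over U).obj.obj (op o'')), fun i => ?_⟩
    let e : o'' ⟶ o := Over.homMk (v ≫ g) (by simp [o, o', o''])
    let e' : o'' ⟶ o' := Over.homMk v
    have hκ : ∀ t, ap (inF t ≫ σ.relations.π) (toU (1 : (O.over U).obj.obj (op o''))) =
        res (pre (kernel σ.generators.π)) e.op (κs t) := fun t =>
      (congrArg (fun s : σ.relations.I → (kernel σ.generators.π).sections => (s t).val (op o''))
        ((SheafOfModules.freeHomEquiv _).apply_symm_apply σ.relations.s)).trans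
          ((σ.relations.s t).property (j := op o) (j' := op o'') e.op).symm
    let ev : (pre (kernel σ.generators.π)).obj (op o'') →ₗ[(O.over U).obj.obj (op o'')]
        (pre (ModSite.unit (O.over U))).obj (op o'') :=
      ((fgt.map (kernel.ι σ.generators.π ≫ coord i)).app (op o'')).hom
    have h1 : ev (res (pre (kernel σ.generators.π)) e'.op z) =
        toU (rres v.op (c i) : (O.over U).obj.obj (op o'')) := by
      change ap (kernel.ι σ.generators.π ≫ coord i) (res (pre (kernel σ.generators.π)) e'.op z) = _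
      rw [← res_ap, ap_comp, hz]
      exact congrArg (fun z : (O.over U).obj.obj (op o') =>
          res (pre (ModSite.unit (O.over U))) e'.op (toU z))
        (ap_coord_ofCoord (fun i => toO (W := o') (c i)) i)
    have h2 : res (pre (kernel σ.generators.π)) e'.op z =
        ∑ t, (ofU (ap (coord t) w) : (O.over U).obj.obj (op o'')) •
          res (pre (kernel σ.generators.π)) e.op (κs t) := by
      refine hw.symm.trans ?_
      let evw : (freeM (O := O.over U) σ.relations.I ⟶ freeM σ.relations.I) →+
          (pre (freeM (O := O.over U) σ.relations.I)).obj (op o'') :=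
        AddMonoidHom.mk' (fun φ => ap φ w) fun _ _ => rfl
      have hexp' : w = ∑ t, ap (inF t) (ap (coord t) w) := by
        refine (show evw (𝟙 _) = w from rfl).symm.trans ?_
        rw [← sum_coord, map_sum]
        rfl
      conv_lhs => rw [hexp']
      refine (map_sum _ _ _).trans (Finset.sum_congr rfl fun t _ => ?_)
      exact (ap_unit_eq_smul (inF t ≫ σ.relations.π) _).trans (congrArg (_ • ·) (hκ t))
    have h3 := h1.symm.trans ((congrArg ev h2).trans (map_sum ev _ _))
    refine (congrArg ofU h3).trans (Finset.sum_congr rfl fun t _ => ?_)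
    refine (ev.map_smul _ _).trans
      (congrArg (fun z : (O.over U).obj.obj (op o'') => toU (ofU (ap (coord t) w) * z)) ?_)
    change ap (kernel.ι σ.generators.π ≫ coord i) (res (pre (kernel σ.generators.π)) e.op (κs t)) = _
    rw [← res_ap]
    rfl

end Existence

theorem exists_locPres_cover (F : ModSite.Mod O) [F.IsFinitePresentation] (X : C) :
    ∃ S ∈ J X, ∀ ⦃Y : C⦄ (g : Y ⟶ X), S g → Nonempty (LocPres (pre F) Y) := by
  obtain ⟨q, hq⟩ := SheafOfModules.IsFinitePresentation.exists_quasicoherentData F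
  refine ⟨_, q.coversTop X, fun Y g hg => ?_⟩
  obtain ⟨i, ⟨h⟩⟩ := (Sieve.mem_ofObjects_iff ..).mp hg
  have := hq.isFinite_presentation i
  exact @exists_locPres_of_presentation C _ J O F (q.X i) (q.presentation i) this Y h

end Groth.Agent.SiteMod
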