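import Groth.Agent.SiteMod.LocSurj
import Groth.Agent.SiteMod.FlatCrit
import Mathlib.Algebra.Category.ModuleCat.Sheaf.Free
import Mathlib.CategoryTheory.Preadditive.Biproducts

/-!
Finite free modules on a site with a final object.
-/

universe u

open CategoryTheory CategoryTheory.Limits Opposite

namespace Groth.Agent.SiteMod

open Mod48

variable {C : Type u} [SmallCategory C] {J : GrothendieckTopology C} {O : Sheaf J CommRingCat.{u}}
  {T : C} (hT : IsTerminal T)

/-- Functions as sections of the structure module. -/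
abbrev toU {W : C} (r : O.obj.obj (op W)) : (pre (ModSite.unit O)).obj (op W) := r

/-- Sections of the structure module as functions. -/
abbrev ofU {W : C} (r : (pre (ModSite.unit O)).obj (op W)) : O.obj.obj (op W) := r

lemma ap_unit_eq_smul {G : ModSite.Mod O} (ψ : ModSite.unit O ⟶ G) {W : C} (r : O.obj.obj (op W)) :
    ap ψ (toU r) = r • ap ψ (toU (1 : O.obj.obj (op W))) :=
  (congrArg (ap ψ) (show toU r = r • toU (1 : O.obj.obj (op W)) from (mul_one r).symm)).trans
    (map_smul _ _ _)

lemma res_ap_one {G : ModSite.Mod O} (ψ : ModSite.unit O ⟶ G) {W W' : C} (g : W' ⟶ W) :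
    res (pre G) g.op (ap ψ (toU (1 : O.obj.obj (op W)))) = ap ψ (toU (1 : O.obj.obj (op W'))) :=
  (res_ap ψ g _).trans (congrArg (ap ψ) (map_one (O.obj.map g.op).hom))

/-- The map out of the structure module given by a global section. -/
noncomputable def uTo (G : ModSite.Mod O) (x : (pre G).obj (op T)) : ModSite.unit O ⟶ G :=
  G.unitHomEquiv.symm (PresheafOfModules.sectionsMk (fun W => res (pre G) (hT.from W.unop).op x)
    (fun W W' g => (res_res (pre G) (hT.from W.unop).op g x).trans
      (congrArg (fun q => res (pre G) q x) (Quiver.Hom.unop_inj (hT.hom_ext _ _)))))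

lemma ap_uTo (G : ModSite.Mod O) (x : (pre G).obj (op T)) {W : C} (r : O.obj.obj (op W)) :
    ap (uTo hT G x) (toU r) = r • res (pre G) (hT.from W).op x := rfl

lemma res_self {P : PreM O} (g : T ⟶ T) (x : P.obj (op T)) (h : IsTerminal T) : res P g.op x = x := by
  obtain rfl : g = 𝟙 T := h.hom_ext _ _
  exact congr($(P.map_id (op T)) x)

include hT in
lemma unit_hom_ext {G : ModSite.Mod O} {ψ ψ' : ModSite.unit O ⟶ G}
    (h : ap ψ (toU (1 : O.obj.obj (op T))) = ap ψ' (toU (1 : O.obj.obj (op T)))) : ψ = ψ' := by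
  apply fgt.map_injective
  refine PresheafOfModules.hom_ext fun W => ModuleCat.hom_ext (LinearMap.ext fun r => ?_)
  change ap ψ (toU (W := W.unop) r) = ap ψ' (toU (W := W.unop) r)
  rw [ap_unit_eq_smul, ap_unit_eq_smul ψ', ← res_ap_one ψ (hT.from W.unop),
    ← res_ap_one ψ' (hT.from W.unop), h]

section Free

variable (ι : Type u)

/-- The free module. -/
noncomputable abbrev freeM : ModSite.Mod O := SheafOfModules.free (R := ModSite.ringSh O) ι

variable {ι}

/-- A summand of the free module. -/
noncomputable abbrev inF (i : ι) : ModSite.unit O ⟶ freeM (O := O) ι := SheafOfModules.ιFree i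

/-- A generator of the free module. -/
noncomputable def gen₀ (i : ι) : (pre (freeM (O := O) ι)).obj (op T) :=
  ap (inF i) (toU (1 : O.obj.obj (op T)))

/-- The map out of a free module given by global sections. -/
noncomputable def freeTo {G : ModSite.Mod O} (v : ι → (pre G).obj (op T)) : freeM (O := O) ι ⟶ G :=
  Cofan.IsColimit.desc (SheafOfModules.isColimitFreeCofan ι) fun i => uTo hT G (v i)

lemma inF_freeTo {G : ModSite.Mod O} (v : ι → (pre G).obj (op T)) (i : ι) :
    inF i ≫ freeTo hT v = uTo hT G (v i) :=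
  Cofan.IsColimit.fac (SheafOfModules.isColimitFreeCofan ι) _ i

lemma ap_freeTo_gen₀ {G : ModSite.Mod O} (v : ι → (pre G).obj (op T)) (i : ι) :
    ap (freeTo hT v) (gen₀ i) = v i := by
  rw [gen₀, ← ap_comp, inF_freeTo, ap_uTo, one_smul, res_self _ _ hT]

include hT in
lemma free_hom_ext {G : ModSite.Mod O} {φ φ' : freeM (O := O) ι ⟶ G}
    (h : ∀ i, ap φ (gen₀ (T := T) i) = ap φ' (gen₀ (T := T) i)) : φ = φ' :=
  Cofan.IsColimit.hom_ext (SheafOfModules.isColimitFreeCofan ι) _ _ fun i =>
    unit_hom_ext hT (h i)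

/-- A coordinate. -/
noncomputable def coord [DecidableEq ι] (i : ι) : freeM (O := O) ι ⟶ ModSite.unit O :=
  Cofan.IsColimit.desc (SheafOfModules.isColimitFreeCofan ι) fun j => if j = i then 𝟙 _ else 0

lemma inF_coord [DecidableEq ι] (i j : ι) :
    inF (O := O) j ≫ coord i = if j = i then 𝟙 _ else 0 :=
  Cofan.IsColimit.fac (SheafOfModules.isColimitFreeCofan ι) _ j

variable [Fintype ι] [DecidableEq ι]

lemma sum_coord : ∑ i, coord i ≫ inF i = 𝟙 (freeM (O := O) ι) := by
  refine Cofan.IsColimit.hom_ext (SheafOfModules.isColimitFreeCofan ι) _ _ fun j => ?_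
  change inF j ≫ (∑ i, coord i ≫ inF i) = inF j ≫ 𝟙 _
  rw [Preadditive.comp_sum, Category.comp_id, Finset.sum_eq_single j]
  · rw [← Category.assoc, inF_coord, if_pos rfl, Category.id_comp]
  · intro i _ hi
    rw [← Category.assoc, inF_coord, if_neg (Ne.symm hi), Limits.zero_comp]
  · simp

include hT in
lemma eq_sum_coord {W : C} (x : (pre (freeM (O := O) ι)).obj (op W)) :
    x = ∑ i, ofU (ap (coord i) x) • res (pre (freeM (O := O) ι)) (hT.from W).op (gen₀ i) := by
  let ev : (freeM (O := O) ι ⟶ freeM ι) →+ (pre (freeM (O := O) ι)).obj (op W) :=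
    AddMonoidHom.mk' (fun φ => ap φ x) fun _ _ => rfl
  have h1 : ev (𝟙 _) = x := rfl
  refine h1.symm.trans ?_
  rw [← sum_coord, map_sum]
  refine Finset.sum_congr rfl fun i _ => ?_
  change ap (inF i) (ap (coord i) x) = _
  rw [gen₀, res_ap_one, ← ap_unit_eq_smul]

lemma ap_freeTo {G : ModSite.Mod O} (v : ι → (pre G).obj (op T)) {W : C}
    (x : (pre (freeM (O := O) ι)).obj (op W)) :
    ap (freeTo hT v) x = ∑ i, ofU (ap (coord i) x) • res (pre G) (hT.from W).op (v i) := by
  conv_lhs => rw [eq_sum_coord hT x]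
  refine (map_sum _ _ _).trans (Finset.sum_congr rfl fun i _ => ?_)
  refine (map_smul _ _ _).trans (congrArg (ofU (ap (coord i) x) • ·) ?_)
  exact (res_ap (freeTo hT v) _ _).symm.trans (congrArg _ (ap_freeTo_gen₀ hT v i))

/-- A section with given coordinates. -/
noncomputable def ofCoord {W : C} (c : ι → O.obj.obj (op W)) : (pre (freeM (O := O) ι)).obj (op W) :=
  ∑ i, ap (inF i) (toU (c i))

omit [DecidableEq ι] in
lemma ap_freeTo_ofCoord {G : ModSite.Mod O} (v : ι → (pre G).obj (op T)) {W : C}
    (c : ι → O.obj.obj (op W)) :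
    ap (freeTo hT v) (ofCoord c) = ∑ i, c i • res (pre G) (hT.from W).op (v i) := by
  refine (map_sum _ _ _).trans (Finset.sum_congr rfl fun i _ => ?_)
  exact (congrArg (fun ψ => ap ψ (toU (c i))) (inF_freeTo hT v i)).trans (ap_uTo hT G (v i) (c i))

lemma ap_coord_ofCoord {W : C} (c : ι → O.obj.obj (op W)) (i : ι) :
    ofU (ap (coord i) (ofCoord c)) = c i := by
  refine (congrArg ofU (map_sum _ _ _)).trans ?_
  refine (Finset.sum_eq_single i (fun j _ hj => ?_) (fun h => absurd (Finset.mem_univ i) h)).trans ?_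
  · change ap (inF j ≫ coord i) (toU (c j)) = 0
    rw [inF_coord, if_neg hj]
    rfl
  · change ap (inF i ≫ coord i) (toU (c i)) = toU (c i)
    rw [inF_coord, if_pos rfl]
    rfl

end Free

end Groth.Agent.SiteMod
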