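import Groth.Agent.SiteMod.PushTensor
import Groth.Agent.SiteMod.LocCharts
import Groth.Agent.SiteMod.FlatCrit
import Mathlib.LinearAlgebra.Quotient.Basic
import Mathlib.LinearAlgebra.Span.Basic

/-!
Formal sums of pulled back sections, and their relations.
-/

universe u

open CategoryTheory CategoryTheory.Limits Opposite

namespace Groth.Agent.SiteMod

open Mod48

variable {C D : Type u} [SmallCategory C] [SmallCategory D] {J : GrothendieckTopology C}
  {K : GrothendieckTopology D} {O_C : Sheaf J CommRingCat.{u}} {O_D : Sheaf K CommRingCat.{u}}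
  (f : ModSite.RMor O_C O_D) (P : PreM O_D)

/-- Functions on `X` pulled back along `g : V ⟶ fn X`. -/
noncomputable def sig {X : D} {V : C} (g : V ⟶ f.fn.obj X) : O_D.obj.obj (op X) →+* O_C.obj.obj (op V) :=
  (rres g.op).comp (f.sharp.hom.app (op X)).hom

lemma rres_sig {X X' : D} {V V' : C} {g : V ⟶ f.fn.obj X} {g' : V' ⟶ f.fn.obj X'} {v : V' ⟶ V}
    {k : X' ⟶ X} (e : v ≫ g = g' ≫ f.fn.map k) (r : O_D.obj.obj (op X)) :
    rres v.op (sig f g r) = sig f g' (rres k.op r) := by
  have h : shp f X' (rres k.op r) = rres (f.fn.map k).op (shp f X r) :=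
    congr($(f.sharp.hom.naturality k.op).hom r)
  change rres v.op (rres g.op (shp f X r)) = rres g'.op (shp f X' (rres k.op r))
  rw [h, rres_rres, rres_rres, ← op_comp, ← op_comp, e]

/-- Formal combinations of sections over `X` with coefficients over `V`. -/
abbrev Comb (X : D) (V : C) : Type u := P.obj (op X) →₀ O_C.obj.obj (op V)

/-- The combinations which vanish, pulled back from the relations over `X`. -/
noncomputable def rels {X : D} {V : C} (g : V ⟶ f.fn.obj X) :
    Submodule (O_C.obj.obj (op V)) (Comb (O_C := O_C) P X V) :=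
  Submodule.span _ (Finsupp.mapRange (sig f g) (map_zero _) ''
    {κ : P.obj (op X) →₀ O_D.obj.obj (op X) | Finsupp.linearCombination (O_D.obj.obj (op X)) id κ = 0})

lemma mem_rels_of_relation {X : D} {V : C} (g : V ⟶ f.fn.obj X)
    (κ : P.obj (op X) →₀ O_D.obj.obj (op X))
    (hκ : Finsupp.linearCombination (O_D.obj.obj (op X)) id κ = 0) :
    Finsupp.mapRange (sig f g) (map_zero _) κ ∈ rels f P g :=
  Submodule.subset_span ⟨κ, hκ, rfl⟩

/-- Restriction of combinations. -/
noncomputable def combRes {X X' : D} {V V' : C} (v : V' ⟶ V) (k : X' ⟶ X) :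
    Comb (O_C := O_C) P X V →+ Comb (O_C := O_C) P X' V' :=
  (Finsupp.mapDomain.addMonoidHom (res P k.op)).comp
    (Finsupp.mapRange.addMonoidHom (rres (O := O_C) v.op).toAddMonoidHom)

lemma combRes_single {X X' : D} {V V' : C} (v : V' ⟶ V) (k : X' ⟶ X) (q : P.obj (op X))
    (b : O_C.obj.obj (op V)) :
    combRes P v k (Finsupp.single q b) = Finsupp.single (res P k.op q) (rres v.op b) := by
  simp [combRes]

lemma combRes_smul {X X' : D} {V V' : C} (v : V' ⟶ V) (k : X' ⟶ X) (r : O_C.obj.obj (op V))
    (x : Comb (O_C := O_C) P X V) : combRes P v k (r • x) = rres v.op r • combRes P v k x := by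
  induction x using Finsupp.induction_linear with
  | zero => simp
  | add a b ha hb => rw [smul_add, map_add, map_add, ha, hb, smul_add]
  | single q b =>
    rw [Finsupp.smul_single, combRes_single, combRes_single, Finsupp.smul_single, smul_eq_mul,
      smul_eq_mul, map_mul]

lemma combRes_mem {X X' : D} {V V' : C} {g : V ⟶ f.fn.obj X} {g' : V' ⟶ f.fn.obj X'} {v : V' ⟶ V}
    {k : X' ⟶ X} (e : v ≫ g = g' ≫ f.fn.map k) {x : Comb (O_C := O_C) P X V} (hx : x ∈ rels f P g) :
    combRes P v k x ∈ rels f P g' := by
  induction hx using Submodule.span_induction with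
  | zero => rw [map_zero]; exact Submodule.zero_mem _
  | add a b _ _ ha hb => rw [map_add]; exact Submodule.add_mem _ ha hb
  | smul r a _ ha => rw [combRes_smul]; exact Submodule.smul_mem _ _ ha
  | mem a ha =>
    obtain ⟨κ, hκ, rfl⟩ := ha
    have h1 : ∀ κ : P.obj (op X) →₀ O_D.obj.obj (op X),
        combRes P v k (Finsupp.mapRange (sig f g) (map_zero _) κ) = Finsupp.mapRange (sig f g') (map_zero _)
          (Finsupp.mapDomain (res P k.op) (Finsupp.mapRange (rres k.op) (map_zero _) κ)) := by
      intro κ
      induction κ using Finsupp.induction_linear with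
      | zero => simp
      | add a b ha hb =>
        rw [Finsupp.mapRange_add (map_add _), map_add, Finsupp.mapRange_add (map_add _),
          Finsupp.mapDomain_add, Finsupp.mapRange_add (map_add _), ha, hb]
      | single q r => simp [combRes_single, rres_sig f e]
    rw [h1]
    refine mem_rels_of_relation f P g' _ ?_
    rw [Finsupp.linearCombination_mapDomain, Finsupp.linearCombination_apply,
      Finsupp.sum_mapRange_index (h := fun q r => r • (id ∘ res P k.op) q) (fun q => zero_smul _ _)]
    simp only [Function.comp_apply, id_eq, ← res_smul]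
    have h2 : (κ.sum fun q r => r • q) = 0 := by
      simpa [Finsupp.linearCombination_apply] using hκ
    exact ((map_finsuppSum (P.map k.op).hom κ fun q r => r • q).symm).trans
      ((congrArg (res P k.op) h2).trans (res_zero P k.op))

end Groth.Agent.SiteMod
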