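import Mathlib.Algebra.Category.ModuleCat.Presheaf
import Mathlib.Algebra.Category.Grp.Basic
import Mathlib.RingTheory.Flat.Equalizer
import Mathlib.RingTheory.Flat.TorsionFree
import Mathlib.LinearAlgebra.TensorProduct.Basic

/-!
Extension of scalars from abelian presheaves to presheaves of modules, sectionwise.
-/

universe u

open CategoryTheory Opposite
open scoped TensorProduct

namespace Groth.Agent.SiteMod

variable {C : Type u} [SmallCategory C] {R : Cᵒᵖ ⥤ RingCat.{u}}

/-- Restriction maps of `U ↦ R(U) ⊗ A(U)`. -/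
noncomputable def scalRes (A : Cᵒᵖ ⥤ AddCommGrpCat.{u}) {U V : Cᵒᵖ} (f : U ⟶ V) :
    R.obj U ⊗[ℤ] A.obj U →ₗ[ℤ] R.obj V ⊗[ℤ] A.obj V :=
  TensorProduct.map (R.map f).hom.toAddMonoidHom.toIntLinearMap (A.map f).hom.toIntLinearMap

lemma scalRes_tmul (A : Cᵒᵖ ⥤ AddCommGrpCat.{u}) {U V : Cᵒᵖ} (f : U ⟶ V) (r : R.obj U)
    (a : A.obj U) : scalRes A f (r ⊗ₜ[ℤ] a) = R.map f r ⊗ₜ[ℤ] A.map f a :=
  rfl

lemma scalRes_smul (A : Cᵒᵖ ⥤ AddCommGrpCat.{u}) {U V : Cᵒᵖ} (f : U ⟶ V) (r : R.obj U)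
    (m : R.obj U ⊗[ℤ] A.obj U) : scalRes A f (r • m) = R.map f r • scalRes A f m := by
  induction m using TensorProduct.induction_on with
  | zero => rw [smul_zero, map_zero, smul_zero]
  | tmul s a =>
    rw [TensorProduct.smul_tmul', smul_eq_mul, scalRes_tmul, map_mul, scalRes_tmul,
      TensorProduct.smul_tmul', smul_eq_mul]
  | add x y hx hy => rw [smul_add, map_add, hx, hy, map_add, smul_add]

variable (R) in
/-- The abelian presheaf `U ↦ R(U) ⊗ A(U)`. -/
noncomputable def scalAb (A : Cᵒᵖ ⥤ AddCommGrpCat.{u}) : Cᵒᵖ ⥤ Ab.{u} where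
  obj U := AddCommGrpCat.of (R.obj U ⊗[ℤ] A.obj U)
  map {U V} f := AddCommGrpCat.ofHom (scalRes A f).toAddMonoidHom
  map_id U := by
    refine AddCommGrpCat.hom_ext (AddMonoidHom.ext fun x => ?_)
    change scalRes A (𝟙 U) x = x
    induction x using TensorProduct.induction_on with
    | zero => rw [map_zero]
    | tmul r a => simp [scalRes_tmul]
    | add x y hx hy => rw [map_add, hx, hy]
  map_comp f g := by
    refine AddCommGrpCat.hom_ext (AddMonoidHom.ext fun x => ?_)
    change scalRes A (f ≫ g) x = scalRes A g (scalRes A f x)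
    induction x using TensorProduct.induction_on with
    | zero => simp only [map_zero]
    | tmul r a => simp [scalRes_tmul]
    | add x y hx hy => simp only [map_add, hx, hy]

noncomputable instance (A : Cᵒᵖ ⥤ AddCommGrpCat.{u}) (U : Cᵒᵖ) :
    Module (R.obj U) ((scalAb R A).obj U) :=
  inferInstanceAs (Module (R.obj U) (R.obj U ⊗[ℤ] A.obj U))

lemma scalAb_map_smul (A : Cᵒᵖ ⥤ AddCommGrpCat.{u}) ⦃U V : Cᵒᵖ⦄ (f : U ⟶ V) (r : R.obj U)
    (m : (scalAb R A).obj U) :
    (scalAb R A).map f (r • m) = R.map f r • (scalAb R A).map f m :=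
  scalRes_smul A f r m

variable (R) in
/-- The presheaf of modules `U ↦ R(U) ⊗ A(U)`. -/
noncomputable def scal (A : Cᵒᵖ ⥤ AddCommGrpCat.{u}) : PresheafOfModules.{u} R :=
  PresheafOfModules.ofPresheaf (scalAb R A) (scalAb_map_smul A)

/-- Functoriality of `scal`, sectionwise. -/
noncomputable def scalMapApp {A B : Cᵒᵖ ⥤ AddCommGrpCat.{u}} (φ : A ⟶ B) (U : Cᵒᵖ) :
    R.obj U ⊗[ℤ] A.obj U →ₗ[R.obj U] R.obj U ⊗[ℤ] B.obj U :=
  TensorProduct.AlgebraTensorModule.map LinearMap.id (φ.app U).hom.toIntLinearMap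

lemma scalMapApp_natural {A B : Cᵒᵖ ⥤ AddCommGrpCat.{u}} (φ : A ⟶ B) {U V : Cᵒᵖ} (f : U ⟶ V)
    (x : R.obj U ⊗[ℤ] A.obj U) :
    scalMapApp φ V (scalRes A f x) = scalRes B f (scalMapApp φ U x) := by
  induction x using TensorProduct.induction_on with
  | zero => simp only [map_zero]
  | tmul r a => exact congrArg (R.map f r ⊗ₜ[ℤ] ·) (NatTrans.naturality_apply φ f a)
  | add x y hx hy => simp only [map_add, hx, hy]

/-- Functoriality of `scal`. -/
noncomputable def scalMap {A B : Cᵒᵖ ⥤ AddCommGrpCat.{u}} (φ : A ⟶ B) : scal R A ⟶ scal R B where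
  app U := ModuleCat.ofHom (scalMapApp φ U)
  naturality {U V} f := ModuleCat.hom_ext (LinearMap.ext fun x => scalMapApp_natural φ f x)

/-- The unit `a ↦ 1 ⊗ a`. -/
noncomputable def scalUnit (A : Cᵒᵖ ⥤ AddCommGrpCat.{u}) : A ⟶ (scal R A).presheaf where
  app U := AddCommGrpCat.ofHom
    (AddMonoidHom.mk' (fun a => (show (scal R A).presheaf.obj U from (1 : R.obj U) ⊗ₜ[ℤ] a))
      (fun a b => TensorProduct.tmul_add _ a b))
  naturality {U V} f := by
    ext a
    change (1 : R.obj V) ⊗ₜ[ℤ] A.map f a = R.map f 1 ⊗ₜ[ℤ] A.map f a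
    rw [map_one]

/-- The extension of an additive map to `scal`, sectionwise. -/
noncomputable def scalDescApp {A : Cᵒᵖ ⥤ AddCommGrpCat.{u}} {M : PresheafOfModules.{u} R}
    (φ : A ⟶ M.presheaf) (U : Cᵒᵖ) : R.obj U ⊗[ℤ] A.obj U →ₗ[R.obj U] M.obj U :=
  TensorProduct.AlgebraTensorModule.lift
    ((LinearMap.ringLmapEquivSelf (R.obj U) ℤ (A.obj U →ₗ[ℤ] M.obj U)).symm
      (φ.app U).hom.toIntLinearMap)

lemma scalDescApp_natural {A : Cᵒᵖ ⥤ AddCommGrpCat.{u}} {M : PresheafOfModules.{u} R}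
    (φ : A ⟶ M.presheaf) {U V : Cᵒᵖ} (f : U ⟶ V) (x : R.obj U ⊗[ℤ] A.obj U) :
    scalDescApp φ V (scalRes A f x) = M.map f (scalDescApp φ U x) := by
  induction x using TensorProduct.induction_on with
  | zero =>
    rw [map_zero, map_zero]
    exact ((map_zero (scalDescApp φ U)) ▸ (map_zero (M.map f).hom)).symm
  | tmul r a =>
    exact ((congrArg (fun y => R.map f r • (show M.obj V from y))
      (NatTrans.naturality_apply φ f a)).trans
      (PresheafOfModules.map_smul M f r (show M.obj U from φ.app U a)).symm)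
  | add x y hx hy =>
    simp only [map_add, hx, hy]
    rfl

/-- The extension of an additive map to `scal`. -/
noncomputable def scalDesc {A : Cᵒᵖ ⥤ AddCommGrpCat.{u}} {M : PresheafOfModules.{u} R}
    (φ : A ⟶ M.presheaf) : scal R A ⟶ M where
  app U := ModuleCat.ofHom (scalDescApp φ U)
  naturality {U V} f := ModuleCat.hom_ext (LinearMap.ext fun x => scalDescApp_natural φ f x)

lemma scalUnit_scalDesc {A : Cᵒᵖ ⥤ AddCommGrpCat.{u}} {M : PresheafOfModules.{u} R}
    (φ : A ⟶ M.presheaf) :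
    scalUnit A ≫ (PresheafOfModules.toPresheaf R).map (scalDesc φ) = φ := by
  ext U a
  exact one_smul (R.obj U) (φ.app U a)

lemma scalUnit_scalMap {A B : Cᵒᵖ ⥤ AddCommGrpCat.{u}} (φ : A ⟶ B) :
    scalUnit (R := R) A ≫ (PresheafOfModules.toPresheaf R).map (scalMap φ) = φ ≫ scalUnit B :=
  rfl

/-- Over `ℤ`, extension of scalars preserves injections with torsion-free cokernel. -/
lemma lTensor_injective_of_torsionFree {M N P : Type*} [AddCommGroup M] [AddCommGroup N]
    [AddCommGroup P] (g : M →+ N) (hg : Function.Injective g) (f : N →+ P)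
    (H : Function.Exact g f) (hP : ∀ (n : ℕ) (x : P), n ≠ 0 → n • x = 0 → x = 0)
    (A : Type*) [AddCommGroup A] :
    Function.Injective (g.toIntLinearMap.lTensor A) := by
  let f' := f.toIntLinearMap.rangeRestrict
  have : Module.IsTorsionFree ℤ P := by
    refine ⟨fun r hr a b hab => ?_⟩
    replace hr : r ≠ 0 := hr.ne_zero
    have h : r • (a - b) = 0 := by rw [smul_sub]; exact sub_eq_zero.2 hab
    refine sub_eq_zero.1 (hP r.natAbs _ (by simpa using hr) ?_)
    rcases Int.natAbs_eq r with e | e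
    · rw [e, natCast_zsmul] at h; exact h
    · rw [e, neg_smul, natCast_zsmul, neg_eq_zero] at h; exact h
  exact LinearMap.lTensor_injective_of_exact_of_flat f' f.toIntLinearMap.surjective_rangeRestrict
    g.toIntLinearMap hg
    (fun x => ⟨fun h => (H x).1 (congrArg Subtype.val h), fun h => Subtype.ext ((H x).2 h)⟩) A

end Groth.Agent.SiteMod
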