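import Groth.Agent.Mod48.Flat
import Mathlib.Algebra.Homology.HomologicalComplexAbelian
import Mathlib.Algebra.Homology.Additive

/-!
A bounded acyclic complex of flat modules stays acyclic after tensoring.
-/

universe u v v'

open CategoryTheory CategoryTheory.Limits

namespace Groth.Agent.SiteMod

section Abstract

variable {A : Type*} [Category* A] [Abelian A] {B : Type*} [Category* B] [Abelian B]

/-- The exact sequence of cycles at one degree of an acyclic complex. -/
noncomputable def cyclesSES (M : ChainComplex A ℤ) (a b c : ℤ) : ShortComplex A :=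
  ShortComplex.mk (X₃ := kernel (M.d b c)) (kernel.ι (M.d a b))
    (kernel.lift (M.d b c) (M.d a b) (M.d_comp_d _ _ _))
    (by rw [← cancel_mono (kernel.ι _), Category.assoc, kernel.lift_ι, kernel.condition, zero_comp])

lemma sc'_exact (M : ChainComplex A ℤ) (h : M.Acyclic) (a b c : ℤ) (hab : b + 1 = a) (hbc : c + 1 = b) :
    (M.sc' a b c).Exact :=
  (M.exactAt_iff' a b c ((ComplexShape.down ℤ).prev_eq' hab) ((ComplexShape.down ℤ).next_eq' hbc)).1 (h b)

lemma cyclesSES_shortExact (M : ChainComplex A ℤ) (h : M.Acyclic) (a b c : ℤ) (hab : b + 1 = a)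
    (hbc : c + 1 = b) : (cyclesSES M a b c).ShortExact where
  exact := ShortComplex.exact_of_f_is_kernel _
    (KernelFork.IsLimit.ofι _ _
      (fun {W} k hk => kernel.lift (M.d a b) k (by
        have := hk =≫ kernel.ι (M.d b c)
        rw [zero_comp] at this
        rw [← this, Category.assoc]
        exact congrArg (k ≫ ·) (kernel.lift_ι _ _ _).symm))
      (fun k hk => kernel.lift_ι _ _ _)
      (fun k hk m hm => by
        apply (cancel_mono (kernel.ι (M.d a b))).1
        exact hm.trans (kernel.lift_ι _ _ _).symm))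
  mono_f := inferInstanceAs (Mono (kernel.ι _))
  epi_g := (sc'_exact M h a b c hab hbc).epi_kernelLift

variable (G : A ⥤ B) [G.Additive] (P : A → Prop)

theorem acyclic_map_of_bounded
    (hP0 : ∀ X, IsZero X → P X)
    (hPker : ∀ S : ShortComplex A, S.ShortExact → P S.X₂ → P S.X₃ → P S.X₁)
    (hG : ∀ S : ShortComplex A, S.ShortExact → P S.X₃ → (S.map G).ShortExact)
    (M : ChainComplex A ℤ) (hb : ∃ i₀ : ℤ, ∀ i, i < i₀ → IsZero (M.X i)) (hM : ∀ i, P (M.X i))
    (hac : M.Acyclic) : ((G.mapHomologicalComplex (ComplexShape.down ℤ)).obj M).Acyclic := by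
  obtain ⟨i₀, hb⟩ := hb
  have hzero : ∀ a b, a < i₀ → P (kernel (M.d a b)) := fun a b ha =>
    hP0 _ (IsZero.of_mono (kernel.ι (M.d a b)) (hb a ha))
  have hZ : ∀ (n : ℕ) (a b : ℤ), b + 1 = a → a < i₀ + n → P (kernel (M.d a b)) := by
    intro n
    induction n with
    | zero => intro a b _ ha; exact hzero a b (by simpa using ha)
    | succ n ih =>
      intro a b hab ha
      exact hPker _ (cyclesSES_shortExact M hac a b (b - 1) hab (by omega)) (hM a)
        (ih b (b - 1) (by omega) (by push_cast at ha; omega))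
  have hZ' : ∀ a b : ℤ, b + 1 = a → P (kernel (M.d a b)) := fun a b hab =>
    hZ (a - i₀ + 1).toNat a b hab (by omega)
  have hT : ∀ a b c : ℤ, b + 1 = a → c + 1 = b → ((cyclesSES M a b c).map G).ShortExact :=
    fun a b c hab hbc => hG _ (cyclesSES_shortExact M hac a b c hab hbc) (hZ' b c hbc)
  intro b
  let a := b + 1
  let c := b - 1
  let d := c - 1
  rw [HomologicalComplex.exactAt_iff' _ a b c ((ComplexShape.down ℤ).prev_eq' (show b + 1 = a from rfl))
    ((ComplexShape.down ℤ).next_eq' (show c + 1 = b by simp [c]))]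
  have hm : Mono (G.map (kernel.ι (M.d c d))) :=
    (hT c d (d - 1) (by simp [d]) (by simp [d])).mono_f
  have he : Epi (G.map (kernel.lift (M.d b c) (M.d a b) (M.d_comp_d _ _ _))) :=
    (hT a b c rfl (by simp [c])).epi_g
  have hS := hT b c d (by simp [c]) (by simp [d])
  let S' := (cyclesSES M b c d).map G
  let U : ShortComplex B := ShortComplex.mk (G.map (M.d a b))
    (G.map (kernel.lift (M.d c d) (M.d b c) (M.d_comp_d _ _ _))) (by
      rw [← G.map_comp, ← G.map_zero]
      congr 1
      rw [← cancel_mono (kernel.ι _), Category.assoc, kernel.lift_ι, M.d_comp_d, zero_comp])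
  let φ : U ⟶ S' :=
    { τ₁ := G.map (kernel.lift (M.d b c) (M.d a b) (M.d_comp_d _ _ _))
      τ₂ := 𝟙 _
      τ₃ := 𝟙 _
      comm₁₂ := by
        change G.map _ ≫ G.map _ = G.map _ ≫ 𝟙 _
        rw [← G.map_comp, Category.comp_id]
        congr 1
        exact kernel.lift_ι _ _ _
      comm₂₃ := by
        change 𝟙 _ ≫ G.map _ = G.map _ ≫ 𝟙 _
        exact (Category.id_comp _).trans (Category.comp_id _).symm }
  have : Epi φ.τ₁ := he
  have : IsIso φ.τ₂ := inferInstanceAs (IsIso (𝟙 _))
  have : Mono φ.τ₃ := inferInstanceAs (Mono (𝟙 _))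
  have hU : U.Exact := (ShortComplex.exact_iff_of_epi_of_isIso_of_mono φ).2 hS.exact
  let ψ : U ⟶ ((G.mapHomologicalComplex (ComplexShape.down ℤ)).obj M).sc' a b c :=
    { τ₁ := 𝟙 _
      τ₂ := 𝟙 _
      τ₃ := G.map (kernel.ι (M.d c d))
      comm₁₂ := by
        change 𝟙 _ ≫ G.map _ = G.map _ ≫ 𝟙 _
        exact (Category.id_comp _).trans (Category.comp_id _).symm
      comm₂₃ := by
        change 𝟙 _ ≫ G.map (M.d b c) = G.map _ ≫ G.map _
        rw [Category.id_comp, ← G.map_comp, kernel.lift_ι] }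
  have : Epi ψ.τ₁ := inferInstanceAs (Epi (𝟙 _))
  have : IsIso ψ.τ₂ := inferInstanceAs (IsIso (𝟙 _))
  have : Mono ψ.τ₃ := hm
  exact (ShortComplex.exact_iff_of_epi_of_isIso_of_mono ψ).1 hU

end Abstract

section Flat

open Groth.Agent.Mod48

variable {C : Type u} [SmallCategory C] {J : GrothendieckTopology C} {O : Sheaf J CommRingCat.{u}}

theorem acyclic_tensor_of_flat (F : ModSite.Mod O) (M : ChainComplex (ModSite.Mod O) ℤ)
    (hb : ∃ i₀ : ℤ, ∀ i, i < i₀ → IsZero (M.X i)) (hM : ∀ i, ModSite.IsFlat (M.X i))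
    (hac : M.Acyclic) :
    (((tR F).mapHomologicalComplex (ComplexShape.down ℤ)).obj M).Acyclic :=
  acyclic_map_of_bounded (tR F) (fun X => ModSite.IsFlat X)
    (fun X hX => by
      rw [isFlat_iff_mono]
      intro A B k _
      have : IsZero ((tR X).obj A) := (tL A).map_isZero hX
      exact this.mono _)
    (fun S hS h2 h3 => isFlat_X₁ S hS h2 h3) (fun S hS h3 => shortExact_map_tR S hS h3 F) M hb hM hac

end Flat

end Groth.Agent.SiteMod
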