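import Groth.Agent.SiteMod.LocPres
import Groth.Agent.SiteMod.FlatCritConv

/-!
Maps from finitely presented modules to flat modules factor locally through finite free modules.
-/

universe u

open CategoryTheory CategoryTheory.Limits Opposite

namespace Groth.Agent.SiteMod

open Mod48

variable {C : Type u} [SmallCategory C] {J : GrothendieckTopology C} {O : Sheaf J CommRingCat.{u}}

lemma sum_smul_ofCoord {ι μ : Type u} [Fintype ι] [Fintype μ] {W : C} (r : ι → O.obj.obj (op W))
    (A : ι → μ → O.obj.obj (op W)) :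
    ∑ i, r i • ofCoord (A i) = ofCoord (O := O) fun l => ∑ i, r i * A i l := by
  simp only [ofCoord, Finset.smul_sum]
  rw [Finset.sum_comm]
  refine Finset.sum_congr rfl fun l _ => ?_
  refine Eq.trans (Finset.sum_congr rfl fun i _ => ?_)
    (map_sum ((fgt.map (inF l)).app (op W)).hom (fun i => toU (r i * A i l)) Finset.univ).symm
  exact ((((fgt.map (inF l)).app (op W)).hom).map_smul (r i) (toU (A i l))).symm

lemma ofCoord_zero {ι : Type u} [Fintype ι] {W : C} :
    ofCoord (O := O) (W := W) (fun _ : ι => 0) = 0 :=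
  Finset.sum_eq_zero fun _ _ => map_zero _

section Terminal

variable {T : C} (hT : IsTerminal T)

/-- A matrix killing the relations gives a factorization through a finite free module. -/
lemma exists_factor_gen {ι κ : Type u} [Fintype ι] [Fintype κ] {M G : ModSite.Mod O}
    (a : ι → (pre M).obj (op T)) (r : κ → ι → O.obj.obj (op T))
    (w : freeTo hT (fun t => ofCoord (r t)) ≫ freeTo hT a = 0)
    (hex : (ShortComplex.mk _ _ w).Exact) [Epi (freeTo hT a)] (ψ : M ⟶ G) (m : ℕ)
    (A : ι → Fin m → O.obj.obj (op T)) (t : Fin m → (pre G).obj (op T))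
    (hrel : ∀ k l, ∑ i, r k i * A i l = 0) (hval : ∀ i, ap ψ (a i) = ∑ l, A i l • t l) :
    ∃ (n : ℕ) (p : M ⟶ freeM (O := O) (ULift.{u} (Fin n))) (q : freeM (O := O) (ULift.{u} (Fin n)) ⟶ G),
      p ≫ q = ψ := by
  classical
  let v : ι → (pre (freeM (O := O) (ULift.{u} (Fin m)))).obj (op T) := fun i =>
    ofCoord fun l : ULift.{u} (Fin m) => A i l.down
  have hα : freeTo hT (fun t => ofCoord (r t)) ≫ freeTo hT v = 0 := by
    refine free_hom_ext hT fun k => ?_
    rw [ap_comp, ap_freeTo_gen₀, ap_freeTo_ofCoord]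
    simp only [res_self _ _ hT, v, sum_smul_ofCoord]
    refine (congrArg ofCoord (funext fun l : ULift.{u} (Fin m) => hrel k l.down)).trans ?_
    exact ofCoord_zero
  refine ⟨m, hex.desc (freeTo hT v) hα, freeTo hT (fun l : ULift.{u} (Fin m) => t l.down), ?_⟩
  rw [← cancel_epi (freeTo hT a), ← Category.assoc, hex.g_desc]
  refine free_hom_ext hT fun i => ?_
  rw [ap_comp, ap_freeTo_gen₀, ap_comp, ap_freeTo_gen₀, ap_freeTo_ofCoord, hval i]
  simp only [res_self _ _ hT]
  exact Fintype.sum_equiv Equiv.ulift _ _ fun l => rfl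

end Terminal

variable {F H : ModSite.Mod O} {Y' : C}

lemma exists_factor_of_matrix (d : LocPres (pre F) Y') (φ : F ⟶ H) (m : ℕ)
    (A : d.ι → Fin m → O.obj.obj (op Y')) (t : Fin m → (pre H).obj (op Y'))
    (hrel : ∀ k l, ∑ i, d.r k i * A i l = 0) (hval : ∀ i, ap φ (d.a i) = ∑ l, A i l • t l) :
    ∃ (n : ℕ) (a : (ModSite.restr O Y').obj F ⟶ SheafOfModules.free (ULift.{u} (Fin n)))
      (b : SheafOfModules.free (ULift.{u} (Fin n)) ⟶ (ModSite.restr O Y').obj H),
      a ≫ b = (ModSite.restr O Y').map φ :=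
  @exists_factor_gen (Over Y') _ (J.over Y') (O.over Y') (topO Y') (topO.isTerminal Y') d.ι d.κ d.fι d.fκ
    ((ModSite.restr O Y').obj F) ((ModSite.restr O Y').obj H) d.a d.r d.relMap_genMap d.exact
    d.epi_genMap ((ModSite.restr O Y').map φ) m A t hrel hval

theorem exists_factor_cover [F.IsFinitePresentation] (hH : ModSite.IsFlat H) (φ : F ⟶ H) (X : C) :
    ∃ R ∈ J X, ∀ ⦃Y : C⦄ (g : Y ⟶ X), R g →
      ∃ (n : ℕ) (a : (ModSite.restr O Y).obj F ⟶ SheafOfModules.free (ULift.{u} (Fin n)))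
        (b : SheafOfModules.free (ULift.{u} (Fin n)) ⟶ (ModSite.restr O Y).obj H),
        a ≫ b = (ModSite.restr O Y).map φ := by
  classical
  have hflat := locFlat_of_isFlat hH
  obtain ⟨S, hS, hd⟩ := exists_locPres_cover F X
  let d := fun ⦃Y : C⦄ (g : Y ⟶ X) (hg : S g) => (hd g hg).some
  have hk : ∀ ⦃Y : C⦄ (g : Y ⟶ X) (hg : S g), ∃ T ∈ J Y, ∀ ⦃Y' : C⦄ (k : Y' ⟶ Y), T k →
      ∃ (n : ℕ) (a : (ModSite.restr O Y').obj F ⟶ SheafOfModules.free (ULift.{u} (Fin n)))
        (b : SheafOfModules.free (ULift.{u} (Fin n)) ⟶ (ModSite.restr O Y').obj H),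
        a ≫ b = (ModSite.restr O Y').map φ := by
    intro Y g hg
    let e := d g hg
    let h : e.ι → (pre H).obj (op Y) := fun i => ap φ (e.a i)
    let Q : Finset ((pre H).obj (op Y)) := Finset.univ.image h
    let κ : e.κ → (pre H).obj (op Y) → O.obj.obj (op Y) := fun k q =>
      ∑ i ∈ Finset.univ.filter (fun i => h i = q), e.r k i
    have hfib : ∀ (k : e.κ) {W : C} (v : W ⟶ Y) (G : (pre H).obj (op Y) → O.obj.obj (op W)),
        ∑ q ∈ Q, rres v.op (κ k q) * G q = ∑ i, rres v.op (e.r k i) * G (h i) := by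
      intro k W v G
      rw [← Finset.sum_fiberwise_of_maps_to (t := Q) (g := h)
        (fun i _ => Finset.mem_image_of_mem h (Finset.mem_univ i))]
      refine Finset.sum_congr rfl fun q _ => ?_
      simp only [κ, map_sum, Finset.sum_mul]
      exact Finset.sum_congr rfl fun i hi => by rw [(Finset.mem_filter.1 hi).2]
    have hrelQ : ∀ k, ∑ q ∈ Q, κ k q • q = 0 := by
      intro k
      refine Eq.trans ?_ ((congrArg (ap φ) (e.rel k)).trans (map_zero _))
      rw [show ap φ (∑ i, e.r k i • e.a i) = ∑ i, ap φ (e.r k i • e.a i) from map_sum _ _ _,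
        ← Finset.sum_fiberwise_of_maps_to (t := Q) (g := h)
          (fun i _ => Finset.mem_image_of_mem h (Finset.mem_univ i))]
      refine Finset.sum_congr rfl fun q _ => ?_
      simp only [κ, Finset.sum_smul]
      refine Finset.sum_congr rfl fun i hi => ?_
      rw [show ap φ (e.r k i • e.a i) = e.r k i • ap φ (e.a i) from map_smul _ _ _]
      exact congrArg (e.r k i • ·) (Finset.mem_filter.1 hi).2.symm
    obtain ⟨T, hT, hgood⟩ := kill hflat Q (Finset.univ.toList.map κ) (by
      intro c hc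
      obtain ⟨k, _, rfl⟩ := List.mem_map.1 hc
      exact hrelQ k)
    refine ⟨T, hT, fun Y' k hk => ?_⟩
    obtain ⟨m, A, t, hA, hκ⟩ := hgood k hk
    refine exists_factor_of_matrix (e.pullback k) φ m (fun i => A (h i)) t (fun j l => ?_) (fun i => ?_)
    · exact (hfib j k (fun q => A q l)).symm.trans
        (hκ _ (List.mem_map.2 ⟨j, Finset.mem_toList.2 (Finset.mem_univ _), rfl⟩) l)
    · exact (res_ap φ k (e.a i)).symm.trans (hA _ (Finset.mem_image_of_mem h (Finset.mem_univ i)))
  choose T hT hgood using hk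
  refine ⟨Sieve.bind S.1 fun Y g hg => T g hg, J.bind_covering hS fun Y g hg => hT g hg, ?_⟩
  rintro Z _ ⟨Y, k, g, hg, hk, rfl⟩
  exact hgood g hg k hk

end Groth.Agent.SiteMod
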