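import Groth.Agent.SiteMod.OpensMod
import Groth.Agent.SiteMod.GlueGen
import Mathlib.CategoryTheory.Limits.Types.Filtered

/-!
Maps out of a module of finite presentation into a directed colimit of modules on a ringed space.
-/

universe u

open CategoryTheory CategoryTheory.Limits Opposite TopologicalSpace

namespace Groth.Agent.SiteMod

open Mod48

variable {X : TopCat.{u}} {O : Sheaf (Opens.grothendieckTopology X) CommRingCat.{u}}

/-- The covering property of `S6840`. -/
def FinQC (X : TopCat.{u}) : Prop :=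
  ∀ (ι : Type u) (V : ι → Opens X), iSup V = ⊤ →
    ∃ (J : Type u) (_ : Finite J) (U : J → Opens X), iSup U = ⊤ ∧ (∀ j, ∃ i, U j ≤ V i) ∧
      ∀ j j', IsCompact ((U j ⊓ U j' : Opens X) : Set X)

lemma coversTop_of_iSup {κ : Type u} {U : κ → Opens X} (h : iSup U = ⊤) :
    (Opens.grothendieckTopology X).CoversTop U := by
  intro W x hx
  obtain ⟨j, hj⟩ := Opens.mem_iSup.1 (show x ∈ iSup U by rw [h]; trivial)
  exact ⟨W ⊓ U j, homOfLE inf_le_left,
    (Sieve.mem_ofObjects_iff ..).mpr ⟨j, ⟨homOfLE inf_le_right⟩⟩, ⟨hx, hj⟩⟩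

/-- A finite cover of the space on which a good local property holds. -/
lemma exists_finQC_cover (hX : FinQC X) {P : Opens X → Prop}
    (hP : ∀ ⦃U V : Opens X⦄, V ≤ U → P U → P V) (h : ∀ x : X, ∃ U : Opens X, x ∈ U ∧ P U) :
    ∃ (κ : Type u) (_ : Finite κ) (U : κ → Opens X), iSup U = ⊤ ∧ (∀ j, P (U j)) ∧
      ∀ j j', IsCompact ((U j ⊓ U j' : Opens X) : Set X) := by
  choose U hxU hU using h
  obtain ⟨κ, hκ, U', h1, h2, h3⟩ := hX X U
    (eq_top_iff.2 fun x _ => Opens.mem_iSup.2 ⟨x, hxU x⟩)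
  exact ⟨κ, hκ, U', h1, fun j => (h2 j).elim fun i hi => hP hi (hU i), h3⟩

variable {I : Type u} [Preorder I] [Nonempty I] [IsDirected I (· ≤ ·)] {D : I ⥤ ModSite.Mod O}
  {c : Cocone D}

lemma exists_upper {κ : Type*} [Finite κ] (k : κ → I) (k₀ : I) : ∃ l, k₀ ≤ l ∧ ∀ i, k i ≤ l := by
  classical
  have := Fintype.ofFinite κ
  obtain ⟨l, hl⟩ := Finset.exists_le (insert k₀ (Finset.univ.image k))
  exact ⟨l, hl _ (Finset.mem_insert_self _ _),
    fun i => hl _ (Finset.mem_insert_of_mem (Finset.mem_image_of_mem k (Finset.mem_univ i)))⟩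

/-- Transition maps on sections. -/
noncomputable abbrev tr {k l : I} (h : k ≤ l) {U : Opens X} (y : (pre (D.obj k)).obj (op U)) :
    (pre (D.obj l)).obj (op U) :=
  ap (D.map (homOfLE h)) y

lemma tr_tr {k l m : I} (h : k ≤ l) (h' : l ≤ m) {U : Opens X} (y : (pre (D.obj k)).obj (op U)) :
    tr h' (tr h y) = tr (h.trans h') y := by
  rw [tr, tr, ← ap_comp, ← D.map_comp, homOfLE_comp]

lemma ap_ι_tr {k l : I} (h : k ≤ l) {U : Opens X} (y : (pre (D.obj k)).obj (op U)) :
    ap (c.ι.app l) (tr h y) = ap (c.ι.app k) y := by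
  rw [tr, ← ap_comp, c.w]

lemma isFiltered_index : IsFiltered I := inferInstance

/-- Finitely many sections over a compact open vanishing in the colimit vanish at a stage. -/
lemma exists_stage_zero (hc : IsColimit c) {U : Opens X} (hU : IsCompact (U : Set X)) {k : I}
    {ι : Type u} [Finite ι] (y : ι → (pre (D.obj k)).obj (op U))
    (hy : ∀ i, ap (c.ι.app k) (y i) = 0) :
    ∃ (l : I) (h : k ≤ l), ∀ i, tr h (y i) = 0 := by
  classical
  have := isFiltered_index (I := I)
  have := Fintype.ofFinite ι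
  choose T hT hz using fun i => exists_local_zero hc (y i) (hy i)
  have hTi : (Finset.univ.inf T) ∈ Opens.grothendieckTopology X U :=
    Finset.inf_induction ((Opens.grothendieckTopology X).top_mem _)
      (fun _ ha _ hb => (Opens.grothendieckTopology X).intersection_covering ha hb) (fun i _ => hT i)
  obtain ⟨μ, _, V, v, hv, hcov⟩ := exists_finite_cover hU hTi
  choose m f hm using fun p : μ × ι => hz p.2 (v p.1) (mem_of_mem_inf (hv p.1) p.2)
  obtain ⟨l, hkl, hl⟩ := exists_upper m k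
  refine ⟨l, hkl, fun i => ext_of_sieve (X := op U) hcov fun W g hg => ?_⟩
  obtain ⟨p, q, rfl⟩ := (Sieve.mem_ofArrows_iff _ _ g).1 hg
  rw [op_comp, ← res_res, ← res_res, tr, res_zero, res_zero, res_ap,
    show homOfLE hkl = f (p, i) ≫ homOfLE (hl (p, i)) from Subsingleton.elim _ _, D.map_comp, ap_comp,
    hm (p, i)]
  exact (congrArg (res (pre (D.obj l)) q.op) (map_zero _)).trans (res_zero _ _)

variable {G : ModSite.Mod O}

/-- `Good f U`: `G` is presented on `U` and the values of `f` on generators come from a stage. -/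
def Good (c : Cocone D) (f : G ⟶ c.pt) (U : Opens X) : Prop :=
  ∃ (d : LocPres (pre G) U) (k : I) (y : d.ι → (pre (D.obj k)).obj (op U)),
    ∀ i, ap (c.ι.app k) (y i) = ap f (d.a i)

lemma Good.anti {f : G ⟶ c.pt} {U V : Opens X} (h : V ≤ U) (hU : Good c f U) : Good c f V := by
  obtain ⟨d, k, y, hy⟩ := hU
  refine ⟨d.pullback (homOfLE h), k, fun i => res (pre (D.obj k)) (homOfLE h).op (y i), fun i => ?_⟩
  refine (res_ap _ _ _).symm.trans ((congrArg (res (pre c.pt) (homOfLE h).op) (hy i)).trans ?_)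
  exact res_ap f _ _

lemma exists_good (hc : IsColimit c) [G.IsFinitePresentation] (f : G ⟶ c.pt) (x : X) :
    ∃ U : Opens X, x ∈ U ∧ Good c f U := by
  classical
  have := isFiltered_index (I := I)
  obtain ⟨S, hS, hd⟩ := exists_locPres_cover G (⊤ : Opens X)
  obtain ⟨U, g, hg, hxU⟩ := hS x trivial
  obtain ⟨d⟩ := hd g hg
  choose T hT hrep using fun i => exists_local_rep hc (ap f (d.a i))
  have hTi : (Finset.univ.inf T) ∈ Opens.grothendieckTopology X U :=
    Finset.inf_induction ((Opens.grothendieckTopology X).top_mem _)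
      (fun _ ha _ hb => (Opens.grothendieckTopology X).intersection_covering ha hb) (fun i _ => hT i)
  obtain ⟨V, v, hv, hxV⟩ := hTi x hxU
  choose k y hy using fun i => hrep i v (mem_of_mem_inf hv i)
  obtain ⟨l, -, hl⟩ := exists_upper k (Classical.arbitrary I)
  refine ⟨V, hxV, d.pullback v, l, fun i => tr (hl i) (y i), fun i => ?_⟩
  exact (ap_ι_tr (hl i) _).trans ((hy i).trans (res_ap f _ _))

theorem exists_factor (hX : FinQC X) (hc : IsColimit c) [G.IsFinitePresentation] (f : G ⟶ c.pt) :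
    ∃ (l : I) (φ : G ⟶ D.obj l), φ ≫ c.ι.app l = f := by
  classical
  have := isFiltered_index (I := I)
  obtain ⟨κ, hκ, U, hU, hgood, hqc⟩ := exists_finQC_cover hX (fun _ _ h => Good.anti h) (exists_good hc f)
  have hUc : ∀ j, IsCompact ((U j : Opens X) : Set X) := fun j => by simpa using hqc j j
  choose d k y₀ hy₀ using hgood
  obtain ⟨l₀, -, hl₀⟩ := exists_upper k (Classical.arbitrary I)
  let y₁ : ∀ j, (d j).ι → (pre (D.obj l₀)).obj (op (U j)) := fun j i => tr (hl₀ j) (y₀ j i)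
  have hy₁ : ∀ j i, ap (c.ι.app l₀) (y₁ j i) = ap f ((d j).a i) := fun j i =>
    (ap_ι_tr (hl₀ j) _).trans (hy₀ j i)
  choose m₁ hm₁ hrel₁ using fun j => exists_stage_zero hc (hUc j)
    (fun t => ∑ i, (d j).r t i • y₁ j i) (fun t => by
      rw [ap_lincomb]
      simp only [hy₁]
      exact (ap_lincomb f _ _).symm.trans ((congrArg (ap f) ((d j).rel t)).trans (map_zero _)))
  obtain ⟨l₁, hl₀₁, hl₁⟩ := exists_upper m₁ l₀
  let y₂ : ∀ j, (d j).ι → (pre (D.obj l₁)).obj (op (U j)) := fun j i => tr hl₀₁ (y₁ j i)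
  have hy₂ : ∀ j i, ap (c.ι.app l₁) (y₂ j i) = ap f ((d j).a i) := fun j i =>
    (ap_ι_tr hl₀₁ _).trans (hy₁ j i)
  have hrel₂ : ∀ j t, ∑ i, (d j).r t i • y₂ j i = 0 := fun j t => by
    refine (ap_lincomb (D.map (homOfLE hl₀₁)) _ _).symm.trans ?_
    change tr hl₀₁ _ = 0
    rw [← tr_tr (hm₁ j) (hl₁ j), hrel₁ j t]
    exact map_zero _
  have hpair : ∀ p : κ × κ, ∀ x ∈ U p.1 ⊓ U p.2, ∃ (Q : Opens X) (g : Q ⟶ U p.1) (g' : Q ⟶ U p.2),
      x ∈ Q ∧ ∃ (e : (d p.1).ι → (d p.2).ι → O.obj.obj (op Q)) (l : I) (h : l₁ ≤ l), ∀ i,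
        res (pre G) g.op ((d p.1).a i) = ∑ i', e i i' • res (pre G) g'.op ((d p.2).a i') ∧
        tr h (res (pre (D.obj l₁)) g.op (y₂ p.1 i)) =
          tr h (∑ i', e i i' • res (pre (D.obj l₁)) g'.op (y₂ p.2 i')) := by
    intro p x hx
    let P := U p.1 ⊓ U p.2
    let g₀ : P ⟶ U p.1 := homOfLE inf_le_left
    let g₀' : P ⟶ U p.2 := homOfLE inf_le_right
    choose T hT he using fun i => (d p.2).gen P g₀' (res (pre G) g₀.op ((d p.1).a i))
    have hTi : (Finset.univ.inf T) ∈ Opens.grothendieckTopology X P :=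
      Finset.inf_induction ((Opens.grothendieckTopology X).top_mem _)
        (fun _ ha _ hb => (Opens.grothendieckTopology X).intersection_covering ha hb) (fun i _ => hT i)
    obtain ⟨Q, v, hv, hxQ⟩ := hTi x hx
    choose e he using fun i => he i v (mem_of_mem_inf hv i)
    have hzero : ∀ i, ap (c.ι.app l₁) (res (pre (D.obj l₁)) (v ≫ g₀).op (y₂ p.1 i) -
        ∑ i', e i i' • res (pre (D.obj l₁)) (v ≫ g₀').op (y₂ p.2 i')) = 0 := fun i => by
      have h1 : ap f (res (pre G) (v ≫ g₀).op ((d p.1).a i)) =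
          ap f (∑ i', e i i' • res (pre G) (v ≫ g₀').op ((d p.2).a i')) :=
        congrArg (ap f) ((res_res (pre G) g₀.op v.op _).symm.trans (he i))
      rw [ap_lincomb] at h1
      simp only [← res_ap, ← hy₂] at h1
      refine (map_sub _ _ _).trans (sub_eq_zero.2 ?_)
      refine ((res_ap _ _ _).symm.trans h1).trans ?_
      exact ((ap_lincomb _ _ _).trans (Finset.sum_congr rfl fun i' _ =>
        congrArg (e i i' • ·) (res_ap _ _ _).symm)).symm
    choose T₂ hT₂ hz using fun i => exists_local_zero hc _ (hzero i)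
    have hT₂i : (Finset.univ.inf T₂) ∈ Opens.grothendieckTopology X Q :=
      Finset.inf_induction ((Opens.grothendieckTopology X).top_mem _)
        (fun _ ha _ hb => (Opens.grothendieckTopology X).intersection_covering ha hb) (fun i _ => hT₂ i)
    obtain ⟨R, w, hw, hxR⟩ := hT₂i x hxQ
    choose m φ hm using fun i => hz i w (mem_of_mem_inf hw i)
    obtain ⟨l, hl, hml⟩ := exists_upper m l₁
    refine ⟨R, w ≫ v ≫ g₀, w ≫ v ≫ g₀', hxR, fun i i' => rres w.op (e i i'), l, hl, fun i => ⟨?_, ?_⟩⟩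
    · have h2 := congrArg (res (pre G) w.op) (he i)
      simp only [res_lincomb, res_res, ← op_comp, Category.assoc] at h2
      exact h2
    · have h3 : tr hl (res (pre (D.obj l₁)) w.op (res (pre (D.obj l₁)) (v ≫ g₀).op (y₂ p.1 i) -
          ∑ i', e i i' • res (pre (D.obj l₁)) (v ≫ g₀').op (y₂ p.2 i'))) = 0 := by
        rw [tr, show homOfLE hl = φ i ≫ homOfLE (hml i) from Subsingleton.elim _ _, D.map_comp, ap_comp,
          hm i]
        exact map_zero _
      rw [show res (pre (D.obj l₁)) w.op (res (pre (D.obj l₁)) (v ≫ g₀).op (y₂ p.1 i) -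
          ∑ i', e i i' • res (pre (D.obj l₁)) (v ≫ g₀').op (y₂ p.2 i')) =
          res (pre (D.obj l₁)) (w ≫ v ≫ g₀).op (y₂ p.1 i) -
            ∑ i', rres w.op (e i i') • res (pre (D.obj l₁)) (w ≫ v ≫ g₀').op (y₂ p.2 i') from
        (map_sub ((pre (D.obj l₁)).map w.op).hom _ _).trans (congrArg₂ (· - ·)
          (res_res (pre (D.obj l₁)) _ _ _) ((res_lincomb _ _ _ _).trans (Finset.sum_congr rfl fun i' _ =>
            congrArg (rres w.op (e i i') • ·) (res_res (pre (D.obj l₁)) _ _ _))))] at h3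
      exact sub_eq_zero.1 ((map_sub _ _ _).symm.trans h3)
  choose Q g g' hxQ e lq hlq hQ using hpair
  have hfin : ∀ p : κ × κ, ∃ t : Finset ↥(U p.1 ⊓ U p.2), ∀ x ∈ U p.1 ⊓ U p.2, ∃ q ∈ t, x ∈ Q p q.1 q.2 := by
    intro p
    obtain ⟨t, ht⟩ := (hqc p.1 p.2).elim_finite_subcover
      (fun q : ↥(U p.1 ⊓ U p.2) => ((Q p q.1 q.2 : Opens X) : Set X))
      (fun q => (Q p q.1 q.2).isOpen) (fun x hx => Set.mem_iUnion.2 ⟨⟨x, hx⟩, hxQ p x hx⟩)
    exact ⟨t, fun x hx => by simpa using ht hx⟩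
  choose t ht using hfin
  obtain ⟨L, hL₁, hL⟩ := exists_upper
    (fun s : Σ p : κ × κ, {q // q ∈ t p} => lq s.1 s.2.1.1 s.2.1.2) l₁
  let yL : ∀ j, (d j).ι → (pre (D.obj L)).obj (op (U j)) := fun j i => tr hL₁ (y₂ j i)
  have hrelL : ∀ j r, ∑ i, (d j).r r i • yL j i = 0 := fun j r =>
    (ap_lincomb _ _ _).symm.trans ((congrArg (ap (D.map (homOfLE hL₁))) (hrel₂ j r)).trans (map_zero _))
  have hcompat : Compat (fun j => (d j).a) yL := by
    intro j j' W q q' a a' ha
    have hcov : ∀ x ∈ W, ∃ (V : Opens X) (v : V ⟶ W), x ∈ V ∧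
        res (pre (D.obj L)) v.op (∑ i, a i • res (pre (D.obj L)) q.op (yL j i)) =
          res (pre (D.obj L)) v.op (∑ i, a' i • res (pre (D.obj L)) q'.op (yL j' i)) := by
      intro x hx
      obtain ⟨s, hs, hxs⟩ := ht (j, j') x ⟨leOfHom q hx, leOfHom q' hx⟩
      let R := Q (j, j') s.1 s.2
      let V := W ⊓ R
      let v : V ⟶ W := homOfLE inf_le_left
      let r : V ⟶ R := homOfLE inf_le_right
      refine ⟨V, v, ⟨hx, hxs⟩, ?_⟩
      let ev : (d j).ι → (d j').ι → O.obj.obj (op V) := fun i i' => rres r.op (e (j, j') s.1 s.2 i i')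
      have hl : lq (j, j') s.1 s.2 ≤ L := hL ⟨(j, j'), s, hs⟩
      have hG : ∀ i, res (pre G) (v ≫ q).op ((d j).a i) =
          ∑ i', ev i i' • res (pre G) (v ≫ q').op ((d j').a i') := fun i => by
        rw [show v ≫ q = r ≫ g (j, j') s.1 s.2 from Subsingleton.elim _ _,
          show v ≫ q' = r ≫ g' (j, j') s.1 s.2 from Subsingleton.elim _ _]
        have := congrArg (res (pre G) r.op) (hQ (j, j') s.1 s.2 i).1
        simp only [res_lincomb, res_res, ← op_comp] at this
        exact this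
      have hD : ∀ i, res (pre (D.obj L)) (v ≫ q).op (yL j i) =
          ∑ i', ev i i' • res (pre (D.obj L)) (v ≫ q').op (yL j' i') := fun i => by
        rw [show v ≫ q = r ≫ g (j, j') s.1 s.2 from Subsingleton.elim _ _,
          show v ≫ q' = r ≫ g' (j, j') s.1 s.2 from Subsingleton.elim _ _]
        have h1 := congrArg (tr hl) (hQ (j, j') s.1 s.2 i).2
        rw [tr_tr, tr_tr] at h1
        have h2 := congrArg (res (pre (D.obj L)) r.op) h1
        simp only [tr, ap_lincomb, ← res_ap, res_lincomb, res_res, ← op_comp] at h2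
        exact h2
      rw [res_lincomb, res_lincomb]
      simp only [res_res, ← op_comp]
      rw [Finset.sum_congr rfl fun i _ => congrArg (rres v.op (a i) • ·) (hD i)]
      simp only [Finset.smul_sum, smul_smul]
      rw [Finset.sum_comm]
      simp only [← Finset.sum_smul]
      rw [← sub_eq_zero, ← Finset.sum_sub_distrib]
      simp only [← sub_smul]
      refine (d j').lincomb_eq_zero (yL j') (hrelL j') _ _ ?_
      have h := congrArg (res (pre G) v.op) ha
      simp only [res_lincomb, res_res, ← op_comp] at h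
      rw [Finset.sum_congr rfl fun i _ => congrArg (rres v.op (a i) • ·) (hG i)] at h
      simp only [Finset.smul_sum, smul_smul] at h
      rw [Finset.sum_comm] at h
      simp only [← Finset.sum_smul] at h
      simp only [sub_smul, Finset.sum_sub_distrib]
      rw [h, sub_self]
    choose V v hxV hv using hcov
    have hS : Sieve.ofArrows (fun x : W => V x.1 x.2) (fun x => v x.1 x.2) ∈
        Opens.grothendieckTopology X W :=
      fun x hx => ⟨_, v x hx, Sieve.ofArrows_mk _ _ (⟨x, hx⟩ : W), hxV x hx⟩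
    refine ext_of_sieve (X := op W) hS fun Y p hp => ?_
    obtain ⟨i, p', rfl⟩ := (Sieve.mem_ofArrows_iff _ _ p).1 hp
    rw [op_comp, ← res_res, ← res_res, hv i.1 i.2]
  obtain ⟨φ, hφ⟩ := exists_hom_genAt hcompat (coversTop_of_iSup hU) (fun j => (d j).gen)
  refine ⟨L, φ, hom_ext_genAt (fun j => (d j).a) (coversTop_of_iSup hU) (fun j => (d j).gen) fun j i => ?_⟩
  rw [ap_comp, hφ]
  exact (ap_ι_tr hL₁ _).trans (hy₂ j i)

theorem exists_eq_at_stage (hX : FinQC X) (hc : IsColimit c) [G.IsFinitePresentation] {k : I}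
    (φ ψ : G ⟶ D.obj k) (h : φ ≫ c.ι.app k = ψ ≫ c.ι.app k) :
    ∃ (l : I) (hl : k ≤ l), φ ≫ D.map (homOfLE hl) = ψ ≫ D.map (homOfLE hl) := by
  classical
  have := isFiltered_index (I := I)
  obtain ⟨κ, hκ, U, hU, hd, hqc⟩ := exists_finQC_cover hX
    (P := fun U => Nonempty (LocPres (pre G) U)) (fun U V hle hd => hd.map fun d => d.pullback (homOfLE hle))
    (fun x => by
      obtain ⟨S, hS, hd⟩ := exists_locPres_cover G (⊤ : Opens X)
      obtain ⟨U, g, hg, hxU⟩ := hS x trivial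
      exact ⟨U, hxU, hd g hg⟩)
  have d := fun j => (hd j).some
  have hUc : ∀ j, IsCompact ((U j : Opens X) : Set X) := fun j => by simpa using hqc j j
  choose m hm hz using fun j => exists_stage_zero hc (hUc j)
    (fun i => ap φ ((d j).a i) - ap ψ ((d j).a i)) (fun i => by
      refine (map_sub _ _ _).trans (sub_eq_zero.2 ?_)
      exact congrArg (fun a => ap a ((d j).a i)) h)
  obtain ⟨l, hkl, hl⟩ := exists_upper m k
  refine ⟨l, hkl, hom_ext_genAt (fun j => (d j).a) (coversTop_of_iSup hU) (fun j => (d j).gen) fun j i => ?_⟩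
  rw [ap_comp, ap_comp]
  refine sub_eq_zero.1 ((map_sub _ _ _).symm.trans ?_)
  change tr hkl _ = 0
  rw [← tr_tr (hm j) (hl j), hz j i]
  exact map_zero _

theorem preservesColimit_coyoneda (hX : FinQC X) (D : I ⥤ ModSite.Mod O) (G : ModSite.Mod O)
    [G.IsFinitePresentation] : PreservesColimit D (coyoneda.obj (op G)) := by
  have := isFiltered_index (I := I)
  refine ⟨fun {c} hc => ⟨Types.FilteredColimit.isColimitOf' _ _ (fun x => ?_) fun k x y hxy => ?_⟩⟩
  · obtain ⟨l, φ, hφ⟩ := exists_factor hX hc x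
    exact ⟨l, φ, hφ.symm⟩
  · obtain ⟨l, hl, he⟩ := exists_eq_at_stage hX hc x y hxy
    exact ⟨l, homOfLE hl, he⟩

end Groth.Agent.SiteMod
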