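import Groth.Agent.SiteMod.OpensMod
import Groth.Agent.SiteMod.PushTensor

/-!
Finite type of the direct image along a closed immersion of ringed spaces.
-/

universe u

open CategoryTheory CategoryTheory.Limits Opposite TopologicalSpace

namespace Groth.Agent.SiteMod

open Mod48

variable {Z X : TopCat.{u}}

lemma res_id_apply {C : Type u} [SmallCategory C] {J : GrothendieckTopology C} {O : Sheaf J CommRingCat.{u}}
    (P : PreM O) {W : C} (x : P.obj (op W)) : res P (𝟙 W).op x = x :=
  congr($(P.map_id (op W)) x)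

lemma sections_subsingleton_of_eq_bot {O : Sheaf (Opens.grothendieckTopology X) CommRingCat.{u}}
    (F : ModSite.Mod O) {W : Opens X} (hW : ∀ x, x ∉ W) (s t : (pre F).obj (op W)) : s = t :=
  ext_of_sieve (X := op W) (show (⊥ : Sieve W) ∈ Opens.grothendieckTopology X W from
    fun x hx => absurd hx (hW x)) fun _ _ h => h.elim

variable (i : Z ⟶ X) {O_Z : TopCat.Sheaf CommRingCat.{u} Z} {O_X : TopCat.Sheaf CommRingCat.{u} X}
  (c : O_X ⟶ ((TopologicalSpace.Opens.map i).sheafPushforwardContinuous CommRingCat.{u}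
    (Opens.grothendieckTopology X) (Opens.grothendieckTopology Z)).obj O_Z)
  (F : ModSite.Mod O_Z)

/-- The direct image. -/
noncomputable abbrev cpush : ModSite.Mod O_X :=
  (ModSite.RMor.ofFlat (TopologicalSpace.Opens.map i) c).push.obj F

theorem isFiniteType_of_push (hi : Topology.IsInducing i) [(cpush i c F).IsFiniteType] :
    F.IsFiniteType := by
  classical
  refine isFiniteType_of_genAt _ fun W => ?_
  have hloc : ∀ z ∈ W, ∃ (W' : Opens Z) (_ : W' ⟶ W), z ∈ W' ∧
      ∃ (ι : Type u) (_ : Fintype ι) (a : ι → (pre F).obj (op W')), GenAt (pre F) W' a := by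
    intro z hz
    obtain ⟨S, hS, hgen⟩ := exists_genAt_cover (cpush i c F) (⊤ : Opens X)
    obtain ⟨U, g, hg, hzU⟩ := hS (i z) trivial
    obtain ⟨ι, _, a, ha⟩ := hgen g hg
    let f := ModSite.RMor.ofFlat (TopologicalSpace.Opens.map i) c
    let k : W ⊓ (Opens.map i).obj U ⟶ (Opens.map i).obj U := homOfLE inf_le_right
    refine ⟨W ⊓ (Opens.map i).obj U, homOfLE inf_le_left, ⟨hz, hzU⟩, ι, inferInstance,
      fun j => res (pre F) k.op (ofPush f F (a j)), ?_⟩
    intro V g' s
    obtain ⟨O', hO', hO''⟩ := hi.isOpen_iff.1 V.isOpen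
    let V₀ : Opens X := ⟨O', hO'⟩ ⊓ U
    have hV₀ : (Opens.map i).obj V₀ ≤ V := fun y hy => by
      have : y ∈ (i : Z → X) ⁻¹' O' := hy.1
      rwa [hO''] at this
    have hVV₀ : V ≤ (Opens.map i).obj V₀ := fun y hy => by
      refine ⟨?_, leOfHom (g' ≫ k) hy⟩
      have : y ∈ (i : Z → X) ⁻¹' O' := by rw [hO'']; exact hy
      exact this
    obtain ⟨T, hT, hc⟩ := ha V₀ (homOfLE inf_le_right)
      (toPush f F (res (pre F) (homOfLE hV₀).op s))
    have hloc : ∀ y ∈ V, ∃ (V' : Opens Z) (v : V' ⟶ V), y ∈ V' ∧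
        ∃ d : ι → O_Z.obj.obj (op V'), res (pre F) v.op s =
          ∑ j, d j • res (pre F) (v ≫ g').op (res (pre F) k.op (ofPush f F (a j))) := by
      intro y hy
      obtain ⟨R, r, hr, hyR⟩ := hT (i y) (hVV₀ hy)
      obtain ⟨d, hd⟩ := hc r hr
      refine ⟨(Opens.map i).obj R, (Opens.map i).map r ≫ homOfLE hV₀, hyR, fun j => shp f R (d j), ?_⟩
      have h1 := congrArg (ofPush f F) hd
      rw [res_ofPush] at h1
      refine ((res_res (pre F) (homOfLE hV₀).op ((Opens.map i).map r).op s).symm.trans h1).trans ?_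
      change ∑ j, shp f R (d j) • ofPush f F (res (pre (cpush i c F)) _ (a j)) = _
      refine Finset.sum_congr rfl fun j _ => congrArg (shp f R (d j) • ·) ?_
      rw [res_res, res_ofPush]
      exact congrArg (fun q => res (pre F) q (ofPush f F (a j))) (Subsingleton.elim _ _)
    choose V' v hy' d hd using hloc
    refine ⟨Sieve.ofArrows (fun y : V => V' y.1 y.2) (fun y => v y.1 y.2),
      fun y hy => ⟨_, v y hy, Sieve.ofArrows_mk _ _ (⟨y, hy⟩ : V), hy' y hy⟩, fun Y p hp => ?_⟩
    obtain ⟨y, q, rfl⟩ := (Sieve.mem_ofArrows_iff _ _ p).1 hp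
    refine ⟨fun j => rres q.op (d y.1 y.2 j), ?_⟩
    rw [op_comp, ← res_res, hd y.1 y.2, res_lincomb]
    refine Finset.sum_congr rfl fun j _ => congrArg (rres q.op (d y.1 y.2 j) • ·) ?_
    rw [res_res (pre F) (v y.1 y.2 ≫ g').op q.op, ← op_comp, Category.assoc]
  choose W' w hzW ι hι a ha using hloc
  refine ⟨Sieve.generate (fun Y g => ∃ z : W, Y = W' z.1 z.2),
    fun z hz => ⟨_, w z hz, Sieve.le_generate _ _ _ ⟨⟨z, hz⟩, rfl⟩, hzW z hz⟩, ?_⟩
  rintro Y g ⟨Y', p, q, ⟨z, rfl⟩, -⟩
  exact ⟨ι z.1 z.2, hι z.1 z.2, _, (ha z.1 z.2).pullback p⟩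

theorem isFiniteType_push (hi : Topology.IsClosedEmbedding i) (hc : Sheaf.IsLocallySurjective c)
    [F.IsFiniteType] : (cpush i c F).IsFiniteType := by
  classical
  refine isFiniteType_of_genAt _ fun W => ?_
  let f := ModSite.RMor.ofFlat (TopologicalSpace.Opens.map i) c
  let U₀ : Opens X := ⟨(Set.range i)ᶜ, hi.isClosed_range.isOpen_compl⟩
  have hzero : ∀ (V : Opens X), V ≤ U₀ → ∀ s t : (pre (cpush i c F)).obj (op V), s = t := fun V hV s t =>
    sections_subsingleton_of_eq_bot F (W := (Opens.map i).obj V) (fun y hy => hV hy ⟨y, rfl⟩) _ _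
  have hloc : ∀ x ∈ W, ∃ (U : Opens X) (_ : U ⟶ W), x ∈ U ∧
      ∃ (ι : Type u) (_ : Fintype ι) (a : ι → (pre (cpush i c F)).obj (op U)), GenAt (pre (cpush i c F)) U a := by
    intro x hx
    by_cases hxr : x ∈ Set.range i
    · obtain ⟨z, rfl⟩ := hxr
      obtain ⟨S, hS, hgen⟩ := exists_genAt_cover F (⊤ : Opens Z)
      obtain ⟨W₁, g, hg, hzW⟩ := hS z trivial
      obtain ⟨ι, _, b, hb⟩ := hgen g hg
      obtain ⟨O', hO', hO''⟩ := hi.isInducing.isOpen_iff.1 W₁.isOpen
      let U : Opens X := W ⊓ ⟨O', hO'⟩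
      have hU : (Opens.map i).obj U ≤ W₁ := fun y hy => by
        have : y ∈ (i : Z → X) ⁻¹' O' := hy.2
        rwa [hO''] at this
      have hzU : i z ∈ U := by
        refine ⟨hx, ?_⟩
        have : z ∈ (i : Z → X) ⁻¹' O' := by rw [hO'']; exact hzW
        exact this
      refine ⟨U, homOfLE inf_le_left, hzU, ι, inferInstance,
        fun j => toPush f F (res (pre F) (homOfLE hU).op (b j)), ?_⟩
      intro V g' s
      have hloc : ∀ y ∈ V, ∃ (V' : Opens X) (v : V' ⟶ V), y ∈ V' ∧
          ∃ e : ι → O_X.obj.obj (op V'), res (pre (cpush i c F)) v.op s =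
            ∑ j, e j • res (pre (cpush i c F)) (v ≫ g').op (toPush f F (res (pre F) (homOfLE hU).op (b j))) := by
        intro y hy
        by_cases hyr : y ∈ Set.range i
        · obtain ⟨y', rfl⟩ := hyr
          let k : (Opens.map i).obj V ⟶ W₁ := homOfLE ((leOfHom ((Opens.map i).map g')).trans hU)
          obtain ⟨T, hT, hd⟩ := hb ((Opens.map i).obj V) k (ofPush f F s)
          obtain ⟨R, r, hr, hy'R⟩ := hT y' hy
          obtain ⟨O₂, hO₂, hO₂'⟩ := hi.isInducing.isOpen_iff.1 R.isOpen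
          let V₁ : Opens X := V ⊓ ⟨O₂, hO₂⟩
          have hV₁ : (Opens.map i).obj V₁ ≤ R := fun q hq => by
            have : q ∈ (i : Z → X) ⁻¹' O₂ := hq.2
            rwa [hO₂'] at this
          have hyV₁ : i y' ∈ V₁ := by
            refine ⟨hy, ?_⟩
            have : y' ∈ (i : Z → X) ⁻¹' O₂ := by rw [hO₂']; exact hy'R
            exact this
          obtain ⟨d, hd⟩ := hd r hr
          let d₁ : ι → O_Z.obj.obj (op ((Opens.map i).obj V₁)) := fun j => rres (homOfLE hV₁).op (d j)
          have hlift : ∀ j, Presheaf.imageSieve c.hom (d₁ j) ∈ Opens.grothendieckTopology X V₁ := fun j =>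
            Presheaf.imageSieve_mem (Opens.grothendieckTopology X) c.hom (U := op V₁) (d₁ j)
          have hTi : (Finset.univ.inf fun j => Presheaf.imageSieve c.hom (d₁ j)) ∈
              Opens.grothendieckTopology X V₁ :=
            Finset.inf_induction ((Opens.grothendieckTopology X).top_mem _)
              (fun _ ha _ hb => (Opens.grothendieckTopology X).intersection_covering ha hb) (fun j _ => hlift j)
          obtain ⟨V₂, v₂, hv₂, hyV₂⟩ := hTi (i y') hyV₁
          choose e he using fun j => mem_of_mem_inf hv₂ j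
          refine ⟨V₂, v₂ ≫ homOfLE inf_le_left, hyV₂, e, ?_⟩
          have h1 := congrArg (res (pre F) (homOfLE ((leOfHom ((Opens.map i).map v₂)).trans hV₁) :
            (Opens.map i).obj V₂ ⟶ R).op) hd
          rw [res_lincomb, res_res, ← op_comp] at h1
          refine Eq.trans ?_ (h1.trans ?_)
          · exact congrArg (fun q => res (pre F) q (ofPush f F s)) (Subsingleton.elim _ _)
          refine Finset.sum_congr rfl fun j _ => ?_
          refine congrArg₂ (fun a b => a • b) ?_ ?_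
          · refine Eq.trans ?_ (he j).symm
            change _ = rres ((Opens.map i).map v₂).op (d₁ j)
            rw [rres_rres]
            exact congrArg (fun q => rres q (d j)) (Subsingleton.elim _ _)
          · refine (res_res (pre F) _ _ (b j)).trans ?_
            refine Eq.trans ?_ (res_res (pre F) (homOfLE hU).op
              ((Opens.map i).map ((v₂ ≫ homOfLE inf_le_left) ≫ g')).op (b j)).symm
            exact congrArg (fun q => res (pre F) q (b j)) (Subsingleton.elim _ _)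
        · exact ⟨V ⊓ U₀, homOfLE inf_le_left, ⟨hy, hyr⟩, fun _ => 0, hzero _ inf_le_right _ _⟩
      choose V' v hy' e he using hloc
      refine ⟨Sieve.ofArrows (fun y : V => V' y.1 y.2) (fun y => v y.1 y.2),
        fun y hy => ⟨_, v y hy, Sieve.ofArrows_mk _ _ (⟨y, hy⟩ : V), hy' y hy⟩, fun Y p hp => ?_⟩
      obtain ⟨y, q, rfl⟩ := (Sieve.mem_ofArrows_iff _ _ p).1 hp
      refine ⟨fun j => rres q.op (e y.1 y.2 j), ?_⟩
      rw [op_comp, ← res_res, he y.1 y.2, res_lincomb]
      refine Finset.sum_congr rfl fun j _ => congrArg (rres q.op (e y.1 y.2 j) • ·) ?_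
      rw [res_res (pre (cpush i c F)) (v y.1 y.2 ≫ g').op q.op, ← op_comp, Category.assoc]
    · refine ⟨W ⊓ U₀, homOfLE inf_le_left, ⟨hx, hxr⟩, PEmpty, inferInstance, fun j => j.elim, ?_⟩
      intro V g s
      exact ⟨⊤, (Opens.grothendieckTopology X).top_mem _, fun V' v _ => ⟨fun j => j.elim,
        hzero _ ((leOfHom (v ≫ g)).trans inf_le_right) _ _⟩⟩
  choose U w hxU ι hι a ha using hloc
  refine ⟨Sieve.generate (fun Y g => ∃ z : W, Y = U z.1 z.2),
    fun z hz => ⟨_, w z hz, Sieve.le_generate _ _ _ ⟨⟨z, hz⟩, rfl⟩, hxU z hz⟩, ?_⟩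
  rintro Y g ⟨Y', p, q, ⟨z, rfl⟩, -⟩
  exact ⟨ι z.1 z.2, hι z.1 z.2, _, (ha z.1 z.2).pullback p⟩

end Groth.Agent.SiteMod
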