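import Groth.Agent.SiteMod.FlatStalk
import Mathlib.CategoryTheory.Sites.Point.Conservative

/-!
Flatness and a conservative family of points.
-/

universe u

open CategoryTheory CategoryTheory.Limits Opposite

namespace Groth.Agent.SiteMod

open Mod48

variable {C : Type u} [SmallCategory C] {J : GrothendieckTopology C} {O : Sheaf J CommRingCat.{u}}

theorem locFlat_of_flat_conservative (P : ObjectProperty (GrothendieckTopology.Point.{u} J))
    (hP : P.IsConservativeFamilyOfPoints) (F : ModSite.Mod O)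
    (hF : ∀ p : GrothendieckTopology.Point.{u} J, P p →
      Module.Flat (ModSite.stalkRing p O) (ModSite.stalkMod p F)) : LocFlat (pre F) := by
  intro X n f s hrel
  let good : ∀ ⦃Y : C⦄, (Y ⟶ X) → Prop := fun Y g =>
    ∃ (m : ℕ) (a : Fin n → Fin m → O.obj.obj (op Y)) (t : Fin m → (pre F).obj (op Y)),
      (∀ i, res (pre F) g.op (s i) = ∑ j, a i j • t j) ∧ ∀ j, ∑ i, rres g.op (f i) * a i j = 0
  let ι := { q : Σ Y : C, Y ⟶ X // good q.2 }
  refine ⟨Sieve.ofArrows (fun q : ι => q.1.1) (fun q : ι => q.1.2), ?_, ?_⟩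
  · rw [hP.jointly_reflect_ofArrows_mem]
    intro Φ x
    obtain ⟨Y, g, y, hy, hd⟩ := exists_data_of_flat_stalk Φ.obj F (hF Φ.obj Φ.property) x f s hrel
    exact ⟨⟨⟨Y, g⟩, hd⟩, y, hy⟩
  · rintro Z _ ⟨W, h, _, ⟨⟨⟨Y, g⟩, hd⟩⟩, rfl⟩
    exact LocTriv.data_res g h hd

end Groth.Agent.SiteMod
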