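import Groth.Agent.SiteMod.FinType

/-!
Bases of locally free modules, on sections.
-/

universe u

open CategoryTheory CategoryTheory.Limits Opposite

namespace Groth.Agent.SiteMod

open Mod48

variable {C : Type u} [SmallCategory C] {J : GrothendieckTopology C} {O : Sheaf J CommRingCat.{u}}

/-- `a` is a basis of the sections over every object above `Y`. -/
def IsBasisAt (P : PreM O) (Y : C) {ι : Type u} [Fintype ι] (a : ι → P.obj (op Y)) : Prop :=
  ∀ (W : C) (g : W ⟶ Y),
    (∀ z : P.obj (op W), ∃ c : ι → O.obj.obj (op W), z = ∑ i, c i • res P g.op (a i)) ∧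
    ∀ c : ι → O.obj.obj (op W), ∑ i, c i • res P g.op (a i) = 0 → c = 0

lemma IsBasisAt.pullback {P : PreM O} {Y : C} {ι : Type u} [Fintype ι] {a : ι → P.obj (op Y)}
    (h : IsBasisAt P Y a) {Y' : C} (k : Y' ⟶ Y) : IsBasisAt P Y' fun i => res P k.op (a i) := by
  intro W g
  obtain ⟨h1, h2⟩ := h W (g ≫ k)
  have he : ∀ i, res P g.op (res P k.op (a i)) = res P (g ≫ k).op (a i) := fun i => by
    rw [res_res, op_comp]
  simp only [he]
  exact ⟨h1, h2⟩

lemma IsBasisAt.eq {P : PreM O} {Y : C} {ι : Type u} [Fintype ι] {a : ι → P.obj (op Y)}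
    (h : IsBasisAt P Y a) {W : C} (g : W ⟶ Y) {c c' : ι → O.obj.obj (op W)}
    (he : ∑ i, c i • res P g.op (a i) = ∑ i, c' i • res P g.op (a i)) : c = c' := by
  have h0 := (h W g).2 (c - c') (by simp only [Pi.sub_apply, sub_smul, Finset.sum_sub_distrib, he, sub_self])
  exact sub_eq_zero.1 h0

section Terminal

variable {T : C} (hT : IsTerminal T)

lemma basis_of_iso {M : ModSite.Mod O} {ι : Type u} [Fintype ι] (e : M ≅ freeM (O := O) ι) :
    ∃ a : ι → (pre M).obj (op T), ∀ W : C,
      (∀ z : (pre M).obj (op W), ∃ c : ι → O.obj.obj (op W),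
        z = ∑ i, c i • res (pre M) (hT.from W).op (a i)) ∧
      ∀ c : ι → O.obj.obj (op W), ∑ i, c i • res (pre M) (hT.from W).op (a i) = 0 → c = 0 := by
  classical
  have hfree : e.inv = freeTo hT fun i => ap e.inv (gen₀ i) :=
    free_hom_ext hT fun i => (ap_freeTo_gen₀ hT (fun j => ap e.inv (gen₀ j)) i).symm
  refine ⟨fun i => ap e.inv (gen₀ i), fun W => ⟨fun z => ?_, fun c hc => ?_⟩⟩
  · refine ⟨fun i => ofU (ap (coord i) (ap e.hom z)), ?_⟩
    rw [← ap_freeTo hT, ← hfree, ← ap_comp, e.hom_inv_id]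
    rfl
  · have h1 : ap e.inv (ofCoord (O := O) c) = 0 := by
      rw [hfree, ap_freeTo_ofCoord]
      exact hc
    have h2 : ofCoord (O := O) c = 0 := by
      have h3 := congrArg (ap e.hom) h1
      rw [← ap_comp, e.inv_hom_id] at h3
      exact h3.trans (map_zero _)
    funext i
    rw [← ap_coord_ofCoord c i, h2]
    exact map_zero _

end Terminal

theorem exists_basis_of_restr_iso {F : ModSite.Mod O} {Y : C} {ι : Type u} [Fintype ι]
    (e : (ModSite.restr O Y).obj F ≅ SheafOfModules.free ι) :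
    ∃ a : ι → (pre F).obj (op Y), IsBasisAt (pre F) Y a := by
  obtain ⟨a, ha⟩ := @basis_of_iso (Over Y) _ (J.over Y) (O.over Y) (topO Y) (topO.isTerminal Y)
    ((ModSite.restr O Y).obj F) ι _ e
  refine ⟨a, fun W g => ?_⟩
  have h := ha (Over.mk g)
  simp only [res_top] at h
  exact h

theorem exists_matrix_inverse {F G : ModSite.Mod O} (φ : F ⟶ G) {Y : C} {ι : Type u} [Fintype ι]
    [DecidableEq ι] {a : ι → (pre F).obj (op Y)} {b : ι → (pre G).obj (op Y)}
    (ha : IsBasisAt (pre F) Y a) (hb : IsBasisAt (pre G) Y b)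
    (hlift : ∃ y : ι → (pre F).obj (op Y), ∀ i, ap φ (y i) = b i) {W : C} (g : W ⟶ Y)
    (z : (pre F).obj (op W)) (hz : ap φ z = 0) : z = 0 := by
  have hidF : ∀ x : (pre F).obj (op Y), res (pre F) (𝟙 Y).op x = x := fun x =>
    congr($((pre F).map_id (op Y)) x)
  have hidG : ∀ x : (pre G).obj (op Y), res (pre G) (𝟙 Y).op x = x := fun x =>
    congr($((pre G).map_id (op Y)) x)
  obtain ⟨y, hy⟩ := hlift
  choose A hA using fun j => (hb Y (𝟙 Y)).1 (ap φ (a j))
  choose B hB using fun i => (ha Y (𝟙 Y)).1 (y i)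
  simp only [hidG] at hA
  simp only [hidF] at hB
  have hexp : ∀ i, ∑ k, (∑ j, B i j * A j k) • b k = b i := fun i => by
    conv_rhs => rw [← hy i, hB i, ap_lincomb]
    simp only [hA, Finset.smul_sum, Finset.sum_smul, smul_smul]
    exact Finset.sum_comm
  have hBA : Matrix.of B * Matrix.of A = 1 := by
    ext i k
    have h1 := hb.eq (𝟙 Y) (c := fun k => ∑ j, B i j * A j k)
      (c' := fun k => (1 : Matrix ι ι (O.obj.obj (op Y))) i k) (by
        simp only [hidG]
        rw [hexp i]
        simp [Matrix.one_apply])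
    exact congrFun h1 k
  have hAB := mul_eq_one_comm.1 hBA
  obtain ⟨c, rfl⟩ := (ha W g).1 z
  have h2 : ∑ k, (∑ j, c j * rres g.op (A j k)) • res (pre G) g.op (b k) = 0 := by
    refine Eq.trans ?_ hz
    rw [ap_lincomb]
    simp only [← res_ap, hA, res_lincomb, Finset.smul_sum, Finset.sum_smul, smul_smul]
    exact Finset.sum_comm
  have hcA := (hb W g).2 _ h2
  have hc : c = 0 := by
    funext j
    have h3 : ∀ j', ∑ k, rres g.op (A j' k) * rres g.op (B k j) = if j' = j then 1 else 0 := fun j' => by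
      have h4 : ∑ k, A j' k * B k j = (1 : Matrix ι ι (O.obj.obj (op Y))) j' j := congrFun (congrFun hAB j') j
      simp only [← map_mul, ← map_sum, h4, Matrix.one_apply]
      split_ifs <;> simp
    calc c j = ∑ j', c j' * if j' = j then 1 else 0 := by simp
      _ = ∑ j', c j' * ∑ k, rres g.op (A j' k) * rres g.op (B k j) := by simp only [h3]
      _ = ∑ k, (∑ j', c j' * rres g.op (A j' k)) * rres g.op (B k j) := by
        simp only [Finset.mul_sum, Finset.sum_mul, mul_assoc]
        exact Finset.sum_comm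
      _ = 0 := by simp [fun k => congrFun hcA k]
  subst hc
  simp

end Groth.Agent.SiteMod
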