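import Groth.Agent.SiteMod.FlatCritConv
import Groth.Agent.SiteMod.Basics
import Mathlib.LinearAlgebra.DirectSum.Finsupp

/-!
Tensor products of modules freely generated on objects.
-/

universe u

open CategoryTheory CategoryTheory.Limits Opposite MonoidalCategory
open scoped TensorProduct

namespace Groth.Agent.SiteMod

open Mod48

variable {C : Type u} [SmallCategory C] {J : GrothendieckTopology C} {O : Sheaf J CommRingCat.{u}}

/-- `M` is freely generated by the section `m` over `X`. -/
def IsGen (M : ModSite.Mod O) (X : C) (m : (pre M).obj (op X)) : Prop :=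
  ∀ G : ModSite.Mod O, Function.Bijective fun φ : M ⟶ G => (fgt.map φ).app (op X) m

lemma isGen_freeOn (X : C) :
    IsGen (ModSite.freeOn O X) X (freeOnEquiv X (ModSite.freeOn O X) (𝟙 _)) := by
  intro G
  have : (fun φ : ModSite.freeOn O X ⟶ G =>
      (fgt.map φ).app (op X) (freeOnEquiv X (ModSite.freeOn O X) (𝟙 _))) = freeOnEquiv X G := by
    funext φ
    rw [← freeOnEquiv_comp, Category.id_comp]
  rw [this]
  exact Equiv.bijective _

section

variable {M : ModSite.Mod O} {X : C} {m : (pre M).obj (op X)}

/-- The map from the free presheaf sending the generator to `m`. -/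
noncomputable def genHom (M : ModSite.Mod O) (X : C) (m : (pre M).obj (op X)) : freeY X ⟶ pre M :=
  PresheafOfModules.freeYonedaEquiv.symm m

lemma genHom_mk₁ (M : ModSite.Mod O) (X : C) (m : (pre M).obj (op X)) {W : Cᵒᵖ} (g : W.unop ⟶ X) :
    (genHom M X m).app W (mk₁ g) = res (pre M) g.op m :=
  (ModuleCat.freeDesc_apply _ _).trans rfl

lemma isIso_shf_map_genHom (hm : IsGen M X m) : IsIso (shf.map (genHom M X m)) := by
  have hq : IsIso ((shfHomEquiv (freeY X) M).symm (genHom M X m)) := by
    refine (isIso_iff_coyoneda_map_bijective _).2 fun G => ?_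
    refine (Function.Bijective.of_comp_iff' (shfFreeYEquiv X G).bijective _).1 ?_
    have : ((shfFreeYEquiv X G) ∘ fun φ : M ⟶ G =>
        (shfHomEquiv (freeY X) M).symm (genHom M X m) ≫ φ) =
          fun φ : M ⟶ G => (fgt.map φ).app (op X) m := by
      funext φ
      rw [Function.comp_apply, shfFreeYEquiv_comp]
      refine congrArg ((fgt.map φ).app (op X)) ?_
      change PresheafOfModules.freeYonedaEquiv
        (shfHomEquiv (freeY X) M ((shfHomEquiv (freeY X) M).symm (genHom M X m))) = m
      rw [Equiv.apply_symm_apply]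
      exact Equiv.apply_symm_apply _ m
    rw [this]
    exact hm G
  rw [Adjunction.homEquiv_counit] at hq
  exact IsIso.of_isIso_comp_right _ (shfAdj.counit.app M)

end

section Pair

variable (X Y : C)

/-- Pairs of arrows into `X` and `Y`. -/
def prodT : Cᵒᵖ ⥤ Type u where
  obj W := (W.unop ⟶ X) × (W.unop ⟶ Y)
  map h := ↾fun p => (h.unop ≫ p.1, h.unop ≫ p.2)
  map_id W := by
    ext p
    all_goals simp
  map_comp h h' := by
    ext p
    all_goals simp

/-- The free module on pairs of arrows, mapped to the tensor product of free modules. -/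
noncomputable def pairHom :
    (PresheafOfModules.free (O.obj ⋙ forget₂ CommRingCat.{u} RingCat.{u})).obj (prodT X Y) ⟶
      freeY (O := O) X ⊗ freeY Y :=
  PresheafOfModules.freeHomEquiv.symm
    { app := fun W => ↾fun p => (tp (mk₁ p.1) (mk₁ p.2) : (freeY (O := O) X ⊗ freeY Y).obj W)
      naturality := fun W W' h => by
        ext p
        refine Eq.trans ?_ (res_tp h (mk₁ (O := O) p.1) (mk₁ (O := O) p.2)).symm
        rw [res_mk₁, res_mk₁]
        rfl }

lemma bijective_pairHom (W : Cᵒᵖ) : Function.Bijective ((pairHom (O := O) X Y).app W) := by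
  let R := O.obj.obj W
  let e := (finsuppTensorFinsupp' R (W.unop ⟶ X) (W.unop ⟶ Y)).symm
  have h : ∀ z, (pairHom (O := O) X Y).app W z = e z := by
    intro z
    refine LinearMap.congr_fun (f := ((pairHom (O := O) X Y).app W).hom)
      (g := (show ((W.unop ⟶ X) × (W.unop ⟶ Y) →₀ R) →ₗ[R] _ from e.toLinearMap)) ?_ z
    refine Finsupp.lhom_ext' fun p => LinearMap.ext_ring ?_
    refine Eq.trans (ModuleCat.freeDesc_apply _ p) ?_
    exact (finsuppTensorFinsupp'_symm_single_eq_single_one_tmul R (W.unop ⟶ X) (W.unop ⟶ Y) p 1).symm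
  refine ⟨fun a b hab => e.injective ((h a).symm.trans (hab.trans (h b))), fun z => ?_⟩
  obtain ⟨a, ha⟩ := e.surjective z
  exact ⟨a, (h a).trans ha⟩

lemma isIso_pairHom : IsIso (pairHom (O := O) X Y) := by
  have : ∀ W, IsIso ((pairHom (O := O) X Y).app W) := fun W =>
    (ConcreteCategory.isIso_iff_bijective _).2 (bijective_pairHom X Y W)
  exact ⟨⟨(PresheafOfModules.isoMk (fun W => asIso ((pairHom (O := O) X Y).app W))
      (fun W W' h => (pairHom (O := O) X Y).naturality h)).inv,
    Iso.hom_inv_id (PresheafOfModules.isoMk (fun W => asIso ((pairHom (O := O) X Y).app W))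
      (fun W W' h => (pairHom (O := O) X Y).naturality h)),
    Iso.inv_hom_id (PresheafOfModules.isoMk (fun W => asIso ((pairHom (O := O) X Y).app W))
      (fun W W' h => (pairHom (O := O) X Y).naturality h))⟩⟩

variable {X Y}

/-- The values of a map out of a tensor product on products of translates of two sections. -/
noncomputable def pairVal (M N : ModSite.Mod O) (m : (pre M).obj (op X)) (n : (pre N).obj (op Y))
    (G : ModSite.Mod O) (φ : tens M N ⟶ G) : prodT X Y ⟶ (pre G).presheaf ⋙ forget AddCommGrpCat where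
  app W := ↾fun p => (shfHomEquiv _ G φ).app W (tp (res (pre M) p.1.op m) (res (pre N) p.2.op n))
  naturality W W' h := by
    ext p
    refine Eq.trans ?_ (app_res (shfHomEquiv _ G φ) h _)
    rw [res_tp, res_res, res_res]
    rfl

lemma bijective_pairVal {M N : ModSite.Mod O} {m : (pre M).obj (op X)} {n : (pre N).obj (op Y)}
    (hm : IsGen M X m) (hn : IsGen N Y n) (G : ModSite.Mod O) :
    Function.Bijective (pairVal M N m n G) := by
  have := isIso_shf_map_genHom hm
  have := isIso_shf_map_genHom hn
  have := isIso_shf_map_tensorHom (genHom M X m) (genHom N Y n)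
  have := isIso_pairHom (O := O) X Y
  let e := ((asIso (shf.map (genHom M X m ⊗ₘ genHom N Y n))).homFromEquiv (Z := G)).symm.trans
    ((shfHomEquiv _ G).trans
      (((asIso (pairHom (O := O) X Y)).homFromEquiv (Z := pre G)).symm.trans PresheafOfModules.freeHomEquiv))
  have he : pairVal M N m n G = e := by
    funext φ
    ext W p
    have h1 : shfHomEquiv _ G (shf.map (genHom M X m ⊗ₘ genHom N Y n) ≫ φ) =
        (genHom M X m ⊗ₘ genHom N Y n) ≫ shfHomEquiv _ G φ :=
      shfHomEquiv_naturality_left _ _
    change _ = (pairHom (O := O) X Y ≫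
      shfHomEquiv _ G (shf.map (genHom M X m ⊗ₘ genHom N Y n) ≫ φ)).app W (ModuleCat.freeMk p)
    rw [h1]
    have h2 : (pairHom (O := O) X Y).app W (ModuleCat.freeMk p) = tp (mk₁ p.1) (mk₁ p.2) :=
      ModuleCat.freeDesc_apply _ p
    refine Eq.trans ?_ (congrArg (fun z => (shfHomEquiv _ G φ).app W ((genHom M X m ⊗ₘ genHom N Y n).app W z)) h2).symm
    refine congrArg ((shfHomEquiv _ G φ).app W) ?_
    exact (congrArg₂ (fun a b => tp a b) (genHom_mk₁ M X m p.1) (genHom_mk₁ N Y n p.2)).symm
  rw [he]
  exact e.bijective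

end Pair

end Groth.Agent.SiteMod
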