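import Groth.Agent.SiteMod.LocPres
import Groth.Agent.SiteMod.GenTensor
import Groth.Agent.SiteMod.SheafHomRestr

/-!
Evaluation of sections of the internal hom on generators of a presentation.
-/

universe u

open CategoryTheory CategoryTheory.Limits Opposite MonoidalCategory

namespace Groth.Agent.SiteMod

open Mod48

variable {C : Type u} [SmallCategory C] {J : GrothendieckTopology C} {O : Sheaf J CommRingCat.{u}}
  (F : ModSite.Mod O) [ModSite.HasSheafHom F] (N : ModSite.Mod O)

/-- Evaluation on presheaves. -/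
noncomputable def evp : pre ((ModSite.sheafHom F).obj N) ⊗ pre F ⟶ pre N :=
  shfHomEquiv _ N ((homAdj F).counit.app N)

/-- The value of a section of the internal hom on a section. -/
noncomputable abbrev evAt {W : C} (s : (pre ((ModSite.sheafHom F).obj N)).obj (op W))
    (x : (pre F).obj (op W)) : (pre N).obj (op W) :=
  (evp F N).app (op W) (tp s x)

lemma res_evAt {W W' : C} (g : W' ⟶ W) (s : (pre ((ModSite.sheafHom F).obj N)).obj (op W))
    (x : (pre F).obj (op W)) :
    res (pre N) g.op (evAt F N s x) =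
      evAt F N (res (pre ((ModSite.sheafHom F).obj N)) g.op s) (res (pre F) g.op x) :=
  (app_res (evp F N) g.op (tp s x)).symm.trans (congrArg _ (map_tp g.op s x))

/-- A section of the internal hom as a map of presheaves. -/
noncomputable def homOfSect (W : C) (s : (pre ((ModSite.sheafHom F).obj N)).obj (op W)) :
    freeY (O := O) W ⊗ pre F ⟶ pre N :=
  genHom ((ModSite.sheafHom F).obj N) W s ▷ pre F ≫ evp F N

lemma homOfSect_tp (W : C) (s : (pre ((ModSite.sheafHom F).obj N)).obj (op W)) {V : C} (g : V ⟶ W)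
    (x : (pre F).obj (op V)) :
    (homOfSect F N W s).app (op V) (tp (mk₁ (W := op V) g) x) =
      evAt F N (res (pre ((ModSite.sheafHom F).obj N)) g.op s) x :=
  congrArg (fun z => (evp F N).app (op V) (tp z x)) (genHom_mk₁ _ W s g)

lemma genHom_shfFreeYEquiv (M : ModSite.Mod O) (W : C) (α : shf.obj (freeY (O := O) W) ⟶ M) :
    genHom M W (shfFreeYEquiv W M α) = shfU (freeY (O := O) W) ≫ fgt.map α := by
  unfold genHom shfFreeYEquiv
  rw [Equiv.trans_apply, Equiv.symm_apply_apply, shfHomEquiv, Adjunction.homEquiv_unit]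

/-- The bijection behind `homOfSect`, one step. -/
noncomputable abbrev homOfMap (W : C) (α : shf.obj (freeY (O := O) W) ⟶ (ModSite.sheafHom F).obj N) :
    tens (shf.obj (freeY (O := O) W)) F ⟶ N :=
  ((homAdj F).homEquiv (shf.obj (freeY (O := O) W)) N).symm α

lemma homOfSect_shfFreeYEquiv (W : C) (α : shf.obj (freeY (O := O) W) ⟶ (ModSite.sheafHom F).obj N) :
    homOfSect F N W (shfFreeYEquiv W _ α) =
      shfHomEquiv _ N (shf.map (shfU (freeY (O := O) W) ▷ pre F) ≫ homOfMap F N W α) := by
  have h1 : homOfMap F N W α = shf.map (fgt.map α ▷ pre F) ≫ (homAdj F).counit.app N :=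
    Adjunction.homEquiv_counit _ _ _ α
  rw [shfHomEquiv_naturality_left, h1, shfHomEquiv_naturality_left, ← Category.assoc,
    ← MonoidalCategory.comp_whiskerRight, homOfSect, genHom_shfFreeYEquiv]
  rfl

lemma bijective_homOfSect (W : C) : Function.Bijective (homOfSect F N W) := by
  have hiso := isIso_shf_map_whiskerRight (shfU (freeY (O := O) W)) (pre F)
  refine (Function.Bijective.of_comp_iff (homOfSect F N W)
    (shfFreeYEquiv W ((ModSite.sheafHom F).obj N)).bijective).1 ?_
  have h : homOfSect F N W ∘ shfFreeYEquiv W ((ModSite.sheafHom F).obj N) =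
      (shfHomEquiv _ N) ∘ (fun β : tens (shf.obj (freeY (O := O) W)) F ⟶ N =>
        shf.map (shfU (freeY (O := O) W) ▷ pre F) ≫ β) ∘ homOfMap F N W :=
    funext (homOfSect_shfFreeYEquiv F N W)
  rw [h]
  refine (shfHomEquiv _ N).bijective.comp (Function.Bijective.comp ?_
    ((homAdj F).homEquiv (shf.obj (freeY (O := O) W)) N).symm.bijective)
  exact (isIso_iff_coyoneda_map_bijective _).1 hiso N

lemma freeY_induction {W : C} {V : Cᵒᵖ} {p : (freeY (O := O) W).obj V → Prop} (h0 : p 0)
    (hadd : ∀ a b, p a → p b → p (a + b)) (hs : ∀ (r : O.obj.obj V) (g : V.unop ⟶ W), p (r • mk₁ g))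
    (z : (freeY (O := O) W).obj V) : p z := by
  induction (show (V.unop ⟶ W) →₀ O.obj.obj V from z) using Finsupp.induction_linear with
  | zero => exact h0
  | add a b ha hb => exact hadd a b ha hb
  | single g r =>
    rw [← Finsupp.smul_single_one]
    exact hs r g

variable {F N}

/-- Sections of the internal hom are determined by the values on generators. -/
theorem hom_sect_ext {W : C} {ι : Type u} [Fintype ι] {a : ι → (pre F).obj (op W)}
    (hgen : GenAt (pre F) W a) {s s' : (pre ((ModSite.sheafHom F).obj N)).obj (op W)}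
    (h : ∀ i, evAt F N s (a i) = evAt F N s' (a i)) : s = s' := by
  apply (bijective_homOfSect F N W).1
  refine tensor_hom_ext fun V κ x => ?_
  induction κ using freeY_induction with
  | h0 => exact (congrArg _ (TensorProduct.zero_tmul _ x)).trans ((map_zero _).trans
      ((map_zero _).symm.trans (congrArg _ (TensorProduct.zero_tmul _ x).symm)))
  | hadd a b ha hb => rw [tp_add_left, map_add, map_add, ha, hb]
  | hs r g =>
    rw [tp_smul_left, map_smul, map_smul]
    refine congrArg (r • ·) ?_
    refine (homOfSect_tp F N W s g x).trans (Eq.trans ?_ (homOfSect_tp F N W s' g x).symm)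
    obtain ⟨S, hS, hc⟩ := hgen V.unop g x
    refine ext_of_sieve hS fun V' v hv => ?_
    obtain ⟨c, hc⟩ := hc v hv
    rw [res_evAt, res_evAt, hc, res_res, res_res]
    have hsum : ∀ t : (pre ((ModSite.sheafHom F).obj N)).obj (op W),
        evAt F N (res (pre ((ModSite.sheafHom F).obj N)) (g.op ≫ v.op) t)
            (∑ i, c i • res (pre F) (v ≫ g).op (a i)) =
          ∑ i, c i • res (pre N) (v ≫ g).op (evAt F N t (a i)) := fun t => by
      refine (congrArg ((evp F N).app (op V')) (TensorProduct.tmul_sum _ _ _)).trans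
        ((map_sum _ _ _).trans (Finset.sum_congr rfl fun i _ => ?_))
      refine (congrArg ((evp F N).app (op V')) (tp_smul_right _ _ _)).trans
        ((map_smul _ _ _).trans (congrArg (c i • ·) ?_))
      rw [res_evAt, op_comp]
    rw [hsum, hsum]
    exact Finset.sum_congr rfl fun i _ => by rw [h i]

section Exists

variable {W : C}

/-- The value of a map of restrictions along an arrow to `W`. -/
noncomputable def rv (ψ : (preR W).obj (pre F) ⟶ (preR W).obj (pre N)) {V : Cᵒᵖ} (g : V.unop ⟶ W)
    (x : (pre F).obj V) : (pre N).obj V :=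
  ψ.app (op (Over.mk g)) x

lemma rv_add (ψ : (preR W).obj (pre F) ⟶ (preR W).obj (pre N)) {V : Cᵒᵖ} (g : V.unop ⟶ W)
    (x x' : (pre F).obj V) : rv ψ g (x + x') = rv ψ g x + rv ψ g x' :=
  (ψ.app (op (Over.mk g))).hom.map_add x x'

lemma rv_smul (ψ : (preR W).obj (pre F) ⟶ (preR W).obj (pre N)) {V : Cᵒᵖ} (g : V.unop ⟶ W)
    (r : O.obj.obj V) (x : (pre F).obj V) : rv ψ g (r • x) = r • rv ψ g x :=
  (ψ.app (op (Over.mk g))).hom.map_smul r x

lemma rv_res (ψ : (preR W).obj (pre F) ⟶ (preR W).obj (pre N)) {V V' : Cᵒᵖ} (h : V ⟶ V')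
    (g : V.unop ⟶ W) (x : (pre F).obj V) :
    rv ψ (h.unop ≫ g) (res (pre F) h x) = res (pre N) h (rv ψ g x) :=
  app_res ψ (Over.homMk h.unop : Over.mk (h.unop ≫ g) ⟶ Over.mk g).op x

/-- The linear extension of `rv`. -/
noncomputable def rvL (ψ : (preR W).obj (pre F) ⟶ (preR W).obj (pre N)) {V : Cᵒᵖ} (x : (pre F).obj V) :
    (freeY (O := O) W).obj V →ₗ[O.obj.obj V] (pre N).obj V :=
  (Finsupp.linearCombination (O.obj.obj V) (fun g : V.unop ⟶ W => rv ψ g x) :
    ((V.unop ⟶ W) →₀ O.obj.obj V) →ₗ[O.obj.obj V] _)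

lemma rvL_mk₁ (ψ : (preR W).obj (pre F) ⟶ (preR W).obj (pre N)) {V : Cᵒᵖ} (x : (pre F).obj V)
    (g : V.unop ⟶ W) : rvL ψ x (mk₁ g) = rv ψ g x :=
  (Finsupp.linearCombination_single _ _ _).trans (one_smul _ _)

/-- The map out of a tensor product given by a map of restrictions. -/
noncomputable def ofRestr (ψ : (preR W).obj (pre F) ⟶ (preR W).obj (pre N)) :
    freeY (O := O) W ⊗ pre F ⟶ pre N where
  app V := ModuleCat.MonoidalCategory.tensorLift (fun κ x => rvL ψ x κ)
    (fun κ κ' x => map_add _ κ κ') (fun r κ x => map_smul _ r κ)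
    (fun κ x x' => by
      induction κ using freeY_induction with
      | h0 => rw [map_zero, map_zero, map_zero, add_zero]
      | hadd a b ha hb => rw [map_add, map_add, map_add, ha, hb]; abel
      | hs r g => rw [map_smul, map_smul, map_smul, rvL_mk₁, rvL_mk₁, rvL_mk₁, rv_add, smul_add])
    (fun r κ x => by
      induction κ using freeY_induction with
      | h0 => rw [map_zero, map_zero, smul_zero]
      | hadd a b ha hb => rw [map_add, map_add, ha, hb, smul_add]
      | hs r' g => rw [map_smul, map_smul, rvL_mk₁, rvL_mk₁, rv_smul, smul_comm])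
  naturality {V V'} h := by
    refine ModuleCat.MonoidalCategory.tensor_ext fun κ x => ?_
    change rvL ψ (res (pre F) h x) (res (freeY (O := O) W) h κ) = res (pre N) h (rvL ψ x κ)
    induction κ using freeY_induction with
    | h0 => rw [res_zero, map_zero, map_zero, res_zero]
    | hadd a b ha hb => rw [res_add, map_add, map_add, res_add, ha, hb]
    | hs r g => rw [res_smul, map_smul, map_smul, res_smul, res_mk₁, rvL_mk₁, rvL_mk₁, rv_res]

/-- A map of restrictions is evaluation at a section of the internal hom. -/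
theorem exists_sect_of_hom
    (ψ : (ModSite.restr O W).obj F ⟶ (ModSite.restr O W).obj N) :
    ∃ s : (pre ((ModSite.sheafHom F).obj N)).obj (op W),
      ∀ x, evAt F N s x = ap ψ (W := topO W) x := by
  obtain ⟨s, hs⟩ := (bijective_homOfSect F N W).2 (ofRestr (fgt.map ψ))
  refine ⟨s, fun x => ?_⟩
  have h := congrArg (fun z => z.app (op W) (tp (mk₁ (W := op W) (𝟙 W)) x)) hs
  refine Eq.trans ?_ ((Eq.trans (homOfSect_tp F N W s (𝟙 W) x).symm h).trans ?_)
  · exact congrArg (fun z => evAt F N z x)
      (congr($((pre ((ModSite.sheafHom F).obj N)).map_id (op W)) s)).symm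
  · exact rvL_mk₁ (fgt.map ψ) (V := op W) x (𝟙 W)

end Exists

end Groth.Agent.SiteMod
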