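import Groth.Agent.SiteMod.PullRel

/-!
A presheaf of modules whose sheafification is the inverse image.
-/

universe u

open CategoryTheory CategoryTheory.Limits Opposite

namespace Groth.Agent.SiteMod

open Mod48

variable {C D : Type u} [SmallCategory C] [SmallCategory D] {J : GrothendieckTopology C}
  {K : GrothendieckTopology D} {O_C : Sheaf J CommRingCat.{u}} {O_D : Sheaf K CommRingCat.{u}}
  (f : ModSite.RMor O_C O_D) (P : PreM O_D)

/-- A pulled back section over `V`. -/
structure Trip (V : C) : Type u where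
  /-- The object. -/
  X : D
  /-- The arrow. -/
  g : V ⟶ f.fn.obj X
  /-- The section. -/
  m : P.obj (op X)

/-- Restriction of a pulled back section. -/
def Trip.res {V V' : C} (v : V' ⟶ V) (t : Trip f P V) : Trip f P V' := ⟨t.X, v ≫ t.g, t.m⟩

lemma Trip.res_id {V : C} (t : Trip f P V) : t.res f P (𝟙 V) = t := by
  obtain ⟨X, g, m⟩ := t
  simp [Trip.res]

lemma Trip.res_res {V V' V'' : C} (v : V' ⟶ V) (w : V'' ⟶ V') (t : Trip f P V) :
    (t.res f P v).res f P w = t.res f P (w ≫ v) := by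
  obtain ⟨X, g, m⟩ := t
  simp [Trip.res, Category.assoc]

/-- Formal sums of pulled back sections. -/
abbrev Sums (V : C) : Type u := Trip f P V →₀ O_C.obj.obj (op V)

/-- Restriction of formal sums. -/
noncomputable def sumsRes {V V' : C} (v : V' ⟶ V) : Sums f P V →+ Sums f P V' :=
  (Finsupp.mapDomain.addMonoidHom (Trip.res f P v)).comp
    (Finsupp.mapRange.addMonoidHom (rres (O := O_C) v.op).toAddMonoidHom)

lemma sumsRes_single {V V' : C} (v : V' ⟶ V) (t : Trip f P V) (b : O_C.obj.obj (op V)) :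
    sumsRes f P v (Finsupp.single t b) = Finsupp.single (t.res f P v) (rres v.op b) := by
  simp [sumsRes]

lemma sumsRes_smul {V V' : C} (v : V' ⟶ V) (r : O_C.obj.obj (op V)) (ξ : Sums f P V) :
    sumsRes f P v (r • ξ) = rres v.op r • sumsRes f P v ξ := by
  induction ξ using Finsupp.induction_linear with
  | zero => simp
  | add a b ha hb => rw [smul_add, map_add, map_add, ha, hb, smul_add]
  | single q b =>
    rw [Finsupp.smul_single, sumsRes_single, sumsRes_single, Finsupp.smul_single, smul_eq_mul,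
      smul_eq_mul, map_mul]

lemma sumsRes_sumsRes {V V' V'' : C} (v : V' ⟶ V) (w : V'' ⟶ V') (ξ : Sums f P V) :
    sumsRes f P w (sumsRes f P v ξ) = sumsRes f P (w ≫ v) ξ := by
  induction ξ using Finsupp.induction_linear with
  | zero => simp
  | add a b ha hb => rw [map_add, map_add, map_add, ha, hb]
  | single q b =>
    rw [sumsRes_single, sumsRes_single, sumsRes_single, Trip.res_res, rres_rres, op_comp]

lemma sumsRes_id {V : C} (ξ : Sums f P V) : sumsRes f P (𝟙 V) ξ = ξ := by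
  induction ξ using Finsupp.induction_linear with
  | zero => simp
  | add a b ha hb => rw [map_add, ha, hb]
  | single q b =>
    rw [sumsRes_single, Trip.res_id, op_id]
    exact congrArg _ (congr($(O_C.obj.map_id (op V)).hom b))

/-- A formal sum vanishing in a chart. -/
def VanAt {V : C} (ξ : Sums f P V) : Prop :=
  ∃ (X : D) (g : V ⟶ f.fn.obj X) (n : ℕ) (t : Fin n → Trip f P V) (b : Fin n → O_C.obj.obj (op V))
    (h : ∀ j, X ⟶ (t j).X), (∀ j, (t j).g = g ≫ f.fn.map (h j)) ∧ ξ = ∑ j, Finsupp.single (t j) (b j) ∧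
      ∑ j, Finsupp.single (Mod48.res P (h j).op (t j).m) (b j) ∈ rels f P g

variable {f P}

lemma VanAt.sumsRes {V V' : C} {ξ : Sums f P V} (hξ : VanAt f P ξ) (v : V' ⟶ V) :
    VanAt f P (sumsRes f P v ξ) := by
  obtain ⟨X, g, n, t, b, h, e, hsum, hmem⟩ := hξ
  refine ⟨X, v ≫ g, n, fun j => (t j).res f P v, fun j => rres v.op (b j), h, fun j => ?_, ?_, ?_⟩
  · change v ≫ (t j).g = (v ≫ g) ≫ f.fn.map (h j)
    rw [e j, Category.assoc]
  · rw [hsum, map_sum]
    simp [sumsRes_single]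
  · have h1 := combRes_mem f P (g' := v ≫ g) (v := v) (k := 𝟙 X) (by simp) hmem
    rw [map_sum] at h1
    simp only [combRes_single] at h1
    convert h1 using 2 with j
    rw [res_res]
    congr 1
    rw [op_id, Category.comp_id]
    rfl

lemma VanAt.smul {V : C} {ξ : Sums f P V} (hξ : VanAt f P ξ) (r : O_C.obj.obj (op V)) :
    VanAt f P (r • ξ) := by
  obtain ⟨X, g, n, t, b, h, e, hsum, hmem⟩ := hξ
  refine ⟨X, g, n, t, fun j => r * b j, h, e, ?_, ?_⟩
  · rw [hsum, Finset.smul_sum]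
    simp
  · have h1 := Submodule.smul_mem _ r hmem
    rw [Finset.smul_sum] at h1
    simpa using h1

variable (f P)

/-- A formal sum vanishing locally in charts. -/
def Van {V : C} (ξ : Sums f P V) : Prop :=
  ∃ S ∈ J V, ∀ ⦃V' : C⦄ (v : V' ⟶ V), S v → VanAt f P (sumsRes f P v ξ)

variable {f P}

lemma van_of_vanAt {V : C} {ξ : Sums f P V} (hξ : VanAt f P ξ) : Van f P ξ :=
  ⟨⊤, J.top_mem V, fun _ v _ => hξ.sumsRes v⟩

lemma van_of_local {V : C} {ξ : Sums f P V} {S : Sieve V} (hS : S ∈ J V)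
    (h : ∀ ⦃V' : C⦄ (v : V' ⟶ V), S v → Van f P (sumsRes f P v ξ)) : Van f P ξ := by
  choose T hT hv using h
  refine ⟨Sieve.bind S.1 fun V' v hv => T v hv, J.bind_covering hS fun V' v hv => hT v hv, ?_⟩
  rintro V'' _ ⟨V', w, v, hvS, hwT, rfl⟩
  have := hv v hvS w hwT
  rwa [sumsRes_sumsRes] at this

lemma Van.sumsRes {V V' : C} {ξ : Sums f P V} (hξ : Van f P ξ) (v : V' ⟶ V) :
    Van f P (sumsRes f P v ξ) := by
  obtain ⟨S, hS, h⟩ := hξ
  refine ⟨S.pullback v, J.pullback_stable v hS, fun V'' w hw => ?_⟩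
  rw [sumsRes_sumsRes]
  exact h _ hw

lemma van_zero {V : C} : Van f P (0 : Sums f P V) := by
  refine ⟨chartSieve f.fn V, chartSieve_mem J K f.fn V, fun V' v hv => ?_⟩
  obtain ⟨X, ⟨g⟩⟩ := hv
  refine ⟨X, g, 0, fun j => j.elim0, fun j => j.elim0, fun j => j.elim0, fun j => j.elim0, by simp, ?_⟩
  simp

lemma VanAt.add {V : C} {ξ ξ' : Sums f P V} (h₁ : VanAt f P ξ) (h₂ : VanAt f P ξ') :
    Van f P (ξ + ξ') := by
  obtain ⟨X₁, g₁, n₁, t₁, b₁, k₁, e₁, hs₁, hm₁⟩ := h₁
  obtain ⟨X₂, g₂, n₂, t₂, b₂, k₂, e₂, hs₂, hm₂⟩ := h₂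
  refine ⟨pairSieve f.fn g₁ g₂, pairSieve_mem J K f.fn g₁ g₂, fun V' v hv => ?_⟩
  obtain ⟨X, g, p₁, p₂, q₁, q₂⟩ := hv
  let t : Fin (n₁ + n₂) → Trip f P V' :=
    Fin.append (fun j => (t₁ j).res f P v) (fun j => (t₂ j).res f P v)
  let b : Fin (n₁ + n₂) → O_C.obj.obj (op V') :=
    Fin.append (fun j => rres v.op (b₁ j)) (fun j => rres v.op (b₂ j))
  have hh : ∀ j : Fin (n₁ + n₂), ∃ h : X ⟶ (t j).X, (t j).g = g ≫ f.fn.map h ∧
      Fin.append (fun j => Mod48.res P p₁.op (Mod48.res P (k₁ j).op (t₁ j).m))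
        (fun j => Mod48.res P p₂.op (Mod48.res P (k₂ j).op (t₂ j).m)) j = Mod48.res P h.op (t j).m := by
    intro j
    refine Fin.addCases (fun j => ?_) (fun j => ?_) j
    · rw [show t (Fin.castAdd n₂ j) = (t₁ j).res f P v from Fin.append_left _ _ j, Fin.append_left]
      refine ⟨p₁ ≫ k₁ j, ?_, ?_⟩
      · change v ≫ (t₁ j).g = _
        rw [e₁ j, ← Category.assoc, q₁, Category.assoc, f.fn.map_comp]
        rfl
      · rw [res_res]; rfl
    · rw [show t (Fin.natAdd n₁ j) = (t₂ j).res f P v from Fin.append_right _ _ j, Fin.append_right]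
      refine ⟨p₂ ≫ k₂ j, ?_, ?_⟩
      · change v ≫ (t₂ j).g = _
        rw [e₂ j, ← Category.assoc, q₂, Category.assoc, f.fn.map_comp]
        rfl
      · rw [res_res]; rfl
  choose h hg hm using hh
  refine ⟨X, g, n₁ + n₂, t, b, h, hg, ?_, ?_⟩
  · rw [map_add, hs₁, hs₂, map_sum, map_sum, Fin.sum_univ_add]
    simp [t, b, sumsRes_single]
  · have h1 := Submodule.add_mem _ (combRes_mem f P q₁ hm₁) (combRes_mem f P q₂ hm₂)
    rw [map_sum, map_sum] at h1
    simp only [combRes_single] at h1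
    simp only [← hm]
    rw [Fin.sum_univ_add]
    simpa [b] using h1

variable (f P)

/-- The locally vanishing formal sums. -/
noncomputable def vanSub (V : C) : Submodule (O_C.obj.obj (op V)) (Sums f P V) where
  carrier := {ξ | Van f P ξ}
  zero_mem' := van_zero
  add_mem' := by
    rintro ξ ξ' ⟨S, hS, h⟩ ⟨S', hS', h'⟩
    refine van_of_local (J.intersection_covering hS hS') fun V' v hv => ?_
    rw [map_add]
    exact (h v hv.1).add (h' v hv.2)
  smul_mem' := by
    rintro r ξ ⟨S, hS, h⟩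
    refine ⟨S, hS, fun V' v hv => ?_⟩
    rw [sumsRes_smul]
    exact (h v hv).smul _

/-- The model of the inverse image. -/
abbrev Quo (V : C) : Type u := Sums f P V ⧸ vanSub f P V

/-- Restriction in the model. -/
noncomputable def quoRes {V V' : C} (v : V' ⟶ V) : Quo f P V →+ Quo f P V' :=
  QuotientAddGroup.map (vanSub f P V).toAddSubgroup (vanSub f P V').toAddSubgroup (sumsRes f P v)
    fun _ hξ => Van.sumsRes hξ v

lemma quoRes_mk {V V' : C} (v : V' ⟶ V) (ξ : Sums f P V) :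
    quoRes f P v (Submodule.Quotient.mk ξ) = Submodule.Quotient.mk (sumsRes f P v ξ) := rfl

lemma quoRes_smul {V V' : C} (v : V' ⟶ V) (r : O_C.obj.obj (op V)) (x : Quo f P V) :
    quoRes f P v (r • x) = rres v.op r • quoRes f P v x := by
  obtain ⟨ξ, rfl⟩ := Submodule.Quotient.mk_surjective _ x
  rw [← Submodule.Quotient.mk_smul, quoRes_mk, sumsRes_smul, quoRes_mk, Submodule.Quotient.mk_smul]

/-- The model, as a presheaf of modules. -/
noncomputable def pullModel : PreM O_C where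
  obj V := ModuleCat.of (O_C.obj.obj V) (Quo f P V.unop)
  map {V V'} v := ModuleCat.ofHom
    (Y := (ModuleCat.restrictScalars ((O_C.obj ⋙ forget₂ CommRingCat.{u} RingCat.{u}).map v).hom).obj
      (ModuleCat.of (O_C.obj.obj V') (Quo f P V'.unop)))
    { toFun := quoRes f P v.unop
      map_add' := map_add _
      map_smul' := fun r x => quoRes_smul f P v.unop r x }
  map_id V := by
    refine ModuleCat.hom_ext (LinearMap.ext fun x => ?_)
    obtain ⟨ξ, rfl⟩ := Submodule.Quotient.mk_surjective _ x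
    exact (quoRes_mk f P _ ξ).trans (congrArg _ (sumsRes_id f P ξ))
  map_comp {V V' V''} v w := by
    refine ModuleCat.hom_ext (LinearMap.ext fun x => ?_)
    obtain ⟨ξ, rfl⟩ := Submodule.Quotient.mk_surjective _ x
    exact congrArg Submodule.Quotient.mk (sumsRes_sumsRes f P v.unop w.unop ξ).symm

/-- The class of a formal sum. -/
noncomputable def cls {V : C} : Sums f P V →ₗ[O_C.obj.obj (op V)] (pullModel f P).obj (op V) :=
  (vanSub f P V).mkQ

lemma cls_surjective {V : C} : Function.Surjective (cls f P (V := V)) :=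
  Submodule.Quotient.mk_surjective _

lemma cls_eq_zero {V : C} {ξ : Sums f P V} : cls f P ξ = 0 ↔ Van f P ξ :=
  Submodule.Quotient.mk_eq_zero _

lemma res_cls {V V' : C} (v : V' ⟶ V) (ξ : Sums f P V) :
    Mod48.res (pullModel f P) v.op (cls f P ξ) = cls f P (sumsRes f P v ξ) := rfl

/-- The class of a pulled back section. -/
noncomputable def sect₁ {V : C} {X : D} (g : V ⟶ f.fn.obj X) (m : P.obj (op X)) :
    (pullModel f P).obj (op V) :=
  cls f P (Finsupp.single ⟨X, g, m⟩ 1)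

lemma cls_single {V : C} (t : Trip f P V) (b : O_C.obj.obj (op V)) :
    cls f P (Finsupp.single t b) = b • sect₁ f P t.g t.m := by
  rw [sect₁, ← map_smul, Finsupp.smul_single, smul_eq_mul, mul_one]

lemma res_sect₁ {V V' : C} (v : V' ⟶ V) {X : D} (g : V ⟶ f.fn.obj X) (m : P.obj (op X)) :
    Mod48.res (pullModel f P) v.op (sect₁ f P g m) = sect₁ f P (v ≫ g) m := by
  rw [sect₁, res_cls, sumsRes_single, map_one]
  rfl

lemma sect₁_res {V : C} {X X' : D} (g : V ⟶ f.fn.obj X') (h : X' ⟶ X) (m : P.obj (op X)) :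
    sect₁ f P g (Mod48.res P h.op m) = sect₁ f P (g ≫ f.fn.map h) m := by
  rw [sect₁, sect₁, ← sub_eq_zero, ← map_sub, cls_eq_zero]
  refine van_of_vanAt ⟨X', g, 2, ![⟨X', g, Mod48.res P h.op m⟩, ⟨X, g ≫ f.fn.map h, m⟩], ![1, -1],
    Fin.cases (𝟙 X') (Fin.cases h fun j => j.elim0), ?_, ?_, ?_⟩
  · refine Fin.cases ?_ (Fin.cases ?_ fun j => j.elim0)
    · exact ((congrArg (g ≫ ·) (f.fn.map_id X')).trans (Category.comp_id g)).symm
    · rfl
  · simp [Fin.sum_univ_two, sub_eq_add_neg]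
  · rw [Fin.sum_univ_two]
    change Finsupp.single (Mod48.res P (𝟙 X').op (Mod48.res P h.op m)) (1 : O_C.obj.obj (op V)) +
      Finsupp.single (Mod48.res P h.op m) (-1 : O_C.obj.obj (op V)) ∈ rels f P g
    rw [res_res, op_id, Category.comp_id, ← Finsupp.single_add]
    simp

lemma sect₁_linear {V : C} {X : D} (g : V ⟶ f.fn.obj X) {n : ℕ} (r : Fin n → O_D.obj.obj (op X))
    (m : Fin n → P.obj (op X)) :
    sect₁ f P g (∑ i, r i • m i) = ∑ i, sig f g (r i) • sect₁ f P g (m i) := by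
  have h0 : ∀ i, sig f g (r i) • sect₁ f P g (m i) =
      cls f P (Finsupp.single ⟨X, g, m i⟩ (sig f g (r i))) := fun i => (cls_single f P ⟨X, g, m i⟩ _).symm
  rw [Finset.sum_congr rfl fun i _ => h0 i, sect₁, ← map_sum, ← sub_eq_zero, ← map_sub, cls_eq_zero]
  refine van_of_vanAt ⟨X, g, n + 1, Fin.cons ⟨X, g, ∑ i, r i • m i⟩ fun i => ⟨X, g, m i⟩,
    Fin.cons 1 fun i => - sig f g (r i), Fin.cases (𝟙 X) fun _ => 𝟙 X, ?_, ?_, ?_⟩
  · refine Fin.cases ?_ (fun j => ?_) <;>
      exact ((congrArg (g ≫ ·) (f.fn.map_id X)).trans (Category.comp_id g)).symm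
  · rw [Fin.sum_univ_succ]
    simp [sub_eq_add_neg]
  · rw [Fin.sum_univ_succ]
    have hid : ∀ x : P.obj (op X), Mod48.res P (𝟙 X).op x = x := fun x =>
      congr($(P.map_id (op X)) x)
    change Finsupp.single (Mod48.res P (𝟙 X).op (∑ i, r i • m i)) (1 : O_C.obj.obj (op V)) +
      ∑ i, Finsupp.single (Mod48.res P (𝟙 X).op (m i)) (- sig f g (r i)) ∈ rels f P g
    simp only [hid]
    convert mem_rels_of_relation f P g
      (Finsupp.single (∑ i, r i • m i) 1 + ∑ i, Finsupp.single (m i) (- r i)) (by simp) using 1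
    rw [Finsupp.mapRange_add (map_add _), Finsupp.mapRange_single, map_one]
    refine congrArg _ ?_
    refine Eq.trans (Finset.sum_congr rfl fun i _ => ?_)
      (map_sum (Finsupp.mapRange.addMonoidHom (sig f g).toAddMonoidHom) _ _).symm
    exact ((Finsupp.mapRange_single (f := sig f g) (hf := map_zero _)).trans (by rw [map_neg])).symm

end Groth.Agent.SiteMod
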