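import Groth.Agent.SiteMod.PullModel

/-!
The model of the inverse image of a flat module satisfies the local criterion of flatness.
-/

universe u

open CategoryTheory CategoryTheory.Limits Opposite

namespace Groth.Agent.SiteMod

open Mod48

variable {C D : Type u} [SmallCategory C] [SmallCategory D] {J : GrothendieckTopology C}
  {K : GrothendieckTopology D} {O_C : Sheaf J CommRingCat.{u}} {O_D : Sheaf K CommRingCat.{u}}
  (f : ModSite.RMor O_C O_D) (P : PreM O_D)

lemma locTriv_of_local {Q : PreM O_C} {U : C} {n : ℕ} {c : Fin n → O_C.obj.obj (op U)}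
    {s : Fin n → Q.obj (op U)} {S : Sieve U} (hS : S ∈ J U)
    (h : ∀ ⦃V : C⦄ (v : V ⟶ U), S v →
      LocTriv Q (fun i => rres v.op (c i)) (fun i => Mod48.res Q v.op (s i))) : LocTriv Q c s := by
  choose T hT hgood using h
  refine ⟨Sieve.bind S.1 fun V v hv => T v hv, J.bind_covering hS fun V v hv => hT v hv, ?_⟩
  rintro W _ ⟨V, w, v, hv, hw, rfl⟩
  obtain ⟨m, a, t, h1, h2⟩ := hgood v hv w hw
  refine ⟨m, a, t, fun i => ?_, fun j => ?_⟩
  · rw [op_comp, ← res_res]
    exact h1 i
  · simp only [op_comp, ← rres_rres]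
    exact h2 j

variable {f P}

/-- The key case: the relation vanishes in a chart, and all supports map to it. -/
lemma locTriv_core (hP : LocFlat P) {U V : C} (v : V ⟶ U) {X : D} (g : V ⟶ f.fn.obj X)
    {n : ℕ} (c : Fin n → O_C.obj.obj (op U)) (ξ : Fin n → Sums f P U) (τ : Trip f P U → P.obj (op X))
    (hτ : ∀ i, ∀ t ∈ (ξ i).support, ∃ k : X ⟶ t.X, v ≫ t.g = g ≫ f.fn.map k ∧ τ t = Mod48.res P k.op t.m)
    (hmem : ∑ i, rres v.op (c i) • Finsupp.mapDomain τ (Finsupp.mapRange (rres v.op) (map_zero _) (ξ i))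
      ∈ rels f P g) :
    LocTriv (pullModel f P) (fun i => rres v.op (c i))
      (fun i => Mod48.res (pullModel f P) v.op (cls f P (ξ i))) := by
  classical
  obtain ⟨N, r, κ', hκ'⟩ := Submodule.mem_span_set'.1 hmem
  have hrel : ∀ s, ∃ κ : P.obj (op X) →₀ O_D.obj.obj (op X),
      Finsupp.linearCombination (O_D.obj.obj (op X)) id κ = 0 ∧
        Finsupp.mapRange (sig f g) (map_zero _) κ = (κ' s).1 := fun s => (κ' s).2
  choose κ hκ0 hκ using hrel
  let Q : Finset (P.obj (op X)) := (Finset.univ.biUnion fun i => (ξ i).support.image τ) ∪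
    Finset.univ.biUnion fun s => (κ s).support
  obtain ⟨S, hS, hgood⟩ := kill hP Q (List.ofFn fun s => fun q => κ s q) (by
    intro φ hφ
    obtain ⟨s, rfl⟩ := List.mem_ofFn.1 hφ
    have h0 := hκ0 s
    rw [Finsupp.linearCombination_apply, Finsupp.sum_of_support_subset _ (s := Q) ?_ _
      (fun q _ => zero_smul _ q)] at h0
    · exact h0
    · exact fun q hq => Finset.mem_union_right _
        (Finset.mem_biUnion.2 ⟨s, Finset.mem_univ _, hq⟩))
  refine ⟨(S.functorPushforward f.fn).pullback g,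
    J.pullback_stable g (functorPushforward_mem_of_isContinuous J K f.fn hS), fun W y hy => ?_⟩
  obtain ⟨Y, d, a, hd, e⟩ := hy
  obtain ⟨m, A, t, hA, hκA⟩ := hgood d hd
  let E : Fin m → (Comb (O_C := O_C) P X V →+ O_C.obj.obj (op W)) := fun l =>
    Finsupp.liftAddHom fun q =>
      (AddMonoidHom.mulRight (sig f a (A q l))).comp (rres (O := O_C) y.op).toAddMonoidHom
  have hE : ∀ l (q : P.obj (op X)) (b : O_C.obj.obj (op V)),
      E l (Finsupp.single q b) = rres y.op b * sig f a (A q l) := fun l q b => by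
    simp [E]
  have hEsmul : ∀ l (r : O_C.obj.obj (op V)) (x : Comb (O_C := O_C) P X V),
      E l (r • x) = rres y.op r * E l x := by
    intro l r x
    induction x using Finsupp.induction_linear with
    | zero => simp
    | add a b ha hb => rw [smul_add, map_add, map_add, ha, hb, mul_add]
    | single q b => rw [Finsupp.smul_single, hE, hE, smul_eq_mul, map_mul, mul_assoc]
  refine ⟨m, fun i l => E l (Finsupp.mapDomain τ (Finsupp.mapRange (rres v.op) (map_zero _) (ξ i))),
    fun l => sect₁ f P a (t l), fun i => ?_, fun l => ?_⟩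
  · have hkey : ∀ (ζ : Sums f P U), ζ.support ⊆ (ξ i).support →
        Mod48.res (pullModel f P) y.op (Mod48.res (pullModel f P) v.op (cls f P ζ)) =
          ∑ l, E l (Finsupp.mapDomain τ (Finsupp.mapRange (rres v.op) (map_zero _) ζ)) • sect₁ f P a (t l) := by
      intro ζ
      induction ζ using Finsupp.induction with
      | zero =>
        intro _
        simp [map_zero, res_zero]
      | single_add p b ζ hp hb ih =>
        intro hsub
        rw [Finsupp.support_single_add hp hb] at hsub
        have hps : p ∈ (ξ i).support := hsub (Finset.mem_cons_self _ _)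
        have hζ : ζ.support ⊆ (ξ i).support := fun x hx => hsub (Finset.mem_cons_of_mem hx)
        obtain ⟨k, hk, hτp⟩ := hτ i p hps
        rw [map_add, res_add, res_add, Finsupp.mapRange_add (map_add _), Finsupp.mapDomain_add, ih hζ]
        simp only [map_add, add_smul, Finset.sum_add_distrib]
        refine congrArg (· + _) ?_
        rw [Finsupp.mapRange_single, Finsupp.mapDomain_single]
        simp only [hE]
        rw [cls_single, res_smul, res_smul, res_sect₁, res_sect₁, ← Category.assoc, Category.assoc, hk,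
          ← Category.assoc, e, Category.assoc, ← f.fn.map_comp, ← sect₁_res f P a, op_comp, ← res_res,
          ← hτp, hA (τ p) (Finset.mem_union_left _
            (Finset.mem_biUnion.2 ⟨i, Finset.mem_univ _, Finset.mem_image_of_mem τ hps⟩)),
          sect₁_linear, Finset.smul_sum]
        exact Finset.sum_congr rfl fun l _ => smul_smul _ _ _
    exact hkey _ (subset_refl _)
  · simp only [← hEsmul, ← map_sum]
    rw [← hκ', map_sum]
    refine Finset.sum_eq_zero fun s _ => ?_
    rw [hEsmul, ← hκ s]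
    refine mul_eq_zero_of_right _ ?_
    have h1 : ∀ ρ : P.obj (op X) →₀ O_D.obj.obj (op X), E l (Finsupp.mapRange (sig f g) (map_zero _) ρ) =
        sig f a (ρ.sum fun q z => rres d.op z * A q l) := by
      intro ρ
      induction ρ using Finsupp.induction_linear with
      | zero => simp
      | add a' b' ha hb =>
        rw [Finsupp.mapRange_add (map_add _), map_add, ha, hb, Finsupp.sum_add_index' (by simp)
          (by simp [add_mul]), map_add]
      | single q z =>
        rw [Finsupp.mapRange_single, hE, rres_sig f e, Finsupp.sum_single_index (by simp), map_mul]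
    rw [h1, Finsupp.sum_of_support_subset _ (s := Q) ?_ _ (by simp),
      hκA _ (List.mem_ofFn.2 ⟨s, rfl⟩) l, map_zero]
    exact fun q hq => Finset.mem_union_right _ (Finset.mem_biUnion.2 ⟨s, Finset.mem_univ _, hq⟩)

theorem locFlat_pullModel (hP : LocFlat P) : LocFlat (pullModel f P) := by
  classical
  intro U n c s hs
  choose ξ hξ using fun i => cls_surjective f P (s i)
  obtain rfl : (fun i => cls f P (ξ i)) = s := funext hξ
  have hv : Van f P (∑ i, c i • ξ i) := by
    rw [← cls_eq_zero, map_sum]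
    simpa using hs
  obtain ⟨S, hS, hgood⟩ := hv
  refine locTriv_of_local hS fun V v hv => ?_
  obtain ⟨X₀, g₀, n₀, t, b, h, ht, hsum, hmem⟩ := hgood v hv
  let I : Finset (Trip f P V) :=
    (Finset.univ.biUnion fun i => (sumsRes f P v (ξ i)).support) ∪ Finset.univ.image t
  let eI := I.equivFin
  obtain ⟨S₁, hS₁, h₁⟩ := exists_common J K f.fn (W := V)
    (Fin.cons X₀ fun j : Fin I.card => (eI.symm j).1.X)
    (Fin.cases g₀ fun j : Fin I.card => (eI.symm j).1.g)
  refine locTriv_of_local hS₁ fun V₁ v₁ hv₁ => ?_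
  obtain ⟨Z, g₁, p, hp⟩ := h₁ v₁ hv₁
  obtain ⟨p₀, hp₀⟩ : ∃ p₀ : Z ⟶ X₀, v₁ ≫ g₀ = g₁ ≫ f.fn.map p₀ := ⟨p 0, hp 0⟩
  have hq : ∀ x : I, ∃ k : Z ⟶ x.1.X, v₁ ≫ x.1.g = g₁ ≫ f.fn.map k := fun x => by
    obtain ⟨j, rfl⟩ := eI.symm.surjective x
    exact ⟨p j.succ, hp j.succ⟩
  choose q hq using hq
  have htI : ∀ j, t j ∈ I := fun j =>
    Finset.mem_union_right _ (Finset.mem_image_of_mem _ (Finset.mem_univ j))
  obtain ⟨S₂, hS₂, h₂⟩ := exists_equalize J K f.fn g₁ (fun j => (t j).X)
    (fun j => q ⟨t j, htI j⟩) (fun j => p₀ ≫ h j) (fun j => by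
      rw [← hq ⟨t j, htI j⟩, f.fn.map_comp, ← Category.assoc g₁, ← hp₀, Category.assoc]
      exact congrArg (v₁ ≫ ·) (ht j))
  refine locTriv_of_local hS₂ fun V₂ v₂ hv₂ => ?_
  obtain ⟨Z', g₂, k, hk, hk'⟩ := h₂ v₂ hv₂
  let τ : Trip f P V → P.obj (op Z') := fun x =>
    if hx : x ∈ I then Mod48.res P (k ≫ q ⟨x, hx⟩).op x.m else 0
  have hτ : ∀ i, ∀ x ∈ (sumsRes f P v (ξ i)).support, ∃ k' : Z' ⟶ x.X,
      (v₂ ≫ v₁) ≫ x.g = g₂ ≫ f.fn.map k' ∧ τ x = Mod48.res P k'.op x.m := by
    intro i x hx
    have hxI : x ∈ I := Finset.mem_union_left _ (Finset.mem_biUnion.2 ⟨i, Finset.mem_univ _, hx⟩)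
    refine ⟨k ≫ q ⟨x, hxI⟩, ?_, dif_pos hxI⟩
    rw [Category.assoc, hq ⟨x, hxI⟩, ← Category.assoc, hk, Category.assoc, f.fn.map_comp]
  have hcore := locTriv_core (f := f) hP (v₂ ≫ v₁) g₂ (fun i => rres v.op (c i))
    (fun i => sumsRes f P v (ξ i)) τ hτ (by
      let Λ : Sums f P V →+ Comb (O_C := O_C) P Z' V₂ :=
        (Finsupp.mapDomain.addMonoidHom τ).comp
          (Finsupp.mapRange.addMonoidHom (rres (O := O_C) (v₂ ≫ v₁).op).toAddMonoidHom)
      have hΛ : ∀ (r : O_C.obj.obj (op V)) (x : Sums f P V), Λ (r • x) = rres (v₂ ≫ v₁).op r • Λ x := by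
        intro r x
        induction x using Finsupp.induction_linear with
        | zero => simp
        | add a b ha hb => rw [smul_add, map_add, map_add, ha, hb, smul_add]
        | single y z => simp [Λ, smul_eq_mul]
      have h2 : ∑ i, rres (v₂ ≫ v₁).op (rres v.op (c i)) • Λ (sumsRes f P v (ξ i)) =
          Λ (sumsRes f P v (∑ i, c i • ξ i)) := by
        simp only [← hΛ, ← map_sum, ← sumsRes_smul]
      refine Eq.mpr (congrArg (· ∈ rels f P g₂) h2) ?_
      have hg : (v₂ ≫ v₁) ≫ g₀ = g₂ ≫ f.fn.map (k ≫ p₀) := by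
        rw [Category.assoc, hp₀, ← Category.assoc, hk, Category.assoc, f.fn.map_comp]
      have h3 := combRes_mem f P hg hmem
      rw [map_sum] at h3
      rw [hsum, map_sum]
      convert h3 using 2 with j
      simp only [Λ, AddMonoidHom.comp_apply, Finsupp.mapRange.addMonoidHom_apply,
        Finsupp.mapDomain.addMonoidHom_apply, combRes_single, Finsupp.mapRange_single,
        Finsupp.mapDomain_single, τ, dif_pos (htI j)]
      rw [res_res, ← op_comp, hk' j, Category.assoc]
      rfl)
  simp only [← rres_rres, op_comp, ← res_res, res_cls] at hcore ⊢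
  exact hcore

end Groth.Agent.SiteMod
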