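import Groth.Agent.SiteMod.GenTensor
import Mathlib.CategoryTheory.Sites.Pullback
import Mathlib.CategoryTheory.Sites.LeftExact
import Mathlib.CategoryTheory.Limits.Preserves.Shapes.BinaryProducts

/-!
An exact inverse image of sheaves of sets sends pairs of arrows to pairs of arrows.
-/

universe u

open CategoryTheory CategoryTheory.Limits Opposite

namespace Groth.Agent.SiteMod

section Site

variable {C : Type u} [SmallCategory C] (J : GrothendieckTopology C) (X Y : C)

/-- First projection. -/
def prodT.fst : prodT X Y ⟶ yoneda.obj X where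
  app W := ↾fun p => p.1
  naturality W W' h := by ext p; rfl

/-- Second projection. -/
def prodT.snd : prodT X Y ⟶ yoneda.obj Y where
  app W := ↾fun p => p.2
  naturality W W' h := by ext p; rfl

/-- Pairs of arrows form the product of the representable presheaves. -/
def prodT.isLimit : IsLimit (BinaryFan.mk (prodT.fst X Y) (prodT.snd X Y)) :=
  BinaryFan.isLimitMk
    (fun s =>
      { app := fun W => ↾fun x => ((s.fst : s.pt ⟶ yoneda.obj X).app W x,
          (s.snd : s.pt ⟶ yoneda.obj Y).app W x)
        naturality := fun W W' h => by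
          ext x
          refine Prod.ext ?_ ?_
          · exact ConcreteCategory.congr_hom ((s.fst : s.pt ⟶ yoneda.obj X).naturality h) x
          · exact ConcreteCategory.congr_hom ((s.snd : s.pt ⟶ yoneda.obj Y).naturality h) x })
    (fun s => rfl) (fun s => rfl)
    (fun s m h1 h2 => by
      ext W x
      refine Prod.ext ?_ ?_
      · exact ConcreteCategory.congr_hom (NatTrans.congr_app h1 W) x
      · exact ConcreteCategory.congr_hom (NatTrans.congr_app h2 W) x)

/-- The sheaf associated with a representable presheaf. -/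
noncomputable abbrev ysh : Sheaf J (Type u) := (presheafToSheaf J (Type u)).obj (yoneda.obj X)

/-- The comparison with the product of sheaves. -/
noncomputable def prodShIso : (presheafToSheaf J (Type u)).obj (prodT X Y) ≅ ysh J X ⨯ ysh J Y :=
  (mapIsLimitOfPreservesOfIsLimit (presheafToSheaf J (Type u)) _ _ (prodT.isLimit X Y)).conePointUniqueUpToIso
    (limit.isLimit (pair (ysh J X) (ysh J Y)))

lemma prodShIso_hom_fst : (prodShIso J X Y).hom ≫ prod.fst =
    (presheafToSheaf J (Type u)).map (prodT.fst X Y) :=
  IsLimit.conePointUniqueUpToIso_hom_comp (mapIsLimitOfPreservesOfIsLimit (presheafToSheaf J (Type u)) _ _ (prodT.isLimit X Y)) (limit.isLimit (pair (ysh J X) (ysh J Y))) ⟨WalkingPair.left⟩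

lemma prodShIso_hom_snd : (prodShIso J X Y).hom ≫ prod.snd =
    (presheafToSheaf J (Type u)).map (prodT.snd X Y) :=
  IsLimit.conePointUniqueUpToIso_hom_comp (mapIsLimitOfPreservesOfIsLimit (presheafToSheaf J (Type u)) _ _ (prodT.isLimit X Y)) (limit.isLimit (pair (ysh J X) (ysh J Y))) ⟨WalkingPair.right⟩

end Site

variable {C D : Type u} [SmallCategory C] [SmallCategory D] (J : GrothendieckTopology C)
  (K : GrothendieckTopology D) (u : D ⥤ C) [u.IsContinuous K J]

section Pull

variable (P : Dᵒᵖ ⥤ Type u) (P' : Cᵒᵖ ⥤ Type u)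

/-- Maps out of the inverse image of a sheafified presheaf. -/
noncomputable def pullShEquiv (G : Sheaf J (Type u)) :
    ((u.sheafPullback (Type u) K J).obj ((presheafToSheaf K (Type u)).obj P) ⟶ G) ≃
      (P ⟶ u.op ⋙ G.obj) :=
  ((u.sheafAdjunctionContinuous (Type u) K J).homEquiv _ G).trans
    ((sheafificationAdjunction K (Type u)).homEquiv P _)

lemma pullShEquiv_comp {G G' : Sheaf J (Type u)}
    (a : (u.sheafPullback (Type u) K J).obj ((presheafToSheaf K (Type u)).obj P) ⟶ G) (f : G ⟶ G') :
    pullShEquiv J K u P G' (a ≫ f) = pullShEquiv J K u P G a ≫ Functor.whiskerLeft u.op f.hom := by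
  simp only [pullShEquiv, Equiv.trans_apply, Adjunction.homEquiv_naturality_right]
  rfl

lemma pullShEquiv_map {P₁ : Dᵒᵖ ⥤ Type u} (a : P₁ ⟶ P) {G : Sheaf J (Type u)}
    (f : (u.sheafPullback (Type u) K J).obj ((presheafToSheaf K (Type u)).obj P) ⟶ G) :
    pullShEquiv J K u P₁ G
        ((u.sheafPullback (Type u) K J).map ((presheafToSheaf K (Type u)).map a) ≫ f) =
      a ≫ pullShEquiv J K u P G f := by
  simp only [pullShEquiv, Equiv.trans_apply, Adjunction.homEquiv_naturality_left]
  exact (sheafificationAdjunction K (Type u)).homEquiv_naturality_left _ _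

variable {P P'}

/-- The comparison morphism attached to a map of presheaves. -/
noncomputable def pullShMap (ρ : P ⟶ u.op ⋙ P') :
    (u.sheafPullback (Type u) K J).obj ((presheafToSheaf K (Type u)).obj P) ⟶
      (presheafToSheaf J (Type u)).obj P' :=
  (pullShEquiv J K u P _).symm (ρ ≫ Functor.whiskerLeft u.op (toSheafify J P'))

lemma pullShEquiv_pullShMap_comp (ρ : P ⟶ u.op ⋙ P') {G : Sheaf J (Type u)}
    (φ : (presheafToSheaf J (Type u)).obj P' ⟶ G) :
    pullShEquiv J K u P G (pullShMap J K u ρ ≫ φ) =
      ρ ≫ Functor.whiskerLeft u.op ((sheafificationAdjunction J (Type u)).homEquiv P' G φ) := by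
  rw [pullShEquiv_comp, pullShMap, Equiv.apply_symm_apply, Adjunction.homEquiv_unit]
  rfl

lemma isIso_pullShMap_iff (ρ : P ⟶ u.op ⋙ P') :
    IsIso (pullShMap J K u ρ) ↔ ∀ G : Sheaf J (Type u),
      Function.Bijective fun Ψ : P' ⟶ G.obj => ρ ≫ Functor.whiskerLeft u.op Ψ := by
  rw [isIso_iff_coyoneda_map_bijective]
  refine forall_congr' fun G => ?_
  rw [← Function.Bijective.of_comp_iff' (pullShEquiv J K u P G).bijective,
    ← Function.Bijective.of_comp_iff _ ((sheafificationAdjunction J (Type u)).homEquiv P' G).symm.bijective]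
  refine iff_of_eq (congrArg _ (funext fun Ψ => ?_))
  rw [Function.comp_apply, Function.comp_apply, pullShEquiv_pullShMap_comp, Equiv.apply_symm_apply]

end Pull

/-- The map on pairs of arrows. -/
def pairMap (X Y : D) : prodT X Y ⟶ u.op ⋙ prodT (u.obj X) (u.obj Y) where
  app W := ↾fun p => (u.map p.1, u.map p.2)
  naturality W W' h := by
    ext p
    refine Prod.ext ?_ ?_
    · exact u.map_comp _ _
    · exact u.map_comp _ _

/-- The map on arrows. -/
def arrMap (X : D) : yoneda.obj X ⟶ u.op ⋙ yoneda.obj (u.obj X) where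
  app W := ↾fun g => u.map g
  naturality W W' h := by
    ext p
    exact u.map_comp _ _

lemma isIso_pullShMap_arrMap (X : D) : IsIso (pullShMap J K u (arrMap u X)) := by
  rw [isIso_pullShMap_iff]
  intro G
  refine (Function.Bijective.of_comp_iff' (yonedaEquiv (X := X) (F := u.op ⋙ G.obj)).bijective _).1 ?_
  have : (yonedaEquiv (X := X) (F := u.op ⋙ G.obj)) ∘
      (fun Ψ : yoneda.obj (u.obj X) ⟶ G.obj => arrMap u X ≫ Functor.whiskerLeft u.op Ψ) =
        yonedaEquiv (X := u.obj X) (F := G.obj) := by
    funext Ψ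
    change Ψ.app (op (u.obj X)) (u.map (𝟙 X)) = Ψ.app (op (u.obj X)) (𝟙 (u.obj X))
    rw [u.map_id]
  rw [this]
  exact Equiv.bijective _

theorem bijective_pairMap [PreservesFiniteLimits (u.sheafPullback (Type u) K J)] (X Y : D)
    (G : Sheaf J (Type u)) :
    Function.Bijective fun Ψ : prodT (u.obj X) (u.obj Y) ⟶ G.obj =>
      pairMap u X Y ≫ Functor.whiskerLeft u.op Ψ := by
  have := isIso_pullShMap_arrMap J K u X
  have := isIso_pullShMap_arrMap J K u Y
  refine (isIso_pullShMap_iff J K u (pairMap u X Y)).1 ?_ G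
  let F := u.sheafPullback (Type u) K J
  have h : pullShMap J K u (pairMap u X Y) ≫ (prodShIso J (u.obj X) (u.obj Y)).hom =
      F.map (prodShIso K X Y).hom ≫ prodComparison F _ _ ≫
        prod.map (pullShMap J K u (arrMap u X)) (pullShMap J K u (arrMap u Y)) := by
    apply prod.hom_ext
    · simp only [Category.assoc, prod.map_fst, prodComparison_fst_assoc, prodShIso_hom_fst]
      rw [← Functor.map_comp_assoc, prodShIso_hom_fst]
      apply (pullShEquiv J K u _ _).injective
      rw [pullShEquiv_pullShMap_comp, pullShEquiv_map, pullShMap, Equiv.apply_symm_apply,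
        Adjunction.homEquiv_unit]
      ext W p
      exact ConcreteCategory.congr_hom (NatTrans.congr_app
        (toSheafify_naturality J (prodT.fst (u.obj X) (u.obj Y))) (op (u.obj W.unop))) _ |>.symm
    · simp only [Category.assoc, prod.map_snd, prodComparison_snd_assoc, prodShIso_hom_snd]
      rw [← Functor.map_comp_assoc, prodShIso_hom_snd]
      apply (pullShEquiv J K u _ _).injective
      rw [pullShEquiv_pullShMap_comp, pullShEquiv_map, pullShMap, Equiv.apply_symm_apply,
        Adjunction.homEquiv_unit]
      ext W p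
      exact ConcreteCategory.congr_hom (NatTrans.congr_app
        (toSheafify_naturality J (prodT.snd (u.obj X) (u.obj Y))) (op (u.obj W.unop))) _ |>.symm
  have : IsIso (pullShMap J K u (pairMap u X Y) ≫ (prodShIso J (u.obj X) (u.obj Y)).hom) := by
    rw [h]
    infer_instance
  exact IsIso.of_isIso_comp_right _ (prodShIso J (u.obj X) (u.obj Y)).hom

end Groth.Agent.SiteMod
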