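import Groth.Agent.SiteMod.PushTensor
import Groth.Agent.SiteMod.PullPairs

/-!
The comparison `f^*(M ⊗ N) ⟶ f^* M ⊗ f^* N` on freely generated modules.
-/

universe u

open CategoryTheory CategoryTheory.Limits Opposite MonoidalCategory

namespace Groth.Agent.SiteMod

open Mod48

variable {C D : Type u} [SmallCategory C] [SmallCategory D] {J : GrothendieckTopology C}
  {K : GrothendieckTopology D} {O_C : Sheaf J CommRingCat.{u}} {O_D : Sheaf K CommRingCat.{u}}
  (f : ModSite.RMor O_C O_D)

/-- The section of the inverse image given by a section. -/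
noncomputable abbrev pullSect (M : ModSite.Mod O_D) {X : D} (m : (pre M).obj (op X)) :
    (pre (f.pull.obj M)).obj (op (f.fn.obj X)) :=
  ofPush f (f.pull.obj M) ((fgt.map (f.adj.unit.app M)).app (op X) m)

lemma isGen_pull {M : ModSite.Mod O_D} {X : D} {m : (pre M).obj (op X)} (hm : IsGen M X m) :
    IsGen (f.pull.obj M) (f.fn.obj X) (pullSect f M m) := by
  intro G
  have : (fun φ : f.pull.obj M ⟶ G => (fgt.map φ).app (op (f.fn.obj X)) (pullSect f M m)) =
      (fun φ : M ⟶ f.push.obj G => (fgt.map φ).app (op X) m) ∘ f.adj.homEquiv M G := by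
    funext φ
    rw [Function.comp_apply, Adjunction.homEquiv_unit]
    rfl
  rw [this]
  exact (hm (f.push.obj G)).comp (f.adj.homEquiv M G).bijective

lemma isIso_pullTensHom_of_isGen {M N : ModSite.Mod O_D} {X Y : D} {m : (pre M).obj (op X)}
    {n : (pre N).obj (op Y)} (hm : IsGen M X m) (hn : IsGen N Y n) :
    IsIso (pullTensHom f M N) := by
  refine (isIso_iff_coyoneda_map_bijective _).2 fun G => ?_
  have hC := bijective_pairVal (isGen_pull f hm) (isGen_pull f hn) G
  have hD := bijective_pairVal hm hn (f.push.obj G)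
  have hP := bijective_pairMap J K f.fn X Y
    ((sheafCompose J (forget AddCommGrpCat.{u})).obj (ModSite.toAb G))
  have key : (pairVal M N m n (f.push.obj G)) ∘ (f.adj.homEquiv _ G) ∘
      (fun φ : tens (f.pull.obj M) (f.pull.obj N) ⟶ G => pullTensHom f M N ≫ φ) =
        (fun Ψ => pairMap f.fn X Y ≫ Functor.whiskerLeft f.fn.op Ψ) ∘
          (pairVal (f.pull.obj M) (f.pull.obj N) (pullSect f M m) (pullSect f N n) G) := by
    funext φ
    ext W p
    refine (pullTensHom_comp_tp f M N φ (W := W.unop) (res (pre M) p.1.op m) (res (pre N) p.2.op n)).trans ?_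
    refine congrArg ((shfHomEquiv _ G φ).app (op (f.fn.obj W.unop))) (congrArg₂ (fun a b => tp a b) ?_ ?_)
    · exact app_res (fgt.map (f.adj.unit.app M)) p.1.op m
    · exact app_res (fgt.map (f.adj.unit.app N)) p.2.op n
  refine (Function.Bijective.of_comp_iff' (f.adj.homEquiv _ G).bijective _).1 ?_
  refine (Function.Bijective.of_comp_iff' hD _).1 ?_
  rw [key]
  exact hP.comp hC

end Groth.Agent.SiteMod
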